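import Groth.Agent.HilbLoc.ModHom
import Groth.Agent.ProjTwist.Tensor
import Groth.Agent.ProperFin.Descend
import Groth.Agent.InjMod.GenExtZero
import Groth.Prelude.Def_DCoh4
import Groth.Prelude.Def_Omega2

/-!
# Global sections of the normal sheaf are maps `I → O/I`
-/

set_option autoImplicit false

universe u

open CategoryTheory AlgebraicGeometry Limits

noncomputable section

namespace Groth.Agent.HilbLoc

variable {X Y : Scheme.{u}} (i : X ⟶ Y) [IsClosedImmersion i]

instance isIso_unitToPush {Z W : Scheme.{u}} (e : Z ⟶ W) [IsIso e] : IsIso (ClSub.unitToPush e) :=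
  CohAff.isIso_of_affine_bijective _ fun V _ => (ConcreteCategory.isIso_iff_bijective (e.app V)).1 inferInstance

/-- `O/I` as a direct image. -/
def quotModIso : ClSub.quotMod i.ker ≅ (Scheme.Modules.pushforward i).obj (Coh.structureModule X) :=
  (Scheme.Modules.pushforward i.ker.subschemeι).mapIso (asIso (ClSub.unitToPush i.toImage)) ≪≫
    (Scheme.Modules.pushforwardComp i.toImage i.imageι).app _ ≪≫
    (Scheme.Modules.pushforwardCongr i.toImage_imageι).app _

/-- Global sections of the normal sheaf. -/
def normalEquiv [DCoh.HasSheafHom (Omega.conormal i)] :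
    (ClSub.idealMod i.ker ⟶ ClSub.quotMod i.ker) ≃
      Coh.HH X ((DCoh.sheafHom (Omega.conormal i)).obj (Coh.structureModule X)) 0 :=
  (((Iso.refl (ClSub.idealMod i.ker)).homCongr (quotModIso i)).trans
    ((Scheme.Modules.pullbackPushforwardAdjunction i).homEquiv _ _).symm).trans
  (((ProjTwist.tensOne (Omega.conormal i)).symm.homCongr (Iso.refl _)).trans
    (((DCoh.sheafHomAdj (Omega.conormal i)).homEquiv (Coh.structureModule X) (Coh.structureModule X)).trans
      ((InjMod.unitEquiv _).trans (ProperFin.h0Sec _).toEquiv.symm)))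

end Groth.Agent.HilbLoc
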