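import Groth.Agent.HilbLoc.FinDim
import Groth.Agent.HilbLoc.Normal
import Groth.Agent.ExtHom.Linear

/-!
# The tangent space of the local Hilbert functor is `H⁰` of the normal sheaf
-/

set_option autoImplicit false

universe u

open CategoryTheory AlgebraicGeometry IsLocalRing Limits TopologicalSpace OmegaSh
open Groth.Agent.Omega.Stalks

noncomputable section

namespace Groth.Agent.HilbLoc

open ArtFun ArtFun.Art DefSchLib

variable {k : Type u} [Field k] {Z Y : Scheme.{u}} {y : Y ⟶ specPt k} (i : Z ⟶ Y) [IsClosedImmersion i]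

lemma push_surjective (U : Y.affineOpens) : Function.Surjective (push i U) := fun t => by
  obtain ⟨a, ha⟩ := i.app_surjective U.1 U.2 t
  exact ⟨Ideal.Quotient.mk _ a, ha⟩

/-- Morphisms out of the ideal are determined on affine opens. -/
lemma hom_ext_affine {M N : Y.Modules} {f g : M ⟶ N}
    (h : ∀ (U : Y.affineOpens) (s : Γ(M, U.1)), f.app U.1 s = g.app U.1 s) : f = g := by
  refine Scheme.Modules.hom_ext _ _ fun V => ?_
  ext s
  refine QCoh.eq_of_locally_eq _ (fun W : {W : Y.affineOpens // W.1 ≤ V} => W.2)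
    (CohAff.le_iSup_affine_le V) _ _ fun W => ?_
  rw [← QCoh.app_res, ← QCoh.app_res]
  exact h W.1 _

variable (y) in
/-- The morphism `I → i_* O` of a first-order deformation. -/
def valHom (I : (localHilb Y y i.ker).obj (dual k k)) :
    ClSub.idealMod i.ker ⟶ (Scheme.Modules.pushforward i).obj (Coh.structureModule Z) :=
  (exists_hom_push i (val step_epsD I) (val_props step_epsD I).1 (val_props step_epsD I).2.1
    (val_props step_epsD I).2.2).choose

lemma valHom_app (I : (localHilb Y y i.ker).obj (dual k k)) (U : Y.affineOpens)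
    (s : Γ(ClSub.idealMod i.ker, U.1)) :
    (valHom y i I).app U.1 s = push i U (val step_epsD I U
      ⟨idealSect i.ker U.1 s, IdealSh.IdealMod.sect_mem i.ker U s⟩) :=
  (exists_hom_push i (val step_epsD I) (val_props step_epsD I).1 (val_props step_epsD I).2.1
    (val_props step_epsD I).2.2).choose_spec U s

lemma valHom_injective : Function.Injective (valHom y i) := by
  intro I I' h
  refine val_injective step_epsD fun U a => push_injective i U ?_
  obtain ⟨s, hs⟩ := exists_sect' i.ker U a.2
  rw [← show (⟨idealSect i.ker U.1 s, IdealSh.IdealMod.sect_mem i.ker U s⟩ : i.ker.ideal U) = a from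
    Subtype.ext hs, ← valHom_app, ← valHom_app, h]

lemma valHom_surjective : Function.Surjective (valHom y i) := by
  intro ψ
  choose s hs using fun (U : Y.affineOpens) (a : i.ker.ideal U) => exists_sect' i.ker U a.2
  choose v hv using fun (U : Y.affineOpens) (a : i.ker.ideal U) => push_surjective i U (ψ.app U.1 (s U a))
  have key : ∀ (U : Y.affineOpens) (a : i.ker.ideal U) (t : Γ(ClSub.idealMod i.ker, U.1)),
      idealSect i.ker U.1 t = a.1 → push i U (v U a) = ψ.app U.1 t := fun U a t ht => by
    rw [hv, idealSect_injective i.ker U.1 ((hs U a).trans ht.symm)]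
  have hva : ∀ U a b, v U (a + b) = v U a + v U b := fun U a b => push_injective i U (by
    rw [key U (a + b) (s U a + s U b) ((map_add _ _ _).trans (congrArg₂ (· + ·) (hs U a) (hs U b))),
      map_add, map_add, hv, hv]
    rfl)
  have hvm : ∀ U (r : Γ(Y, U.1)) a, v U (r • a) = Ideal.Quotient.mk _ r * v U a := fun U r a =>
    push_injective i U (by
    rw [key U (r • a) (r • s U a) ((idealSect_smul _ _ _ _).trans (congrArg (r * ·) (hs U a))),
      map_mul, Scheme.Modules.Hom.app_smul, hv]
    rfl)
  have hvn : ∀ (U U' : Y.affineOpens) (h : U'.1 ≤ U.1) (a : i.ker.ideal U) (a' : i.ker.ideal U'),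
      res h (a : Γ(Y, U.1)) = a' → ∀ c, v U a = Ideal.Quotient.mk _ c →
        v U' a' = Ideal.Quotient.mk _ (res h c) := fun U U' h a a' haa c hc => push_injective i U' (by
    rw [key U' a' (QCoh.res (ClSub.idealMod i.ker) h (s U a))
      ((idealSect_map i.ker (homOfLE h) _).trans ((congrArg _ (hs U a)).trans haa)), QCoh.app_res,
      ← hv U a, hc]
    exact congr($((i.naturality (homOfLE h).op)) c).symm)
  obtain ⟨I', -, hmem⟩ := exists_translate_val step_epsD (triv y i.ker (dual k k)) v hva hvm hvn
  refine ⟨I', hom_ext_affine fun U t => ?_⟩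
  let a : i.ker.ideal U := ⟨idealSect i.ker U.1 t, IdealSh.IdealMod.sect_mem i.ker U t⟩
  obtain ⟨b, hb⟩ := Ideal.Quotient.mk_surjective (v U a)
  obtain ⟨z, hz, hzy⟩ : ∃ z ∈ idl y (triv y i.ker (dual k k)).1 U, res₀ y _ U z = a.1 :=
    (Ideal.mem_map_iff_of_surjective _ (res₀_surjective y _ U)).1 (by rw [map_res₀_elt]; exact a.2)
  rw [valHom_app, val_eq step_epsD (c := v U a)
    ⟨z, hz, z + e y epsD U b, hmem U z hz b a hzy hb, b, hzy, by ring, hb.symm⟩]
  exact key U a t rfl

section Linear

variable [T : TangentStr (localHilb Y y i.ker)]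

lemma valHom_add (I I' : TangentSpace (localHilb Y y i.ker)) :
    valHom y i (TangentSpace.val (I + I')) =
      valHom y i (TangentSpace.val I) + valHom y i (TangentSpace.val I') := by
  refine hom_ext_affine fun U s => ?_
  change (valHom y i (TangentSpace.val (I + I'))).app U.1 s =
    (valHom y i (TangentSpace.val I)).app U.1 s + (valHom y i (TangentSpace.val I')).app U.1 s
  obtain ⟨W, hW₁, hW₂⟩ := ArtFunLib.exists_pair_elt (localHilb Y y i.ker) (h0_localHilb y i.ker)
    (fun _ _ _ _ h => cmp_bijective_localHilb h fun c => (dual k k).res_surjective c)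
    (TangentSpace.val I) (TangentSpace.val I')
  have hsum : TangentSpace.val (I + I') = (localHilb Y y i.ker).map plus W := by
    rw [← T.add_eq W, hW₁, hW₂]
    rfl
  rw [valHom_app, valHom_app, valHom_app, hsum,
    val_plus step_epsD W ε₁ ε₂ max_le_span ⟨rfl, rfl⟩ ⟨rfl, rfl⟩
      ⟨TrivSqZeroExt.ext rfl (add_zero (1 : k)), TrivSqZeroExt.ext rfl (zero_add (1 : k))⟩ max_mul, hW₁, hW₂]
  exact map_add (push i U) _ _

lemma valHom_smul (c : k) (I : TangentSpace (localHilb Y y i.ker)) :
    valHom y i (TangentSpace.val (c • I)) = valHom y i (TangentSpace.val I) ≫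
      (Scheme.Modules.pushforward i).map (Formal.smulModΓ (Coh.structureModule Z) (Coh.toGlobal (i ≫ y) c)) := by
  refine hom_ext_affine fun U s => ?_
  have hsc : TangentSpace.val (c • I) = (localHilb Y y i.ker).map (scale c) (TangentSpace.val I) :=
    T.smul_eq c (TangentSpace.val I)
  rw [valHom_app, hsc, val_scale step_epsD c (scale_eps c), map_mul]
  refine Eq.trans ?_ (KLin.smulModΓ_app_apply (Coh.structureModule Z) (Coh.toGlobal (i ≫ y) c) (i ⁻¹ᵁ U.1)
    ((valHom y i (TangentSpace.val I)).app U.1 s)).symm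
  rw [valHom_app]
  exact congrArg (· * _) (app_str i U.1 c)

end Linear

/-- Maps `C → O` as global sections of the sheaf Hom. -/
def homHH (C : Z.Modules) [DCoh.HasSheafHom C] :
    (C ⟶ Coh.structureModule Z) ≃ Coh.HH Z ((DCoh.sheafHom C).obj (Coh.structureModule Z)) 0 :=
  ((ProjTwist.tensOne C).symm.homCongr (Iso.refl _)).trans
    (((DCoh.sheafHomAdj C).homEquiv (Coh.structureModule Z) (Coh.structureModule Z)).trans
      ((InjMod.unitEquiv _).trans (ProperFin.h0Sec _).toEquiv.symm))

lemma homHH_apply (C : Z.Modules) [DCoh.HasSheafHom C] (g : C ⟶ Coh.structureModule Z) :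
    homHH C g = (ProperFin.h0Sec _).symm (InjMod.unitEquiv _
      ((DCoh.sheafHomAdj C).homEquiv _ _ ((ProjTwist.tensOne C).hom ≫ g))) := by
  simp [homHH, Iso.homCongr]
  rfl

lemma sheafHom_homEquiv_add (C M N : Z.Modules) [DCoh.HasSheafHom C]
    (f f' : ((DCoh.tensorBi (X := Z)).obj C).obj M ⟶ N) :
    (DCoh.sheafHomAdj C).homEquiv M N (f + f') =
      (DCoh.sheafHomAdj C).homEquiv M N f + (DCoh.sheafHomAdj C).homEquiv M N f' := by
  rw [Adjunction.homEquiv_unit, Adjunction.homEquiv_unit, Adjunction.homEquiv_unit]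
  haveI : (DCoh.sheafHom C).Additive := (DCoh.sheafHomAdj C).right_adjoint_additive
  rw [Functor.map_add, Preadditive.comp_add]

lemma homHH_add (C : Z.Modules) [DCoh.HasSheafHom C] (g g' : C ⟶ Coh.structureModule Z) :
    homHH C (g + g') = homHH C g + homHH C g' := by
  rw [homHH_apply, homHH_apply, homHH_apply, ← map_add]
  congr 1
  rw [Preadditive.comp_add]
  exact congrArg (InjMod.unitEquiv _) (sheafHom_homEquiv_add C
    (Coh.structureModule Z) (Coh.structureModule Z) ((ProjTwist.tensOne C).hom ≫ g)
    ((ProjTwist.tensOne C).hom ≫ g'))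

lemma homHH_smul (C : Z.Modules) [DCoh.HasSheafHom C] (r : Coh.Γtop Z) (g : C ⟶ Coh.structureModule Z) :
    homHH C (g ≫ Formal.smulModΓ (Coh.structureModule Z) r) = r • homHH C g := by
  refine (ProperFin.h0Sec _).injective ?_
  rw [ProperFin.h0Sec_smul, homHH_apply, homHH_apply, AddEquiv.apply_symm_apply, AddEquiv.apply_symm_apply,
    ← Category.assoc, Adjunction.homEquiv_naturality_right, ExtHom.sheafHom_map_smulModΓ, InjMod.unitEquiv_comp]
  refine (KLin.smulModΓ_app_apply _ r ⊤ _).trans ?_
  exact congrArg (fun t => (show Γ(Z, ⊤) from t) • _) (ProperFin.resTop_top r)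

/-- The tangent space of the local Hilbert functor. -/
theorem nonempty_tangent_linearEquiv [Z.Over (Spec (CommRingCat.of k))]
    (hZ : Z ↘ Spec (CommRingCat.of k) = i ≫ y) {I₀ : Y.IdealSheafData} (hI : i.ker = I₀)
    [DCoh.HasSheafHom (Omega.conormal i)] [T : TangentStr (localHilb Y y I₀)] :
    Nonempty (TangentSpace (localHilb Y y I₀) ≃ₗ[k]
      Coh.HH Z ((DCoh.sheafHom (Omega.conormal i)).obj (Coh.structureModule Z)) 0) := by
  subst hI
  let adj := Scheme.Modules.pullbackPushforwardAdjunction i
  let E : TangentSpace (localHilb Y y i.ker) →ₗ[k]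
      Coh.HH Z ((DCoh.sheafHom (Omega.conormal i)).obj (Coh.structureModule Z)) 0 :=
    { toFun := fun I => homHH _ ((adj.homEquiv _ _).symm (valHom y i (TangentSpace.val I)))
      map_add' := fun I I' => by
        rw [valHom_add, ← homHH_add]
        congr 1
        exact map_add (adj.homAddEquiv _ _).symm _ _
      map_smul' := fun c I => by
        rw [valHom_smul, Adjunction.homEquiv_naturality_right_symm, RingHom.id_apply]
        refine (homHH_smul _ _ _).trans ?_
        rw [← hZ]
        rfl }
  have hval : Function.Bijective fun I : TangentSpace (localHilb Y y i.ker) => valHom y i (TangentSpace.val I) :=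
    ⟨valHom_injective i, valHom_surjective i⟩
  exact ⟨LinearEquiv.ofBijective E
    ((homHH _).bijective.comp ((adj.homEquiv _ _).symm.bijective.comp hval))⟩

end Groth.Agent.HilbLoc
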