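import Groth.Agent.DefSchLib.Affine

/-!
# Ideals with flat quotient in algebras over Artinian local rings
-/

set_option autoImplicit false

universe u

open IsLocalRing

namespace Groth.Agent.HilbLoc

variable {B : Type u} [CommRing B] [IsLocalRing B] [IsArtinianRing B]

/-- An ideal with flat quotient meets an extended ideal in their product. -/
theorem mem_mul_of_flat_quotient {R : Type u} [CommRing R] (φ : B →+* R) (I : Ideal R)
    (hI : ((Ideal.Quotient.mk I).comp φ).Flat) (𝔟 : Ideal B) {z : R} (hz : z ∈ I)
    (hz' : z ∈ 𝔟.map φ) : z ∈ 𝔟.map φ * I := by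
  letI := φ.toAlgebra
  letI : Algebra B (R ⧸ I) := ((Ideal.Quotient.mk I).comp φ).toAlgebra
  haveI : Module.Flat B (R ⧸ I) := hI
  haveI : Module.Free B (R ⧸ I) :=
    DefMod95.EndDeform.free_of_flat_of_nilpotent (DefSchLib.isNilpotent_max B)
  let q : R →ₗ[B] R ⧸ I :=
    { toFun := Ideal.Quotient.mk I
      map_add' := map_add _
      map_smul' := fun a y => map_mul (Ideal.Quotient.mk I) (φ a) y }
  obtain ⟨s, hs⟩ := Module.projective_lifting_property q LinearMap.id Ideal.Quotient.mk_surjective
  let L : R →ₗ[B] R := LinearMap.id - s ∘ₗ q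
  have hL : ∀ y, L y ∈ I := fun y => by
    rw [← Ideal.Quotient.eq_zero_iff_mem]
    change q (y - s (q y)) = 0
    rw [map_sub, show q (s (q y)) = q y from LinearMap.congr_fun hs (q y), sub_self]
  have hLI : L z = z := by
    change z - s (q z) = z
    rw [show q z = 0 from Ideal.Quotient.eq_zero_iff_mem.2 hz, map_zero, sub_zero]
  rw [← hLI]
  have hz'' : z ∈ 𝔟 • (⊤ : Submodule B R) := by
    rw [Ideal.smul_top_eq_map]; exact hz'
  refine Submodule.smul_induction_on hz'' (fun b hb y _ => ?_) (fun a c ha hc => ?_)
  · rw [map_smul, Algebra.smul_def]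
    exact Ideal.mul_mem_mul (Ideal.mem_map_of_mem φ hb) (hL y)
  · rw [map_add]; exact add_mem ha hc

variable {A : Type u} [CommRing A] [IsLocalRing A] [IsArtinianRing A] (p : B →+* A) {ε : B}

omit [IsArtinianRing B] [IsArtinianRing A] in
lemma mem_max_of_ker (hker : RingHom.ker p = Ideal.span {ε}) : ε ∈ maximalIdeal B := by
  rw [IsLocalRing.mem_maximalIdeal, mem_nonunits_iff]
  intro hu
  have h1 : RingHom.ker p = ⊤ := by rw [hker, Ideal.span_singleton_eq_top]; exact hu
  exact RingHom.ker_ne_top p h1

section Thickening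

variable {R RA : Type u} [CommRing R] [CommRing RA] (φ : B →+* R) (φA : A →+* RA) (π : R →+* RA)
  (hp : Function.Surjective p) (hker : RingHom.ker p = Ideal.span {ε})
  (hm : ∀ b ∈ maximalIdeal B, b * ε = 0) (hπ : Function.Surjective π)
  (hcomm : ∀ b, π (φ b) = φA (p b)) (hπk : RingHom.ker π = Ideal.span {φ ε})

include hp hker hm hπ hcomm hπk

/-- Flatness of a thickening by a principal ideal killed by the maximal ideal. -/
theorem flat_of_thickening (hA : φA.Flat) (hann : ∀ y, φ ε * y = 0 → y ∈ (maximalIdeal B).map φ) :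
    φ.Flat := by
  letI := φA.toAlgebra
  letI := φ.toAlgebra
  haveI : Module.Flat A RA := hA
  haveI : Module.Free A RA :=
    DefMod95.EndDeform.free_of_flat_of_nilpotent (DefSchLib.isNilpotent_max A)
  let bas := Module.Free.chooseBasis A RA
  choose v hv using fun i => hπ (bas i)
  let L := Finsupp.linearCombination B v
  have hεε : φ ε * φ ε = 0 := by rw [← map_mul, hm ε (mem_max_of_ker p hker), map_zero]
  have hπL : ∀ c, π (L c) = Finsupp.linearCombination A bas (c.mapRange p (map_zero p)) := by
    intro c
    rw [Finsupp.linearCombination_apply, map_finsuppSum, Finsupp.linearCombination_apply,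
      Finsupp.sum_mapRange_index (h := fun i a => a • bas i) (fun i => zero_smul _ _)]
    exact Finsupp.sum_congr fun i _ => by
      rw [Algebra.smul_def, Algebra.smul_def, map_mul, hv]
      exact congrArg (· * bas i) (hcomm _)
  have hdecomp : ∀ z, ∃ (c : _ →₀ B) (y : R), z = L c + φ ε * y := by
    intro z
    obtain ⟨c, hc⟩ := Finsupp.mapRange_surjective p (map_zero p) hp (bas.repr (π z))
    have hmem : z - L c ∈ RingHom.ker π := by
      rw [RingHom.mem_ker, map_sub, hπL, hc, bas.linearCombination_repr, sub_self]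
    rw [hπk, Ideal.mem_span_singleton'] at hmem
    obtain ⟨y, hy⟩ := hmem
    exact ⟨c, y, by linear_combination -hy⟩
  have hsurj : Function.Surjective L := by
    intro z
    obtain ⟨c, y, rfl⟩ := hdecomp z
    obtain ⟨d, w, rfl⟩ := hdecomp y
    refine ⟨c + ε • d, ?_⟩
    rw [map_add, map_smul, Algebra.smul_def]
    change L c + φ ε * L d = _
    linear_combination (-w) * hεε
  have hinj : Function.Injective L := by
    rw [injective_iff_map_eq_zero]
    intro c hc
    have h0 : c.mapRange p (map_zero p) = 0 := by
      refine bas.linearIndependent.finsuppLinearCombination_injective ?_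
      rw [← hπL, hc, map_zero, map_zero]
    have hdiv : ∀ i, ∃ d, c i = d * ε := fun i => by
      have : c i ∈ RingHom.ker p := by
        have := DFunLike.congr_fun h0 i
        rwa [Finsupp.mapRange_apply] at this
      rw [hker, Ideal.mem_span_singleton'] at this
      obtain ⟨d, hd⟩ := this
      exact ⟨d, hd.symm⟩
    choose d hd using hdiv
    classical
    let d' : _ →₀ B := Finsupp.onFinset c.support (fun i => if c i = 0 then 0 else d i)
      (fun i hi => by
        rw [Finsupp.mem_support_iff]
        intro h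
        exact hi (if_pos h))
    have hcd : c = ε • d' := by
      ext i
      rw [Finsupp.smul_apply, smul_eq_mul, Finsupp.onFinset_apply]
      split_ifs with h
      · rw [h, mul_zero]
      · rw [hd i, mul_comm]
    rw [hcd, map_smul, Algebra.smul_def] at hc
    have hy := hann _ hc
    have hunit : ∀ b, IsUnit (p b) → IsUnit b := fun b hu => by
      obtain ⟨c, hc⟩ := hu.exists_right_inv
      obtain ⟨c, rfl⟩ := hp c
      by_contra hb
      have h1 : b * c - 1 ∈ maximalIdeal B := by
        have : b * c - 1 ∈ RingHom.ker p := by rw [RingHom.mem_ker, map_sub, map_mul, hc, map_one, sub_self]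
        rw [hker] at this
        exact ((Ideal.span_singleton_le_iff_mem _).2 (mem_max_of_ker p hker)) this
      have h2 : b * c ∈ maximalIdeal B := Ideal.mul_mem_right _ _ ((IsLocalRing.mem_maximalIdeal _).2 hb)
      exact (maximalIdeal.isMaximal B).ne_top ((Ideal.eq_top_iff_one _).2 (by
        have := sub_mem h2 h1
        rwa [sub_sub_cancel] at this))
    have hmA : (maximalIdeal B).map p ≤ maximalIdeal A := by
      rw [Ideal.map_le_iff_le_comap]
      exact fun b hb => (IsLocalRing.mem_maximalIdeal _).2 fun hu =>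
        (IsLocalRing.mem_maximalIdeal _).1 hb (hunit b hu)
    have hy' : π (L d') ∈ (maximalIdeal A) • (⊤ : Submodule A RA) := by
      rw [Ideal.smul_top_eq_map]
      change π (L d') ∈ (maximalIdeal A).map φA
      refine Ideal.map_mono hmA ?_
      rw [Ideal.map_map, show φA.comp p = π.comp φ from RingHom.ext fun b => (hcomm b).symm,
        ← Ideal.map_map]
      exact Ideal.mem_map_of_mem π hy
    have hcoord : ∀ i, p (d' i) ∈ maximalIdeal A := by
      intro i
      have h1 : ∀ w ∈ (maximalIdeal A) • (⊤ : Submodule A RA), bas.repr w i ∈ maximalIdeal A := by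
        intro w hw
        refine Submodule.smul_induction_on hw (fun a ha y _ => ?_) (fun a b ha hb => ?_)
        · rw [map_smul, Finsupp.smul_apply, smul_eq_mul]
          exact Ideal.mul_mem_right _ _ ha
        · rw [map_add, Finsupp.add_apply]; exact add_mem ha hb
      have := h1 _ hy'
      rwa [hπL, Module.Basis.repr_linearCombination, Finsupp.mapRange_apply] at this
    rw [hcd]
    ext i
    rw [Finsupp.smul_apply, smul_eq_mul, Finsupp.zero_apply, mul_comm]
    refine hm _ ?_
    rw [IsLocalRing.mem_maximalIdeal, mem_nonunits_iff]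
    exact fun hu => (IsLocalRing.mem_maximalIdeal _).1 (hcoord i) (hu.map p)
  haveI : Module.Free B R :=
    Module.Free.of_basis (Module.Basis.ofRepr (LinearEquiv.ofBijective L ⟨hinj, hsurj⟩).symm)
  exact (inferInstance : Module.Flat B R)

/-- The key intersection: `m · J` meets `ε R` in `ε J`, for `J` the preimage of an ideal with
flat quotient. -/
theorem exists_mul_eq (hφ : φ.Flat) (IA : Ideal RA)
    (hIA : ((Ideal.Quotient.mk IA).comp φA).Flat) {z : R}
    (hz : z ∈ (maximalIdeal B).map φ * IA.comap π) (hz' : z ∈ Ideal.span {φ ε}) :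
    ∃ j ∈ IA.comap π, z = φ ε * j := by
  letI := φ.toAlgebra
  letI := φA.toAlgebra
  letI : Algebra A (RA ⧸ IA) := ((Ideal.Quotient.mk IA).comp φA).toAlgebra
  haveI : Module.Flat B R := hφ
  haveI : Module.Free B R :=
    DefMod95.EndDeform.free_of_flat_of_nilpotent (DefSchLib.isNilpotent_max B)
  haveI : Module.Flat A (RA ⧸ IA) := hIA
  haveI : Module.Free A (RA ⧸ IA) :=
    DefMod95.EndDeform.free_of_flat_of_nilpotent (DefSchLib.isNilpotent_max A)
  let q : RA →ₗ[A] RA ⧸ IA :=
    { toFun := Ideal.Quotient.mk IA
      map_add' := map_add _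
      map_smul' := fun a y => map_mul (Ideal.Quotient.mk IA) (φA a) y }
  obtain ⟨s, hs⟩ := Module.projective_lifting_property q LinearMap.id Ideal.Quotient.mk_surjective
  letI : Module B RA := Module.compHom RA p
  let π' : R →ₗ[B] RA :=
    { toFun := π
      map_add' := map_add π
      map_smul' := fun b y => by
        change π (φ b * y) = φA (p b) * π y
        rw [map_mul, hcomm] }
  let ret : RA →ₗ[B] RA :=
    { toFun := fun y => y - s (q y)
      map_add' := fun a b => by rw [map_add, map_add]; abel
      map_smul' := fun b y => by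
        change p b • y - s (q (p b • y)) = p b • (y - s (q y))
        rw [map_smul, map_smul, smul_sub] }
  obtain ⟨L, hL⟩ := Module.projective_lifting_property π' (ret ∘ₗ π') hπ
  have hLJ : ∀ y, L y ∈ IA.comap π := fun y => by
    rw [Ideal.mem_comap, show π (L y) = π y - s (q (π y)) from LinearMap.congr_fun hL y,
      ← Ideal.Quotient.eq_zero_iff_mem]
    change q (π y - s (q (π y))) = 0
    rw [map_sub, show q (s (q (π y))) = q (π y) from LinearMap.congr_fun hs (q (π y)), sub_self]
  have hLid : ∀ j ∈ IA.comap π, ∃ w, j = L j + φ ε * w := by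
    intro j hj
    have h0 : j - L j ∈ RingHom.ker π := by
      rw [RingHom.mem_ker, map_sub, show π (L j) = π j - s (q (π j)) from LinearMap.congr_fun hL j,
        show q (π j) = 0 from Ideal.Quotient.eq_zero_iff_mem.2 hj, map_zero, sub_zero, sub_self]
    rw [hπk, Ideal.mem_span_singleton'] at h0
    obtain ⟨w, hw⟩ := h0
    exact ⟨w, by linear_combination -hw⟩
  have hfix : L z = z := by
    refine Submodule.mul_induction_on hz (fun w hw j hj => ?_)
      (fun a b ha hb => by rw [map_add, ha, hb])
    revert hw
    suffices H : w ∈ (maximalIdeal B).map φ → ∀ j ∈ IA.comap π, L (w * j) = w * j from fun hw => H hw j hj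
    intro hw
    refine Submodule.span_induction ?_ ?_ ?_ ?_ hw
    · rintro _ ⟨b, hb, rfl⟩ j hj
      obtain ⟨w, hw⟩ := hLid j hj
      rw [show φ b * j = b • j from rfl, map_smul]
      change φ b * L j = φ b * j
      have h0 : φ b * φ ε = 0 := by rw [← map_mul, hm b hb, map_zero]
      linear_combination (-(φ b)) * hw - w * h0
    · intro j _; rw [zero_mul, map_zero]
    · intro a b _ _ ha hb j hj; rw [add_mul, map_add, ha j hj, hb j hj]
    · intro r a _ ha j hj
      rw [smul_eq_mul, mul_comm r a, mul_assoc]
      exact ha _ (Ideal.mul_mem_left _ r hj)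
  obtain ⟨y, hy⟩ := Ideal.mem_span_singleton'.1 hz'
  refine ⟨L y, hLJ y, ?_⟩
  rw [← hfix, ← hy, mul_comm y, show φ ε * y = ε • y from rfl, map_smul]
  rfl

/-- An element of the preimage vanishing on the closed fibre. -/
theorem mem_sup_of_mem (IA : Ideal RA) (hIA : ((Ideal.Quotient.mk IA).comp φA).Flat) {z : R}
    (hz : z ∈ IA.comap π) (hz' : z ∈ (maximalIdeal B).map φ) :
    z ∈ (maximalIdeal B).map φ * IA.comap π ⊔ Ideal.span {φ ε} := by
  have h1 : π z ∈ ((maximalIdeal B).map p).map φA := by
    rw [Ideal.map_map, show φA.comp p = π.comp φ from RingHom.ext fun b => (hcomm b).symm,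
      ← Ideal.map_map]
    exact Ideal.mem_map_of_mem π hz'
  have h2 := mem_mul_of_flat_quotient φA IA hIA ((maximalIdeal B).map p) hz h1
  rw [Ideal.map_map, show φA.comp p = π.comp φ from RingHom.ext fun b => (hcomm b).symm,
    ← Ideal.map_map] at h2
  rw [show IA = (IA.comap π).map π from (Ideal.map_comap_of_surjective π hπ IA).symm] at h2
  rw [← Ideal.map_mul, Ideal.mem_map_iff_of_surjective π hπ] at h2
  obtain ⟨w, hw, hwz⟩ := h2
  refine Submodule.mem_sup.2 ⟨w, hw, z - w, ?_, by ring⟩
  rw [← hπk, RingHom.mem_ker, map_sub, hwz, sub_self]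

end Thickening

end Groth.Agent.HilbLoc
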