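import Groth.Agent.DefoShLib.CechExt
import Groth.Agent.GrModLib.EventExact
import Groth.Agent.CohAff.ResOps
import Groth.Agent.Omega.Stalks
import Groth.Prelude.Def_Omega4
import Groth.Agent.QCoh.Exact

/-!
# Extending morphisms which extend locally, when `H¹(ℋom) = 0`
-/

set_option autoImplicit false

universe u

open CategoryTheory CategoryTheory.Limits AlgebraicGeometry TopologicalSpace Opposite
open OmegaSh Groth.Agent.PullStalk.Sky Groth.Agent.PullStalk.Exact Groth.Agent.Omega.Stalks

noncomputable section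

namespace Groth.Agent.HilbLoc.Burch

variable {X : Scheme.{u}}

/-- Precomposition on local homomorphisms. -/
def precompSec {K M : X.Modules} (a : K ⟶ M) (G : X.Modules) (U : X.Opens) :
    Γ(RefHull.homSh M G, U) →ₗ[Γ(X, U)] Γ(RefHull.homSh K G, U) where
  toFun f := ⟨fun y => (f.1 y).comp (RefHull.stalkMapₗ a y.1), fun V i m x => by
    obtain ⟨W, hxW, j, n, hn⟩ := RefHull.isLocSect_of_mem f V i (a.app V m) x
    refine ⟨W, hxW, j, n, fun y => ?_⟩
    rw [LinearMap.comp_apply, RefHull.stalkMapₗ_germ]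
    exact hn y⟩
  map_add' f g := Subtype.ext (funext fun y => LinearMap.ext fun v => rfl)
  map_smul' r f := Subtype.ext (funext fun y => LinearMap.ext fun v => rfl)

theorem exists_precomp {K M : X.Modules} (a : K ⟶ M) (G : X.Modules) :
    ∃ R : RefHull.homSh M G ⟶ RefHull.homSh K G, ∀ (U : X.Opens) (f : Γ(RefHull.homSh M G, U)) (y : U),
      (R.app U f).1 y = (f.1 y).comp (RefHull.stalkMapₗ a y.1) := by
  obtain ⟨R, hR⟩ := KoszSh77.exists_hom_of_basis (M := RefHull.homSh M G) (N := RefHull.homSh K G)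
    (B := Set.univ) (Opens.isBasis_iff_nbhd.mpr fun {U x} hx => ⟨U, Set.mem_univ U, hx, le_rfl⟩)
    (fun U => precompSec a G U.1) (fun U V h f => rfl)
  exact ⟨R, fun U f y => congrArg (fun g => g.1 y) (hR ⟨U, Set.mem_univ U⟩ f)⟩

/-- A morphism out of the first term which extends locally extends globally. -/
theorem exists_extension_of_local {K M Q G : X.Modules} {a : K ⟶ M} {q : M ⟶ Q} {w : a ≫ q = 0}
    (hS : (ShortComplex.mk a q w).ShortExact) (η : K ⟶ G)
    (h1 : Subsingleton (Coh.HH X (RefHull.homSh Q G) 1))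
    (hloc : ∀ x : X, ∃ U : X.Opens, x ∈ U ∧ ∃ δ : Γ(RefHull.homSh M G, U), ∀ (y : U) v,
      δ.1 y (RefHull.stalkMapₗ a y.1 v) = RefHull.stalkMapₗ η y.1 v) :
    ∃ δ, a ≫ δ = η := by
  haveI : Epi q := hS.epi_g
  obtain ⟨P0, hP⟩ := exists_precomp q G
  obtain ⟨R0, hR⟩ := exists_precomp a G
  have hex := fun y : X => stalk_exact hS y
  have hsurj : ∀ y : X, Function.Surjective (RefHull.stalkMapₗ q y) := fun y => (hex y).2.2
  have haq : ∀ (y : X) v, RefHull.stalkMapₗ q y (RefHull.stalkMapₗ a y v) = 0 := fun y v =>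
    (hex y).2.1.apply_apply_eq_zero v
  have hPR : P0 ≫ R0 = 0 := by
    refine Scheme.Modules.hom_ext _ _ fun U => ?_
    ext f
    refine Subtype.ext (funext fun y => LinearMap.ext fun v => ?_)
    change (R0.app U (P0.app U f)).1 y v = 0
    rw [hR, LinearMap.comp_apply, hP, LinearMap.comp_apply, haq, map_zero]
  let L := kernel.lift R0 P0 hPR
  have hL : ∀ (U : X.Opens) (f : Γ(RefHull.homSh Q G, U)), (kernel.ι R0).app U (L.app U f) = P0.app U f :=
    fun U f => congrArg (fun φ : RefHull.homSh Q G ⟶ RefHull.homSh M G => φ.app U f) (kernel.lift_ι R0 P0 hPR)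
  haveI : IsIso L := by
    refine CohAff.isIso_of_affine_bijective _ fun U _ => ⟨fun f f' h => ?_, fun κ => ?_⟩
    · refine Subtype.ext (funext fun y => LinearMap.ext fun v => ?_)
      obtain ⟨m, rfl⟩ := hsurj y.1 v
      have h2 := congrArg ((kernel.ι R0).app U) h
      rw [hL, hL] at h2
      have h3 := congrArg (fun g : Γ(RefHull.homSh M G, U) => g.1 y m) h2
      simp only [hP] at h3
      exact h3
    · let f : Γ(RefHull.homSh M G, U) := (kernel.ι R0).app U κ
      have hf : ∀ (y : U) t, f.1 y (RefHull.stalkMapₗ a y.1 t) = 0 := fun y t => by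
        have h2 := congrArg (fun g : Γ(RefHull.homSh K G, U) => g.1 y t)
          (QCoh.app_app_eq_zero (ShortComplex.mk _ _ (kernel.condition R0)) U κ)
        simp only [hR] at h2
        exact h2
      have hex' : ∀ (y : U) t, RefHull.stalkMapₗ q y.1 t = 0 → f.1 y t = 0 := fun y t ht => by
        obtain ⟨t', rfl⟩ := ((hex y.1).2.1 t).1 ht
        exact hf y t'
      choose σ hσ using fun y : U => hsurj y.1
      have key : ∀ (y : U) v t, RefHull.stalkMapₗ q y.1 t = v → f.1 y (σ y v) = f.1 y t := fun y v t ht => by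
        rw [← sub_eq_zero, ← map_sub]
        exact hex' y _ (by rw [map_sub, hσ, ht, sub_self])
      let g : ∀ y : U, RefHull.StalkHom Q G y.1 := fun y =>
        { toFun := fun v => f.1 y (σ y v)
          map_add' := fun v v' => by
            rw [key y _ (σ y v + σ y v') (by rw [map_add, hσ, hσ]), map_add]
          map_smul' := fun r v => by
            rw [key y _ (r • σ y v) (by rw [map_smul, hσ]), map_smul, RingHom.id_apply] }
      have hg : RefHull.IsLocSect Q G g := by
        intro V i m x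
        obtain ⟨W, hWV, hxW, m', hm'⟩ := QCoh.exists_locally_app_eq q V m x.1 x.2
        obtain ⟨W', hxW', j, n, hn⟩ := RefHull.isLocSect_of_mem f W (homOfLE (hWV.trans i.le)) m' ⟨x.1, hxW⟩
        refine ⟨W', hxW', j ≫ homOfLE hWV, n, fun y => ?_⟩
        refine Eq.trans (key ⟨y.1, _⟩ _ (M.presheaf.germ W y.1 (j.le y.2) m') ?_) (hn y)
        rw [RefHull.stalkMapₗ_germ, hm']
        exact Q.presheaf.germ_res_apply (homOfLE hWV) y.1 (j.le y.2) m
      refine ⟨⟨g, hg⟩, QCoh.app_injective_of_mono (kernel.ι R0) U ?_⟩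
      rw [hL]
      refine Subtype.ext (funext fun y => LinearMap.ext fun v => ?_)
      rw [hP]
      exact key y _ v rfl
  -- the image sequence
  let S : ShortComplex X.Modules := ShortComplex.mk (kernel.ι R0) (Abelian.factorThruImage R0)
    (by rw [← cancel_mono (Abelian.image.ι R0), Category.assoc, Abelian.image.fac, kernel.condition, zero_comp])
  have hS' : S.ShortExact :=
    { exact := by
        refine ShortComplex.exact_of_f_is_kernel S (KernelFork.IsLimit.ofι' _ _ fun {T} h hh => ?_)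
        refine ⟨kernel.lift R0 h ?_, kernel.lift_ι _ _ _⟩
        rw [← Abelian.image.fac R0]
        exact (Category.assoc _ _ _).symm.trans ((congrArg (· ≫ Abelian.image.ι R0) hh).trans zero_comp) }
  haveI : Subsingleton (Coh.HH X S.X₁ 1) := ⟨fun x y => by
    change (x : Coh.HH X (kernel R0) 1) = y
    rw [← CohLin.hMap_id _ 1 x, ← CohLin.hMap_id _ 1 y, ← (asIso L).inv_hom_id, CohLin.hMap_comp,
      CohLin.hMap_comp, h1.elim (CohLin.hMap (asIso L).inv 1 x) (CohLin.hMap (asIso L).inv 1 y)]⟩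
  -- the given morphism is a section of the image
  let e : Γ(RefHull.homSh K G, ⊤) := RefHull.ofHom η ⊤
  have he : (cokernel.π R0).app ⊤ e = 0 := by
    refine HomShEval.QCoh.ext_germ _ _ _ fun y hy => ?_
    obtain ⟨U, hyU, δ, hδ⟩ := hloc y
    have h2 : R0.app U δ = QCoh.res (RefHull.homSh K G) le_top e :=
      Subtype.ext (funext fun z => LinearMap.ext fun v => by
        rw [hR, LinearMap.comp_apply, hδ]
        rfl)
    refine ((cokernel R0).presheaf.germ_res_apply (homOfLE (le_top : U ≤ ⊤)) y hyU _).symm.trans ?_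
    have h3 : QCoh.res (cokernel R0) (le_top : U ≤ ⊤) ((cokernel.π R0).app ⊤ e) = 0 := by
      rw [← QCoh.app_res, ← h2]
      exact QCoh.app_app_eq_zero (ShortComplex.mk _ _ (cokernel.condition R0)) U δ
    exact ((congrArg ((cokernel R0).presheaf.germ U y hyU) h3).trans (map_zero _)).trans (map_zero _).symm
  obtain ⟨δ, hδ⟩ := GrModLib.topMap_g_surjective hS' (kerLift (cokernel.π R0) ⊤ e he)
  have hδ' : R0.app ⊤ δ = e := by
    refine (congrArg (fun φ : RefHull.homSh M G ⟶ RefHull.homSh K G => φ.app ⊤ δ)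
      (Abelian.image.fac R0).symm).trans ?_
    exact (congrArg ((Abelian.image.ι R0).app ⊤) hδ).trans (ι_kerLift _ _ _ he)
  obtain ⟨φ, hφ⟩ := DefoShLib.exists_hom_of_top δ
  refine ⟨φ, hom_ext_stalk fun y => LinearMap.ext fun v => ?_⟩
  change RefHull.stalkMapₗ (a ≫ φ) y v = RefHull.stalkMapₗ η y v
  rw [DefoSh.stalkMapₗ_comp_apply, hφ y]
  have h2 := congrArg (fun g : Γ(RefHull.homSh K G, ⊤) => g.1 ⟨y, trivial⟩ v) hδ'
  simp only [hR] at h2
  exact h2

end Groth.Agent.HilbLoc.Burch
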