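import Groth.Agent.HilbLoc.Alg
import Groth.Agent.S12907
import Groth.Agent.ArtFunLib.FlatSeq
import Mathlib.RingTheory.Finiteness.Nakayama

/-!
# Hilbert–Burch over an Artinian base
-/

set_option autoImplicit false

universe u

open IsLocalRing Matrix

namespace Groth.Agent.HilbLoc.Burch

/-- The kernel of a split surjection meets `J • ⊤` in `J • ker`. -/
theorem ker_inf_smul_le {C : Type*} [CommRing C] {M M' : Type*} [AddCommGroup M] [Module C M]
    [AddCommGroup M'] [Module C M'] (f : M →ₗ[C] M') (hf : Function.Surjective f)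
    [Module.Projective C M'] (J : Ideal C) :
    LinearMap.ker f ⊓ J • ⊤ ≤ J • LinearMap.ker f := by
  obtain ⟨s, hs⟩ := Module.projective_lifting_property f LinearMap.id hf
  let L : M →ₗ[C] M := LinearMap.id - s ∘ₗ f
  have hL : LinearMap.range L ≤ LinearMap.ker f := by
    rintro _ ⟨x, rfl⟩
    have := LinearMap.congr_fun hs (f x)
    simp only [LinearMap.comp_apply, LinearMap.id_apply] at this
    simp [L, this]
  rintro x ⟨hx, hx'⟩
  have hLx : L x = x := by
    simp [L, LinearMap.mem_ker.1 hx]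
  have := Submodule.mem_map_of_mem (f := L) hx'
  rw [Submodule.map_smul'', Submodule.map_top, hLx] at this
  exact Submodule.smul_mono le_rfl hL this

/-- Nakayama for a nilpotent ideal. -/
theorem le_of_le_sup_smul {C : Type*} [CommRing C] {M : Type*} [AddCommGroup M] [Module C M]
    {J : Ideal C} (hJ : IsNilpotent J) {K P : Submodule C M} (h : K ≤ P ⊔ J • K) : K ≤ P := by
  have key : ∀ k : ℕ, K ≤ P ⊔ J ^ k • K := by
    intro k
    induction k with
    | zero => exact le_sup_of_le_right (by rw [pow_zero, Ideal.one_eq_top, Submodule.top_smul])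
    | succ k ih =>
      refine ih.trans (sup_le le_sup_left ?_)
      calc J ^ k • K ≤ J ^ k • (P ⊔ J • K) := Submodule.smul_mono le_rfl h
        _ ≤ _ := by
          rw [Submodule.smul_sup, ← Submodule.smul_assoc, smul_eq_mul, ← pow_succ]
          exact sup_le_sup_right Submodule.smul_le_right _
  obtain ⟨k, hk⟩ := hJ
  refine (key k).trans ?_
  rw [hk, Ideal.zero_eq_bot, Submodule.bot_smul, sup_bot_eq]

variable {C : Type u} [CommRing C] [IsLocalRing C] [IsArtinianRing C]
  {R : Type u} [CommRing R] [Algebra C R]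

theorem isNilpotent_of_ne_top {J : Ideal C} (hJ : J ≠ ⊤) : IsNilpotent J := by
  obtain ⟨n, hn⟩ := DefSchLib.isNilpotent_max C
  exact ⟨n, le_bot_iff.1 ((Ideal.pow_right_mono (le_maximalIdeal hJ) n).trans hn.le)⟩

theorem projective_of_flat (M : Type u) [AddCommGroup M] [Module C M] [Module.Flat C M] :
    Module.Projective C M :=
  haveI : Module.Free C M :=
    DefMod95.EndDeform.free_of_flat_of_nilpotent (DefSchLib.isNilpotent_max C)
  Module.Projective.of_free

variable {ι κ : Type} [Fintype ι] [Fintype κ]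

theorem mem_smul_top_pi (J : Ideal C) (v : ι → R) (hv : ∀ i, v i ∈ J.map (algebraMap C R)) :
    v ∈ J • (⊤ : Submodule C (ι → R)) := by
  classical
  rw [← Finset.univ_sum_single v]
  refine sum_mem fun i _ => ?_
  have h : v i ∈ J • (⊤ : Submodule C R) := by rw [Ideal.smul_top_eq_map]; exact hv i
  have := Submodule.mem_map_of_mem (f := LinearMap.single C (fun _ : ι => R) i) h
  rw [Submodule.map_smul''] at this
  exact Submodule.smul_mono le_rfl le_top this

theorem mem_map_of_mem_smul_top (J : Ideal C) {v : ι → R}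
    (hv : v ∈ J • (⊤ : Submodule C (ι → R))) (i : ι) : v i ∈ J.map (algebraMap C R) := by
  have := Submodule.mem_map_of_mem (f := LinearMap.proj (R := C) (φ := fun _ : ι => R) i) hv
  rw [Submodule.map_smul''] at this
  have := Submodule.smul_mono le_rfl le_top this
  rwa [Ideal.smul_top_eq_map] at this

section

variable [Module.Flat C R] (I : Ideal R) [Module.Flat C (R ⧸ I)]

theorem inf_le_smul (J : Ideal C) :
    I.restrictScalars C ⊓ J • (⊤ : Submodule C R) ≤ J • I.restrictScalars C := by
  haveI := projective_of_flat (C := C) (R ⧸ I)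
  have h := ker_inf_smul_le ((I.mkQ).restrictScalars C) (Submodule.mkQ_surjective I) J
  have hk : LinearMap.ker ((I.mkQ).restrictScalars C) = I.restrictScalars C := by
    ext x; simp [Submodule.Quotient.mk_eq_zero]
  rwa [hk] at h

theorem projective_ideal : Module.Projective C I := by
  haveI := projective_of_flat (C := C) (R ⧸ I)
  haveI := projective_of_flat (C := C) R
  let q : R →ₗ[C] R ⧸ I := (I.mkQ).restrictScalars C
  obtain ⟨s, hs⟩ := Module.projective_lifting_property q LinearMap.id (Submodule.mkQ_surjective I)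
  have hmem : ∀ x, x - s (q x) ∈ I := fun x => by
    rw [← Submodule.Quotient.mk_eq_zero I]
    change q (x - s (q x)) = 0
    rw [map_sub, show q (s (q x)) = q x from LinearMap.congr_fun hs (q x), sub_self]
  let L : R →ₗ[C] I :=
    { toFun := fun x => ⟨x - s (q x), hmem x⟩
      map_add' := fun x y => Subtype.ext (by simp; ring)
      map_smul' := fun c x => Subtype.ext (by simp [smul_sub]) }
  refine Module.Projective.of_split (I.subtype.restrictScalars C) L (LinearMap.ext fun x => Subtype.ext ?_)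
  change (x : R) - s (q x) = x
  rw [show q (x : R) = 0 from (Submodule.Quotient.mk_eq_zero I).2 x.2, map_zero, sub_zero]

theorem span_eq {J : Ideal C} (hJ : J ≠ ⊤) {g : ι → R} (hg : ∀ i, g i ∈ I)
    (hgen : I ≤ Ideal.span (Set.range g) ⊔ J.map (algebraMap C R)) :
    Ideal.span (Set.range g) = I := by
  have hle : Ideal.span (Set.range g) ≤ I := Ideal.span_le.2 (Set.range_subset_iff.2 hg)
  refine le_antisymm hle ?_
  refine le_of_le_sup_smul (isNilpotent_of_ne_top hJ) (K := I.restrictScalars C)
    (P := (Ideal.span (Set.range g)).restrictScalars C) fun x hx => ?_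
  obtain ⟨a, ha, b, hb, rfl⟩ := Submodule.mem_sup.1 (hgen hx)
  refine Submodule.add_mem_sup ha (inf_le_smul I J ⟨?_, ?_⟩)
  · simpa using sub_mem hx (hle ha)
  · rw [Ideal.smul_top_eq_map]; exact hb

variable {I}

/-- Relations among generators lift. -/
theorem exists_relation {J : Ideal C} (hJ : J ≠ ⊤) {g : ι → R} (hg : Ideal.span (Set.range g) = I)
    (v : ι → R) (hv : ∑ i, v i * g i ∈ J.map (algebraMap C R)) :
    ∃ w : ι → R, (∀ i, w i - v i ∈ J.map (algebraMap C R)) ∧ ∑ i, w i * g i = 0 := by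
  let N := J.map (algebraMap C R)
  have hI : ∑ i, v i * g i ∈ I :=
    sum_mem fun i _ => Ideal.mul_mem_left _ _ (hg ▸ Ideal.subset_span ⟨i, rfl⟩)
  have h2 : ∑ i, v i * g i ∈ N • (Submodule.span R (Set.range g)) := by
    change _ ∈ N * Ideal.span (Set.range g)
    rw [hg]
    have h := inf_le_smul I J ⟨hI, by rw [Ideal.smul_top_eq_map]; exact hv⟩
    rw [← Ideal.smul_restrictScalars] at h
    exact h
  obtain ⟨c, hc, hcs⟩ := (Submodule.mem_ideal_smul_span_iff_exists_sum N g _).1 h2
  rw [Finsupp.sum_fintype c (fun i a => a • g i) (fun i => zero_smul R _)] at hcs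
  exact ⟨fun i => v i - c i, fun i => by simpa using neg_mem (hc i),
    by simp [sub_mul, Finset.sum_sub_distrib, ← hcs, smul_eq_mul]⟩

/-- A complex exact on the closed fibre is exact. -/
theorem exact_of_fib [DecidableEq κ] {J : Ideal C} (hJ : J ≠ ⊤) {g : ι → R} (hg : Ideal.span (Set.range g) = I)
    (φ : Matrix ι κ R) (hrel : ∀ u, ∑ i, (φ *ᵥ u) i * g i = 0)
    (hex : ∀ v : ι → R, ∑ i, v i * g i ∈ J.map (algebraMap C R) →
      ∃ u, ∀ i, v i - (φ *ᵥ u) i ∈ J.map (algebraMap C R))
    (hinj : ∀ u, (∀ i, (φ *ᵥ u) i ∈ J.map (algebraMap C R)) →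
      ∀ j, u j ∈ J.map (algebraMap C R)) :
    LinearMap.range φ.mulVecLin = LinearMap.ker (Fintype.linearCombination R g) ∧
      Function.Injective φ.mulVecLin := by
  haveI := projective_ideal (C := C) I
  haveI : Module.Free C R :=
    DefMod95.EndDeform.free_of_flat_of_nilpotent (DefSchLib.isNilpotent_max C)
  haveI : Module.Projective C (ι → R) := Module.Projective.of_free
  let π : (ι → R) →ₗ[R] I := LinearMap.codRestrict I (Fintype.linearCombination R g)
    (fun v => by
      rw [← hg]
      change _ ∈ Submodule.span R (Set.range g)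
      rw [← Fintype.range_linearCombination]
      exact ⟨v, rfl⟩)
  have hπ : Function.Surjective (π.restrictScalars C) := fun y => by
    have hy : (y : R) ∈ Submodule.span R (Set.range g) := hg.symm ▸ y.2
    rw [← Fintype.range_linearCombination] at hy
    obtain ⟨v, hv⟩ := hy
    exact ⟨v, Subtype.ext hv⟩
  have hker : ∀ v : ι → R, π v = 0 ↔ ∑ i, v i * g i = 0 := fun v => by
    rw [← Subtype.coe_inj]
    simp [π, Fintype.linearCombination_apply]
  let K := LinearMap.ker (π.restrictScalars C)
  let φC : (κ → R) →ₗ[C] K := LinearMap.codRestrict K (φ.mulVecLin.restrictScalars C)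
    (fun u => (hker _).2 (hrel u))
  have hle : K ≤ LinearMap.range (φ.mulVecLin.restrictScalars C) := by
    refine le_of_le_sup_smul (isNilpotent_of_ne_top hJ) fun v hv => ?_
    have hv0 : ∑ i, v i * g i = 0 := (hker v).1 hv
    obtain ⟨u, hu⟩ := hex v (by rw [hv0]; exact zero_mem _)
    rw [show v = φ *ᵥ u + (v - φ *ᵥ u) by abel]
    refine Submodule.add_mem_sup ⟨u, rfl⟩ (ker_inf_smul_le (π.restrictScalars C) hπ J ⟨?_, ?_⟩)
    · exact sub_mem hv ((hker _).2 (hrel u))
    · exact mem_smul_top_pi J _ hu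
  haveI hKproj : Module.Projective C K := by
    obtain ⟨s, hs⟩ := Module.projective_lifting_property (π.restrictScalars C) LinearMap.id hπ
    let L : (ι → R) →ₗ[C] K := LinearMap.codRestrict K (LinearMap.id - s ∘ₗ π.restrictScalars C)
      (fun x => by
        have := LinearMap.congr_fun hs (π x)
        rw [LinearMap.mem_ker]
        change π (x - s (π x)) = 0
        rw [map_sub, show π (s (π x)) = π x from this, sub_self])
    refine Module.Projective.of_split K.subtype L (LinearMap.ext fun x => Subtype.ext ?_)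
    change (x : ι → R) - s ((π.restrictScalars C) x) = x
    rw [LinearMap.mem_ker.1 x.2, map_zero, sub_zero]
  have hφC : Function.Surjective φC := fun y => by
    obtain ⟨u, hu⟩ := hle y.2
    exact ⟨u, Subtype.ext hu⟩
  refine ⟨le_antisymm ?_ ?_, ?_⟩
  · rintro _ ⟨u, rfl⟩
    simpa [Fintype.linearCombination_apply] using hrel u
  · intro v hv
    exact hle ((hker v).2 (by simpa [Fintype.linearCombination_apply] using hv))
  · have hk : LinearMap.ker φC ≤ ⊥ := by
      refine le_of_le_sup_smul (isNilpotent_of_ne_top hJ) fun u hu => ?_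
      rw [bot_sup_eq]
      refine ker_inf_smul_le φC hφC J ⟨hu, mem_smul_top_pi J u ?_⟩
      refine hinj u fun i => ?_
      have : φ *ᵥ u = 0 := congrArg Subtype.val (LinearMap.mem_ker.1 hu)
      rw [this]; exact zero_mem _
    refine (injective_iff_map_eq_zero _).2 fun u hu => ?_
    exact (Submodule.mem_bot C).1 (hk (LinearMap.mem_ker.2 (Subtype.ext hu)))

end

/-- Reduction mod an ideal of the signed minors. -/
theorem map_smin {S S' : Type*} [CommRing S] [CommRing S'] (f : S →+* S') {r : ℕ}
    (φ : Matrix (Fin (r + 1)) (Fin r) S) (i : Fin (r + 1)) :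
    f (CAlgMisc.HB.smin φ i) = CAlgMisc.HB.smin (φ.map f) i := by
  simp [CAlgMisc.HB.smin, RingHom.map_det, Matrix.submatrix_map]

/-- `hex`, `hinj` of `exact_of_fib` from exactness over the quotient ring. -/
theorem fib_hyp {S : Type*} [CommRing S] (N : Ideal S) {r : ℕ} (g : Fin (r + 1) → S)
    (φ : Matrix (Fin (r + 1)) (Fin r) S)
    (hinj : Function.Injective (φ.map (Ideal.Quotient.mk N)).mulVecLin)
    (hex : LinearMap.range (φ.map (Ideal.Quotient.mk N)).mulVecLin =
      LinearMap.ker (Fintype.linearCombination (S ⧸ N) (fun i => Ideal.Quotient.mk N (g i)))) :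
    (∀ v : Fin (r + 1) → S, ∑ i, v i * g i ∈ N → ∃ u, ∀ i, v i - (φ *ᵥ u) i ∈ N) ∧
      (∀ u, (∀ i, (φ *ᵥ u) i ∈ N) → ∀ j, u j ∈ N) := by
  refine ⟨fun v hv => ?_, fun u hu j => ?_⟩
  · have : (fun i => Ideal.Quotient.mk N (v i)) ∈
        LinearMap.range (φ.map (Ideal.Quotient.mk N)).mulVecLin := by
      rw [hex, LinearMap.mem_ker, Fintype.linearCombination_apply]
      simp only [smul_eq_mul, ← map_mul, ← map_sum]
      exact Ideal.Quotient.eq_zero_iff_mem.2 hv
    obtain ⟨u₀, hu₀⟩ := this
    choose u hu using fun j => Ideal.Quotient.mk_surjective (u₀ j)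
    refine ⟨u, fun i => ?_⟩
    rw [← Ideal.Quotient.eq, RingHom.map_mulVec, ← congrFun hu₀ i]
    rw [show (Ideal.Quotient.mk N) ∘ u = u₀ from funext hu]
    rfl
  · rw [← Ideal.Quotient.eq_zero_iff_mem]
    have : (φ.map (Ideal.Quotient.mk N)).mulVecLin (fun j => Ideal.Quotient.mk N (u j)) = 0 := by
      funext i
      rw [Matrix.mulVecLin_apply, Pi.zero_apply, ← Ideal.Quotient.eq_zero_iff_mem.2 (hu i),
        RingHom.map_mulVec]
      rfl
    exact congrFun (hinj (this.trans (map_zero _).symm)) j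

open CAlgMisc.HB in
/-- An ideal with flat quotient is given by the maximal minors of a lift of the matrix. -/
theorem exists_minors_lift [Module.Flat C R] [IsNoetherianRing R] {J : Ideal C} (hJ : J ≠ ⊤)
    (I : Ideal R) [Module.Flat C (R ⧸ I)] {r : ℕ}
    (φ₀ : Matrix (Fin (r + 1)) (Fin r) (R ⧸ J.map (algebraMap C R)))
    (hgen : Ideal.span (Set.range (smin φ₀)) = I.map (Ideal.Quotient.mk (J.map (algebraMap C R))))
    (hinj : Function.Injective φ₀.mulVecLin)
    (hex : LinearMap.range φ₀.mulVecLin =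
      LinearMap.ker (Fintype.linearCombination (R ⧸ J.map (algebraMap C R)) (smin φ₀))) :
    ∃ φ : Matrix (Fin (r + 1)) (Fin r) R, φ.map (Ideal.Quotient.mk (J.map (algebraMap C R))) = φ₀ ∧
      Ideal.span (Set.range (smin φ)) = I ∧ Function.Injective φ.mulVecLin ∧
      LinearMap.range φ.mulVecLin = LinearMap.ker (Fintype.linearCombination R (smin φ)) := by
  let N := J.map (algebraMap C R)
  let q := Ideal.Quotient.mk N
  have hNnil : IsNilpotent N := by
    obtain ⟨k, hk⟩ := isNilpotent_of_ne_top (C := C) hJ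
    exact ⟨k, by rw [← Ideal.map_pow, hk, Ideal.zero_eq_bot, Ideal.map_bot]; rfl⟩
  rcases subsingleton_or_nontrivial R with hR | hR
  · obtain ⟨φ, hφ⟩ : ∃ φ : Matrix (Fin (r + 1)) (Fin r) R, φ.map q = φ₀ :=
      ⟨fun i j => (Ideal.Quotient.mk_surjective (φ₀ i j)).choose,
        Matrix.ext fun i j => (Ideal.Quotient.mk_surjective (φ₀ i j)).choose_spec⟩
    exact ⟨φ, hφ, Subsingleton.elim _ _, Function.injective_of_subsingleton _,
      Subsingleton.elim _ _⟩
  -- lifts of the generators
  have hlift : ∀ i, ∃ g, g ∈ I ∧ q g = smin φ₀ i := fun i =>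
    (Ideal.mem_map_iff_of_surjective q Ideal.Quotient.mk_surjective).1
      (hgen ▸ Ideal.subset_span ⟨i, rfl⟩)
  choose g hgI hg using hlift
  have hg'' : ∀ i, Ideal.Quotient.mk (J.map (algebraMap C R)) (g i) = smin φ₀ i := hg
  have hg' : smin φ₀ = fun i => q (g i) := funext fun i => (hg i).symm
  have hspan : Ideal.span (Set.range g) = I := by
    refine span_eq I hJ hgI fun x hx => ?_
    have h1 : q x ∈ (Ideal.span (Set.range g)).map q := by
      rw [Ideal.map_span, ← Set.range_comp]
      change q x ∈ Ideal.span (Set.range fun i => q (g i))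
      rw [← hg', hgen]; exact Ideal.mem_map_of_mem q hx
    obtain ⟨y, hy, hyx⟩ := (Ideal.mem_map_iff_of_surjective q Ideal.Quotient.mk_surjective).1 h1
    rw [show x = y + (x - y) by ring]
    exact Submodule.add_mem_sup hy (Ideal.Quotient.eq.1 hyx.symm)
  -- lifts of the columns
  have hcol : ∀ j, ∃ w : Fin (r + 1) → R, (∀ i, q (w i) = φ₀ i j) ∧ ∑ i, w i * g i = 0 := by
    intro j
    choose v hv using fun i => Ideal.Quotient.mk_surjective (φ₀ i j)
    obtain ⟨w, hw, hw0⟩ := exists_relation hJ hspan v (Ideal.Quotient.eq_zero_iff_mem.1 (by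
      rw [map_sum]
      simp only [map_mul, hv, hg'']
      exact sum_smin_mul_col φ₀ j))
    exact ⟨w, fun i => (Ideal.Quotient.eq.2 (hw i)).trans (hv i), hw0⟩
  choose w hw hw0 using hcol
  let φ : Matrix (Fin (r + 1)) (Fin r) R := fun i j => w j i
  have hφ : φ.map q = φ₀ := Matrix.ext fun i j => hw j i
  have hrel : ∀ u, ∑ i, (φ *ᵥ u) i * g i = 0 := fun u => by
    simp only [Matrix.mulVec, dotProduct, Finset.sum_mul]
    rw [Finset.sum_comm]
    refine Finset.sum_eq_zero fun j _ => ?_
    have := congrArg (fun z => u j * z) (hw0 j)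
    simp only [Finset.mul_sum, mul_zero] at this
    rw [← this]; exact Finset.sum_congr rfl fun i _ => by simp only [φ]; ring
  obtain ⟨h1, h2⟩ := fib_hyp N g φ (hφ.symm ▸ hinj) (by rw [hφ, hex, hg'])
  obtain ⟨hexg, hinjg⟩ := exact_of_fib hJ hspan φ hrel h1 h2
  have hrange : LinearMap.range (Fintype.linearCombination R g) = I := by
    rw [Fintype.range_linearCombination]; exact hspan
  have hne : LinearMap.range (Fintype.linearCombination R g) ≠ ⊥ := by
    rw [hrange]
    intro hbot
    have hI0 : ∀ i, smin φ₀ i = 0 := fun i => by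
      rw [← hg i, show g i = 0 from (Submodule.mem_bot R).1 (hbot ▸ hgI i), map_zero]
    have hsurj : Function.Surjective φ₀.mulVecLin := LinearMap.range_eq_top.1 (by
      rw [hex]
      ext v; simp [Fintype.linearCombination_apply, hI0])
    haveI : Nontrivial (R ⧸ N) := Ideal.Quotient.nontrivial_iff.2 fun h => by
      obtain ⟨k, hk⟩ := hNnil
      rw [h, Ideal.top_pow] at hk
      exact top_ne_bot hk
    have := (LinearEquiv.ofBijective φ₀.mulVecLin ⟨hinj, hsurj⟩).finrank_eq
    simp at this
  obtain ⟨-, ⟨a, -, haI⟩, -⟩ := S12907.result r (r + 1) φ (Fintype.linearCombination R g)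
    (LinearMap.ker_eq_bot.2 hinjg) hexg.symm hne
  rw [hrange, minorIdeal_eq_span] at haI
  -- the factor is a unit
  have hJ0 : Ideal.span (Set.range (smin φ₀)) ≤
      Ideal.span {q a} • Ideal.span (Set.range (smin φ₀)) := by
    refine le_of_eq ?_
    rw [smul_eq_mul]
    nth_rw 1 [hgen]
    rw [haI, Ideal.map_mul, Ideal.map_span, Ideal.map_span, Set.image_singleton, ← Set.range_comp]
    congr 3
    funext i
    exact (map_smin q φ i).trans (by rw [hφ])
  obtain ⟨e, he, he0⟩ := Submodule.exists_sub_one_mem_and_smul_eq_zero_of_fg_of_le_smul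
    (Ideal.span {q a}) _ (Submodule.fg_span (Set.finite_range _)) hJ0
  have hann := (CAlgMisc.injective_iff φ₀).1 hinj
  have he' : e = 0 := by
    have hm : e ∈ (CAlgX.minorIdeal φ₀ r).annihilator := Submodule.mem_annihilator.2 fun x hx =>
      he0 x ((minorIdeal_eq_span φ₀).le hx)
    rwa [hann, Submodule.mem_bot] at hm
  have hua : IsUnit a := by
    rw [← IsNilpotent.isUnit_quotient_mk_iff hNnil]
    rw [he', zero_sub, neg_mem_iff, Ideal.mem_span_singleton] at he
    exact isUnit_of_dvd_one he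
  rw [Ideal.span_singleton_eq_top.2 hua, Ideal.top_mul] at haI
  have hq : (fun i => q (smin φ i)) = smin φ₀ := funext fun i => by rw [map_smin, hφ]
  obtain ⟨h1', h2'⟩ := fib_hyp N (smin φ) φ (hφ.symm ▸ hinj) (by rw [hφ, hex, ← hq])
  obtain ⟨hexD, -⟩ := exact_of_fib hJ haI.symm φ (sum_mulVec_mul_smin φ) h1' h2'
  exact ⟨φ, hφ, haI.symm, hinjg, hexD⟩

open CAlgMisc.HB in
/-- Any lift of the matrix gives a resolution of a flat quotient. -/
theorem lift_resolution [Module.Flat C R] {J : Ideal C} (hJ : J ≠ ⊤) {r : ℕ}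
    (φ : Matrix (Fin (r + 1)) (Fin r) R)
    (hinj : Function.Injective (φ.map (Ideal.Quotient.mk (J.map (algebraMap C R)))).mulVecLin)
    (hex : LinearMap.range (φ.map (Ideal.Quotient.mk (J.map (algebraMap C R)))).mulVecLin =
      LinearMap.ker (Fintype.linearCombination (R ⧸ J.map (algebraMap C R))
        (smin (φ.map (Ideal.Quotient.mk (J.map (algebraMap C R)))))))
    [Module.Flat (C ⧸ J) ((R ⧸ J.map (algebraMap C R)) ⧸
      Ideal.span (Set.range (smin (φ.map (Ideal.Quotient.mk (J.map (algebraMap C R)))))))] :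
    Function.Injective φ.mulVecLin ∧
      LinearMap.range φ.mulVecLin = LinearMap.ker (Fintype.linearCombination R (smin φ)) ∧
      Module.Flat C (R ⧸ Ideal.span (Set.range (smin φ))) := by
  let N := J.map (algebraMap C R)
  let q := Ideal.Quotient.mk N
  have hq : (fun i => q (smin φ i)) = smin (φ.map q) := funext fun i => map_smin q φ i
  obtain ⟨h1, h2⟩ := fib_hyp N (smin φ) φ hinj (by rw [hex, ← hq])
  let I := Ideal.span (Set.range (smin φ))
  haveI : IsLocalRing (C ⧸ J) :=
    haveI : Nontrivial (C ⧸ J) := Ideal.Quotient.nontrivial_iff.2 hJ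
    IsLocalRing.of_surjective' (Ideal.Quotient.mk J) Ideal.Quotient.mk_surjective
  haveI : IsLocalHom (Ideal.Quotient.mk J) := Ideal.Quotient.mk_surjective.isLocalHom _
  haveI : IsArtinianRing (C ⧸ J) :=
    Ideal.Quotient.mk_surjective.isArtinianRing (f := Ideal.Quotient.mk J)
  have hm : (maximalIdeal (C ⧸ J)).map (algebraMap (C ⧸ J) (R ⧸ N)) =
      ((maximalIdeal C).map (algebraMap C R)).map q := by
    rw [← map_maximalIdeal_of_surjective _ (Ideal.Quotient.mk_surjective (I := J)), Ideal.map_map,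
      Ideal.map_map]
    rfl
  have hI0 : I.map q = Ideal.span (Set.range (smin (φ.map q))) := by
    rw [Ideal.map_span, ← Set.range_comp, ← hq]; rfl
  have hflat : Module.Flat C (R ⧸ I) := by
    rw [ArtFunLib.FlatSeq.flat_quotient_iff]
    rintro x ⟨hxI, hxm⟩
    have h3 : q x ∈ ((maximalIdeal C).map (algebraMap C R) * I).map q := by
      rw [Ideal.map_mul, ← hm, hI0]
      refine mem_mul_of_flat_quotient (algebraMap (C ⧸ J) (R ⧸ N)) _ ?_ _ ?_ ?_
      · exact RingHom.flat_algebraMap_iff.2 inferInstance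
      · exact hI0 ▸ Ideal.mem_map_of_mem q hxI
      · exact hm ▸ Ideal.mem_map_of_mem q hxm
    obtain ⟨y, hy, hyx⟩ := (Ideal.mem_map_iff_of_surjective q Ideal.Quotient.mk_surjective).1 h3
    obtain ⟨w, hw⟩ := Ideal.mem_span_range_iff_exists_fun.1
      (sub_mem hxI (Ideal.mul_le_right hy) : x - y ∈ I)
    obtain ⟨u, hu⟩ := h1 w (hw ▸ Ideal.Quotient.eq.1 hyx.symm)
    have hxy : x - y = ∑ i, (w i - (φ *ᵥ u) i) * smin φ i := by
      simp only [sub_mul, Finset.sum_sub_distrib, sum_mulVec_mul_smin, sub_zero, hw]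
    rw [show x = y + (x - y) by ring, hxy]
    exact add_mem hy (sum_mem fun i _ => Ideal.mul_mem_mul
      (Ideal.map_mono (le_maximalIdeal hJ) (hu i)) (Ideal.subset_span ⟨i, rfl⟩))
  haveI : Module.Flat C (R ⧸ I) := hflat
  obtain ⟨h3, h4⟩ := exact_of_fib hJ (I := I) rfl φ (sum_mulVec_mul_smin φ) h1 h2
  exact ⟨h4, h3, hflat⟩

end Groth.Agent.HilbLoc.Burch
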