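import Groth.Agent.S12907
import Groth.Agent.S12908
import Groth.Agent.ABReg.Basic
import Groth.Agent.Depth.CM
import Mathlib.RingTheory.KrullDimension.Regular
import Mathlib.Algebra.Module.SpanRank

/-!
# Hilbert–Burch for Cohen–Macaulay quotients of codimension two
-/

set_option autoImplicit false

universe u

open IsLocalRing CategoryTheory Matrix Groth.Agent.RegLoc.PD Groth.Agent.CAlgMisc.HB

namespace Groth.Agent.HilbLoc.Burch

variable {A : Type u} [CommRing A] [IsRegularLocalRing A] (I : Ideal A)
  [LocCoh.IsCohenMacaulayLocalRing (A ⧸ I)]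

theorem pd_ideal_le_one (hcodim : ringKrullDim (A ⧸ I) + 2 = ringKrullDim A) :
    HasProjectiveDimensionLE (ModuleCat.of A I) 1 := by
  obtain ⟨d, hd, -⟩ := RegLoc.exists_natCast_eq_ringKrullDim A
  obtain ⟨e, he, -⟩ := RegLoc.exists_natCast_eq_ringKrullDim (A ⧸ I)
  have hde : d = e + 2 := by
    rw [hd, he] at hcodim
    exact_mod_cast hcodim.symm
  have hCM : LocCoh.IsCohenMacaulayModule A (A ⧸ I) :=
    (Depth.isCohenMacaulayModule_iff_of_surjective (R := A) (S := A ⧸ I) (N := A ⧸ I)
      Ideal.Quotient.mk_surjective).1 LocCoh.IsCohenMacaulayLocalRing.supportDim_eq_depth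
  rw [LocCoh.IsCohenMacaulayModule, Module.supportDim_quotient_eq_ringKrullDim, he] at hCM
  have hdep : ((d - 2 : ℕ) : ℕ∞) ≤ LocCoh.depth A (A ⧸ I) := by
    have h2 : d - 2 = e := by omega
    rw [h2]
    exact le_of_eq (WithBot.coe_injective (hCM.symm ▸ rfl))
  have h := (pd_shift (R := A) I.mkQ (Submodule.mkQ_surjective I) 1).1
    ((ABReg.le_depth_iff hd 2 (A ⧸ I)).1 hdep)
  rwa [Submodule.ker_mkQ] at h

theorem exists_minors (hcodim : ringKrullDim (A ⧸ I) + 2 = ringKrullDim A) :
    ∃ (r : ℕ) (φ : Matrix (Fin (r + 1)) (Fin r) A), Ideal.span (Set.range (smin φ)) = I ∧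
      I.spanFinrank = r + 1 ∧ Function.Injective φ.mulVecLin ∧
      LinearMap.range φ.mulVecLin = LinearMap.ker (Fintype.linearCombination A (smin φ)) := by
  classical
  haveI := RegLoc.isDomain A
  obtain ⟨d, hd, -⟩ := RegLoc.exists_natCast_eq_ringKrullDim A
  obtain ⟨e, he, -⟩ := RegLoc.exists_natCast_eq_ringKrullDim (A ⧸ I)
  have hde : d = e + 2 := by
    rw [hd, he] at hcodim
    exact_mod_cast hcodim.symm
  have htop : I ≠ ⊤ := Ideal.Quotient.nontrivial_iff.1 inferInstance
  have hbot : I ≠ ⊥ := by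
    intro h
    have h1 := ringKrullDim_eq_of_ringEquiv ((Ideal.quotEquivOfEq h).trans (RingEquiv.quotientBot A))
    rw [hd, he, Nat.cast_inj] at h1
    omega
  obtain ⟨n, f, hf, hker⟩ := RegLoc.Homological.exists_minimal_cover (R := A) I
  have hproj : Module.Projective A (LinearMap.ker f) :=
    (pd_zero_iff _).1 ((pd_shift f hf 0).1 (pd_ideal_le_one I hcodim))
  haveI : Module.Free A (LinearMap.ker f) := Module.free_of_flat_of_isLocalRing
  obtain ⟨m, ⟨b⟩⟩ : ∃ m : ℕ, Nonempty (Module.Basis (Fin m) A (LinearMap.ker f)) :=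
    ⟨_, ⟨Module.finBasis A (LinearMap.ker f)⟩⟩
  let Ψ : Matrix (Fin n) (Fin m) A := fun i j => (b j : Fin n → A) i
  have hΨ : Ψ.mulVecLin = (LinearMap.ker f).subtype ∘ₗ b.equivFun.symm.toLinearMap := by
    refine LinearMap.ext fun u => funext fun i => ?_
    simp [Ψ, Module.Basis.equivFun_symm_apply, Matrix.mulVec, dotProduct, mul_comm]
  let π : (Fin n → A) →ₗ[A] A := I.subtype ∘ₗ f
  have hπker : LinearMap.ker π = LinearMap.ker f := by
    rw [LinearMap.ker_comp, Submodule.ker_subtype, Submodule.comap_bot]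
  have hπrange : LinearMap.range π = I := by
    rw [LinearMap.range_comp, LinearMap.range_eq_top.2 hf, Submodule.map_top, Submodule.range_subtype]
  have hΨinj : LinearMap.ker Ψ.mulVecLin = ⊥ := by
    rw [hΨ, LinearMap.ker_eq_bot]
    exact Subtype.val_injective.comp b.equivFun.symm.injective
  have hΨrange : LinearMap.range Ψ.mulVecLin = LinearMap.ker f := by
    rw [hΨ, LinearMap.range_comp, LinearMap.range_eq_top.2 b.equivFun.symm.surjective,
      Submodule.map_top, Submodule.range_subtype]
  obtain ⟨hn, ⟨a, ha, haI⟩, hdepth⟩ :=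
    S12907.result m n Ψ π hΨinj (hπker.trans hΨrange.symm) (by rw [hπrange]; exact hbot)
  rw [hπrange] at haI
  subst hn
  have hua : IsUnit a := by
    by_contra hna
    have hle : I ≤ Ideal.span {a} := haI.le.trans Ideal.mul_le_left
    have h1 : ringKrullDim (A ⧸ Ideal.span {a}) ≤ ringKrullDim (A ⧸ I) :=
      ringKrullDim_le_of_surjective (Ideal.Quotient.factor hle) (Ideal.Quotient.factor_surjective hle)
    obtain ⟨c, hc, -⟩ :=
      haveI : Nontrivial (A ⧸ Ideal.span {a}) :=
        Ideal.Quotient.nontrivial_iff.2 fun h => hna (Ideal.span_singleton_eq_top.1 h)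
      haveI : IsLocalRing (A ⧸ Ideal.span {a}) :=
        IsLocalRing.of_surjective' (Ideal.Quotient.mk _) Ideal.Quotient.mk_surjective
      RegLoc.exists_natCast_eq_ringKrullDim (A ⧸ Ideal.span {a})
    have h2 := ringKrullDim_quotient_span_singleton_succ_eq_ringKrullDim_of_mem_nonZeroDivisors ha
      ((mem_maximalIdeal a).2 hna)
    rw [hc, hd] at h2
    rw [hc, he] at h1
    norm_cast at h1 h2
    omega
  rw [Ideal.span_singleton_eq_top.2 hua, Ideal.top_mul, minorIdeal_eq_span] at haI
  obtain ⟨-, hex, -⟩ := S12908.result m Ψ hdepth 1 (one_mem _)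
  simp only [one_mul] at hex
  refine ⟨m, Ψ, haI.symm, le_antisymm ?_ ?_, LinearMap.ker_eq_bot.1 hΨinj, hex.symm⟩
  · rw [haI]
    refine (Submodule.spanFinrank_span_le_ncard_of_finite (Set.finite_range _)).trans ?_
    rw [← Nat.card_coe_set_eq]
    exact (Finite.card_range_le _).trans_eq (Nat.card_fin _)
  · obtain ⟨t, htc, hts⟩ := Submodule.FG.exists_span_finset_card_eq_spanFinrank
      (IsNoetherian.noetherian (R := A) I)
    have hmem : ∀ x : t, (x : A) ∈ I := fun x =>
      hts ▸ Submodule.subset_span x.2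
    choose β hβ using fun x : t => hf ⟨x, hmem x⟩
    have hsup : (⊤ : Submodule A (Fin (m + 1) → A)) ≤
        Submodule.span A (Set.range β) ⊔ maximalIdeal A • ⊤ := by
      intro v _
      have hv : f v ∈ Submodule.span A (Set.range fun x : t => f (β x)) := by
        rw [← Submodule.apply_mem_span_image_iff_mem_span (f := I.subtype) Subtype.val_injective,
          ← Set.range_comp]
        simp only [Function.comp_def, hβ, Submodule.subtype_apply]
        rw [Subtype.range_coe_subtype]
        exact hts.symm ▸ (f v).2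
      rw [show (fun x : t => f (β x)) = f ∘ β from rfl, Set.range_comp, ← Submodule.map_span] at hv
      obtain ⟨w, hw, hwv⟩ := hv
      rw [show v = w + (v - w) by abel]
      refine Submodule.add_mem_sup hw ?_
      have hk := hker (v - w) (by rw [LinearMap.mem_ker, map_sub, hwv, sub_self])
      rw [← Finset.univ_sum_single (v - w)]
      refine sum_mem fun i _ => ?_
      rw [show (Pi.single i ((v - w) i) : Fin (m + 1) → A) = (v - w) i • Pi.single i 1 by
        rw [← Pi.single_smul, smul_eq_mul, mul_one]]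
      exact Submodule.smul_mem_smul (hk i) trivial
    have hspan := Submodule.le_of_le_smul_of_le_jacobson_bot
      (Module.finite_def.1 inferInstance) (maximalIdeal_le_jacobson _) hsup
    rw [top_le_iff, ← Fintype.range_linearCombination, LinearMap.range_eq_top] at hspan
    have := LinearMap.finrank_le_finrank_of_surjective hspan
    simp at this
    change _ ≤ Submodule.spanFinrank _
    omega

end Groth.Agent.HilbLoc.Burch
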