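import Groth.Agent.CAlgMisc.HilbertBurch
import Mathlib.RingTheory.Localization.Away.Basic
import Mathlib.RingTheory.Localization.Integer

/-!
# Spreading out a Hilbert–Burch resolution from a localisation
-/

set_option autoImplicit false

universe u

open Matrix Groth.Agent.CAlgMisc.HB

namespace Groth.Agent.HilbLoc.Burch

theorem exists_smul_mem {R : Type u} [CommRing R] (P : Submonoid R) {M : Type*} [AddCommGroup M]
    [Module R M] {K L : Submodule R M} (hK : K.FG) (h : ∀ x ∈ K, ∃ t ∈ P, t • x ∈ L) :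
    ∃ t ∈ P, ∀ x ∈ K, t • x ∈ L := by
  classical
  obtain ⟨s, rfl⟩ := hK
  choose t ht htx using fun x : s => h x (Submodule.subset_span x.2)
  refine ⟨∏ x, t x, prod_mem fun x _ => ht x, fun x hx => ?_⟩
  induction hx using Submodule.span_induction with
  | mem x hx =>
    obtain ⟨c, hc⟩ := Finset.dvd_prod_of_mem t (Finset.mem_univ (⟨x, hx⟩ : s))
    rw [hc, mul_comm, mul_smul]
    exact L.smul_mem c (htx ⟨x, hx⟩)
  | zero => simp
  | add x y _ _ hx hy => rw [smul_add]; exact add_mem hx hy
  | smul a x _ hx => rw [smul_comm]; exact L.smul_mem a hx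

theorem map_smin' {R S : Type*} [CommRing R] [CommRing S] (f : R →+* S) {r : ℕ}
    (φ : Matrix (Fin (r + 1)) (Fin r) R) : smin (φ.map f) = fun i => f (smin φ i) := by
  funext i
  simp [smin, RingHom.map_det, Matrix.submatrix_map]

theorem exists_smul_map_eq {R : Type u} [CommRing R] (P : Submonoid R) {S : Type u} [CommRing S]
    [Algebra R S] [IsLocalization P S] {m n : Type} [Finite m] [Finite n] (φS : Matrix m n S) :
    ∃ b ∈ P, ∃ φ : Matrix m n R, φ.map (algebraMap R S) = algebraMap R S b • φS := by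
  obtain ⟨⟨b, hb⟩, h⟩ := IsLocalization.exist_integer_multiples_of_finite (S := S) P
    (fun p : m × n => φS p.1 p.2)
  choose φ hφ using h
  exact ⟨b, hb, fun i j => φ (i, j), Matrix.ext fun i j => by
    simpa [Algebra.smul_def] using hφ (i, j)⟩

theorem smul_unit {S : Type*} [CommRing S] {r : ℕ} (φ : Matrix (Fin (r + 1)) (Fin r) S) {c : S}
    (hc : IsUnit c) (I : Ideal S) (h1 : Ideal.span (Set.range (smin φ)) = I)
    (h2 : Function.Injective φ.mulVecLin)
    (h3 : LinearMap.range φ.mulVecLin = LinearMap.ker (Fintype.linearCombination S (smin φ))) :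
    Ideal.span (Set.range (smin (c • φ))) = I ∧ Function.Injective (c • φ).mulVecLin ∧
      LinearMap.range (c • φ).mulVecLin =
        LinearMap.ker (Fintype.linearCombination S (smin (c • φ))) := by
  obtain ⟨c, rfl⟩ := hc
  have hs : smin ((c : S) • φ) = fun i => (c : S) ^ r * smin φ i := by
    funext i
    simp [smin, Matrix.submatrix_smul, Matrix.det_smul]
    ring
  have hmv : ∀ u, ((c : S) • φ).mulVecLin u = φ.mulVecLin ((c : S) • u) := fun u => by
    simp [Matrix.smul_mulVec, Matrix.mulVec_smul]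
  refine ⟨?_, fun u v huv => ?_, ?_⟩
  · rw [hs, ← h1]
    refine le_antisymm (Ideal.span_le.2 ?_) (Ideal.span_le.2 ?_)
    · rintro _ ⟨i, rfl⟩
      exact Ideal.mul_mem_left _ _ (Ideal.subset_span ⟨i, rfl⟩)
    · rintro _ ⟨i, rfl⟩
      rw [SetLike.mem_coe, ← Ideal.unit_mul_mem_iff_mem _ ((Units.isUnit c).pow r)]
      exact Ideal.subset_span ⟨i, rfl⟩
  · rw [hmv, hmv] at huv
    exact smul_left_cancel c (h2 huv)
  · ext v
    have e : v ∈ LinearMap.range ((c : S) • φ).mulVecLin ↔ v ∈ LinearMap.range φ.mulVecLin := by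
      constructor
      · rintro ⟨u, rfl⟩; exact ⟨_, (hmv u).symm⟩
      · rintro ⟨u, rfl⟩
        refine ⟨((c⁻¹ : Sˣ) : S) • u, ?_⟩
        rw [hmv, smul_smul, Units.mul_inv, one_smul]
    rw [e, h3, hs, LinearMap.mem_ker, LinearMap.mem_ker, Fintype.linearCombination_apply,
      Fintype.linearCombination_apply]
    simp only [smul_eq_mul, mul_left_comm _ ((c : S) ^ r), ← Finset.mul_sum]
    exact (((Units.isUnit c).pow r).mul_right_eq_zero).symm

/-- A resolution over a localisation extends to a basic open. -/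
theorem exists_away {R : Type u} [CommRing R] [IsNoetherianRing R] (P : Submonoid R) (S : Type u)
    [CommRing S] [Algebra R S] [IsLocalization P S] (I : Ideal R) {r : ℕ}
    (φ : Matrix (Fin (r + 1)) (Fin r) R)
    (h1 : Ideal.span (Set.range (smin (φ.map (algebraMap R S)))) = I.map (algebraMap R S))
    (h2 : Function.Injective (φ.map (algebraMap R S)).mulVecLin)
    (h3 : LinearMap.range (φ.map (algebraMap R S)).mulVecLin =
      LinearMap.ker (Fintype.linearCombination S (smin (φ.map (algebraMap R S))))) :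
    ∃ T ∈ P, ∀ (R' : Type u) [CommRing R'] [Algebra R R'] [IsLocalization.Away T R'],
      Ideal.span (Set.range (smin (φ.map (algebraMap R R')))) = I.map (algebraMap R R') ∧
      Function.Injective (φ.map (algebraMap R R')).mulVecLin ∧
      LinearMap.range (φ.map (algebraMap R R')).mulVecLin =
        LinearMap.ker (Fintype.linearCombination R' (smin (φ.map (algebraMap R R')))) := by
  classical
  let D := Ideal.span (Set.range (smin φ))
  have hD : D.map (algebraMap R S) = I.map (algebraMap R S) := by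
    rw [← h1, Ideal.map_span, ← Set.range_comp, map_smin']; rfl
  have hmem : ∀ (J : Ideal R) (x : R), algebraMap R S x ∈ J.map (algebraMap R S) →
      ∃ t ∈ P, t • x ∈ J := by
    intro J x hx
    obtain ⟨t, ht, htx⟩ := (IsLocalization.algebraMap_mem_map_algebraMap_iff P S J x).1 hx
    exact ⟨t, ht, htx⟩
  have heq : ∀ x : R, algebraMap R S x = 0 → ∃ t ∈ P, t * x = 0 := fun x hx => by
    obtain ⟨t, ht⟩ := (IsLocalization.map_eq_zero_iff P S x).1 hx
    exact ⟨t, t.2, ht⟩
  have heqv : ∀ (n : ℕ) (v : Fin n → R), (∀ i, algebraMap R S (v i) = 0) →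
      ∃ t ∈ P, t • v = 0 := fun n v hv => by
    choose t ht htv using fun i => heq (v i) (hv i)
    refine ⟨∏ i, t i, prod_mem fun i _ => ht i, funext fun i => ?_⟩
    obtain ⟨c, hc⟩ := Finset.dvd_prod_of_mem t (Finset.mem_univ i)
    rw [Pi.smul_apply, hc, smul_eq_mul, mul_comm (t i), mul_assoc, htv, mul_zero, Pi.zero_apply]
  obtain ⟨t₁, ht₁, hI⟩ := exists_smul_mem P (K := I) (L := D) (IsNoetherian.noetherian I)
    fun x hx => hmem D x (hD ▸ Ideal.mem_map_of_mem _ hx)
  obtain ⟨t₂, ht₂, hD'⟩ := exists_smul_mem P (K := D) (L := I) (IsNoetherian.noetherian D)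
    fun x hx => hmem I x (hD ▸ Ideal.mem_map_of_mem _ hx)
  obtain ⟨t₃, ht₃, hinj⟩ := exists_smul_mem P (K := LinearMap.ker φ.mulVecLin) (L := ⊥)
    (IsNoetherian.noetherian _) fun u hu => by
      have h : (φ.map (algebraMap R S)).mulVecLin (fun j => algebraMap R S (u j)) = 0 := by
        funext i
        refine (RingHom.map_mulVec (algebraMap R S) φ u i).symm.trans ?_
        rw [show φ *ᵥ u = 0 from hu, Pi.zero_apply, map_zero, Pi.zero_apply]
      obtain ⟨t, ht, htu⟩ := heqv r u fun j => congrFun (h2 (h.trans (map_zero _).symm)) j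
      exact ⟨t, ht, by rw [htu]; exact zero_mem _⟩
  obtain ⟨t₄, ht₄, hex⟩ := exists_smul_mem P
    (K := LinearMap.ker (Fintype.linearCombination R (smin φ)))
    (L := LinearMap.range φ.mulVecLin) (IsNoetherian.noetherian _) fun v hv => by
      have h : (fun i => algebraMap R S (v i)) ∈
          LinearMap.range (φ.map (algebraMap R S)).mulVecLin := by
        rw [h3, LinearMap.mem_ker, Fintype.linearCombination_apply, map_smin']
        rw [LinearMap.mem_ker, Fintype.linearCombination_apply] at hv
        have := congrArg (algebraMap R S) hv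
        simpa using this
      obtain ⟨uS, huS⟩ := h
      obtain ⟨⟨b, hb⟩, hu⟩ := IsLocalization.exist_integer_multiples_of_finite (S := S) P uS
      choose u hu using hu
      obtain ⟨t, ht, htv⟩ := heqv (r + 1) (b • v - φ *ᵥ u) fun i => by
        rw [Pi.sub_apply, map_sub, RingHom.map_mulVec, Pi.smul_apply, smul_eq_mul, map_mul,
          show (algebraMap R S) ∘ u = algebraMap R S b • uS from funext fun j => by
            simpa [Algebra.smul_def] using hu j,
          Matrix.mulVec_smul, Pi.smul_apply, ← Matrix.mulVecLin_apply, huS, smul_eq_mul, sub_self]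
      refine ⟨t * b, mul_mem ht hb, t • u, ?_⟩
      rw [smul_sub, sub_eq_zero] at htv
      rw [Matrix.mulVecLin_apply, Matrix.mulVec_smul, ← htv, mul_smul]
  refine ⟨t₁ * t₂ * t₃ * t₄, mul_mem (mul_mem (mul_mem ht₁ ht₂) ht₃) ht₄, ?_⟩
  intro R' _ _ _
  set T := t₁ * t₂ * t₃ * t₄ with hT
  have hu : ∀ t, t ∣ T → IsUnit (algebraMap R R' t) := fun t htT =>
    isUnit_of_dvd_unit (map_dvd _ htT) (IsLocalization.Away.algebraMap_isUnit T)
  have hu₁ := hu t₁ ⟨t₂ * t₃ * t₄, by rw [hT]; ring⟩
  have hu₂ := hu t₂ ⟨t₁ * t₃ * t₄, by rw [hT]; ring⟩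
  have hu₃ := hu t₃ ⟨t₁ * t₂ * t₄, by rw [hT]; ring⟩
  have hu₄ := hu t₄ ⟨t₁ * t₂ * t₃, by rw [hT]; ring⟩
  have hs : smin (φ.map (algebraMap R R')) = fun i => algebraMap R R' (smin φ i) := map_smin' _ _
  refine ⟨?_, ?_, le_antisymm ?_ ?_⟩
  · rw [hs, show Ideal.span (Set.range fun i => algebraMap R R' (smin φ i)) = D.map (algebraMap R R') by
      rw [Ideal.map_span, ← Set.range_comp]; rfl]
    refine le_antisymm (Ideal.map_le_iff_le_comap.2 fun x hx => ?_)
      (Ideal.map_le_iff_le_comap.2 fun x hx => ?_)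
    · rw [Ideal.mem_comap, ← Ideal.unit_mul_mem_iff_mem _ hu₂, ← map_mul]
      exact Ideal.mem_map_of_mem _ (hD' x hx)
    · rw [Ideal.mem_comap, ← Ideal.unit_mul_mem_iff_mem _ hu₁, ← map_mul]
      exact Ideal.mem_map_of_mem _ (hI x hx)
  · refine (injective_iff_map_eq_zero _).2 fun u' hu' => ?_
    obtain ⟨⟨b, hb⟩, h⟩ := IsLocalization.exist_integer_multiples_of_finite (S := R')
      (Submonoid.powers T) u'
    choose u huu using h
    have hub : (algebraMap R R') ∘ u = algebraMap R R' b • u' := funext fun j => by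
      simpa [Algebra.smul_def] using huu j
    have h0 : ∀ i, algebraMap R R' ((φ *ᵥ u) i) = 0 := fun i => by
      rw [RingHom.map_mulVec, hub, Matrix.mulVec_smul, Pi.smul_apply, ← Matrix.mulVecLin_apply, hu',
        Pi.zero_apply, smul_zero]
    choose c hc using fun i => (IsLocalization.map_eq_zero_iff (Submonoid.powers T) R' _).1 (h0 i)
    have hker : (∏ i, (c i : R)) • u ∈ LinearMap.ker φ.mulVecLin := by
      rw [LinearMap.mem_ker, map_smul]
      funext i
      obtain ⟨d, hd⟩ := Finset.dvd_prod_of_mem (fun i => (c i : R)) (Finset.mem_univ i)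
      rw [Pi.smul_apply, Matrix.mulVecLin_apply, hd, smul_eq_mul, mul_comm (c i : R), mul_assoc, hc,
        mul_zero, Pi.zero_apply]
    have h5 := hinj _ hker
    rw [Submodule.mem_bot, smul_smul] at h5
    have hU : IsUnit (algebraMap R R' (t₃ * ∏ i, (c i : R))) := by
      rw [map_mul, map_prod]
      exact hu₃.mul (IsUnit.prod_iff.2 fun i _ => IsLocalization.map_units R' (c i))
    funext j
    have h6 : algebraMap R R' ((t₃ * ∏ i, (c i : R)) * u j) = 0 := by
      rw [show (t₃ * ∏ i, (c i : R)) * u j = 0 from congrFun h5 j, map_zero]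
    rw [map_mul, hU.mul_right_eq_zero] at h6
    have h7 := congrFun hub j
    rw [Function.comp_apply, h6, Pi.smul_apply, smul_eq_mul] at h7
    exact (IsLocalization.map_units R' ⟨b, hb⟩).mul_right_eq_zero.1 h7.symm
  · rintro _ ⟨u, rfl⟩
    rw [LinearMap.mem_ker, Fintype.linearCombination_apply, Matrix.mulVecLin_apply]
    exact sum_mulVec_mul_smin _ u
  · intro v' hv'
    obtain ⟨⟨b, hb⟩, h⟩ := IsLocalization.exist_integer_multiples_of_finite (S := R')
      (Submonoid.powers T) v'
    choose v hv using h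
    have hvb : (algebraMap R R') ∘ v = algebraMap R R' b • v' := funext fun j => by
      simpa [Algebra.smul_def] using hv j
    have h0 : algebraMap R R' (∑ i, v i * smin φ i) = 0 := by
      rw [LinearMap.mem_ker, Fintype.linearCombination_apply] at hv'
      rw [map_sum]
      simp only [map_mul]
      have h1 : ∀ i, algebraMap R R' (v i) = algebraMap R R' b * v' i := congrFun hvb
      simp only [h1, mul_assoc, ← Finset.mul_sum]
      rw [show ∑ i, v' i * algebraMap R R' (smin φ i) = 0 by simpa [hs] using hv', mul_zero]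
    obtain ⟨c, hc⟩ := (IsLocalization.map_eq_zero_iff (Submonoid.powers T) R' _).1 h0
    have hker : (c : R) • v ∈ LinearMap.ker (Fintype.linearCombination R (smin φ)) := by
      rw [LinearMap.mem_ker, map_smul, Fintype.linearCombination_apply]
      simpa using hc
    obtain ⟨u, hu⟩ := hex _ hker
    obtain ⟨w, hw⟩ := ((hu₄.mul (IsLocalization.map_units R' c)).mul
      (IsLocalization.map_units R' ⟨b, hb⟩)).exists_left_inv
    refine ⟨w • ((algebraMap R R') ∘ u), funext fun i => ?_⟩
    rw [map_smul, Pi.smul_apply, Matrix.mulVecLin_apply, ← RingHom.map_mulVec,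
      ← Matrix.mulVecLin_apply, hu, Pi.smul_apply, Pi.smul_apply, smul_eq_mul, smul_eq_mul,
      smul_eq_mul, map_mul, map_mul, show algebraMap R R' (v i) = algebraMap R R' b * v' i from
        congrFun hvb i]
    linear_combination (v' i) * hw

end Groth.Agent.HilbLoc.Burch
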