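import Groth.Agent.HilbLoc.LocalLift
import Groth.Agent.HilbLoc.Normal
import Groth.Agent.Omega.ThickDiff
import Groth.Agent.QCoh.Qcqs
import Groth.Agent.QCoh.Exact
import Groth.Agent.AmpleLib.Ideal
import Groth.Agent.HomShQC.Basic

/-!
# Lifting regularly embedded subschemes when `Ext¹(I/I², O) = 0`
-/

set_option autoImplicit false

universe u

open CategoryTheory AlgebraicGeometry IsLocalRing Limits TopologicalSpace OmegaSh
open Groth.Agent.PullStalk.Sky Groth.Agent.PullStalk.Exact Groth.Agent.PullStalk.Basic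

noncomputable section

namespace Groth.Agent.HilbLoc

open ArtFun ArtFun.Art DefSchLib

section Descend

variable {Z X : Scheme.{u}} (i : Z ⟶ X)

lemma stalkLin_comp {M N P : Z.Modules} (f : M ⟶ N) (g : N ⟶ P) (z : Z) (t : M.presheaf.stalk z) :
    stalkLin (f ≫ g) z t = stalkLin g z (stalkLin f z t) := by
  obtain ⟨U, hz, m, rfl⟩ := exists_germM_eq M z t
  rw [stalkLin_germ, stalkLin_germ, stalkLin_germ]
  rfl

lemma eq_zero_of_stalkLin {M N : Z.Modules} (f : M ⟶ N) (h : ∀ z t, stalkLin f z t = 0) : f = 0 := by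
  refine Scheme.Modules.hom_ext _ _ fun V => ?_
  ext m
  refine HomShQC.sec_ext N fun z hz => ?_
  rw [← stalkLin_germ f V z hz m, h]
  exact (map_zero (N.presheaf.germ V z hz).hom).symm

/-- A morphism extending on stalks kills the kernel of the pulled back inclusion. -/
theorem kernel_comp_eq_zero_of_stalk {K M : X.Modules} (a : K ⟶ M)
    (η : K ⟶ (Scheme.Modules.pushforward i).obj (Coh.structureModule Z))
    (hloc : ∀ z : Z, ∃ g : M.presheaf.stalk (i z) →ₗ[X.presheaf.stalk (i z)]
      ((Scheme.Modules.pushforward i).obj (Coh.structureModule Z)).presheaf.stalk (i z),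
      ∀ t, g (stalkLin a (i z) t) = stalkLin η (i z) t) :
    kernel.ι ((Scheme.Modules.pullback i).map a) ≫
      ((Scheme.Modules.pullbackPushforwardAdjunction i).homEquiv _ _).symm η = 0 := by
  let adj := Scheme.Modules.pullbackPushforwardAdjunction i
  let P := Scheme.Modules.pullback i
  let η' : P.obj K ⟶ Coh.structureModule Z := (adj.homEquiv _ _).symm η
  have hη' : ∀ (z : Z) (t : K.presheaf.stalk (i z)), stalkLin η' z (unitStalkHom i K z t) =
      stalkLin (adj.counit.app (Coh.structureModule Z)) z (unitStalkHom i _ z (stalkLin η (i z) t)) := by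
    intro z t
    rw [show η' = P.map η ≫ adj.counit.app (Coh.structureModule Z) from Adjunction.homEquiv_counit .., stalkLin_comp]
    exact congrArg _ (Omega.ThickDiff.stalkLin_pullback_map i η z t)
  have hker : kernel.ι (P.map a) ≫ η' = 0 := by
    refine eq_zero_of_stalkLin _ fun z t => ?_
    obtain ⟨g, hg⟩ := hloc z
    obtain ⟨G, hG, -⟩ := Omega.StalkConormal.existsUnique_unitStalk i z M ((Coh.structureModule Z).presheaf.stalk z)
      ((stalkLin (adj.counit.app (Coh.structureModule Z)) z).toAddMonoidHom.comp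
        ((unitStalkHom i _ z).hom.comp g.toAddMonoidHom)) fun b m => by
        change stalkLin _ z (unitStalkHom i _ z (g (b • m))) = _
        rw [map_smul, unitStalkHom_smul, map_smul]
        rfl
    have hfac : G.comp (stalkLin (P.map a) z) = stalkLin η' z := hom_eq_of_unitStalk i _ _ fun s => by
      change G (stalkLin (P.map a) z (unitStalkHom i K z s)) = _
      rw [Omega.ThickDiff.stalkLin_pullback_map, hG, hη']
      change stalkLin _ z (unitStalkHom i _ z (g (stalkLin a (i z) s))) = _
      rw [hg]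
    rw [stalkLin_comp]
    change stalkLin η' z _ = 0
    rw [← hfac, LinearMap.comp_apply, ← stalkLin_comp, kernel.condition]
    obtain ⟨U, hz, m, rfl⟩ := exists_germM_eq _ z t
    rw [stalkLin_germ]
    exact (congrArg G (map_zero ((P.obj M).presheaf.germ U z hz).hom)).trans (map_zero G)
  exact hker

/-- The image sequence of a pulled back right exact sequence. -/
theorem imageSeq_shortExact {K M Q : X.Modules} (a : K ⟶ M) (q : M ⟶ Q) (w : a ≫ q = 0)
    (hq : IsColimit (CokernelCofork.ofπ q w)) :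
    ∃ hw : Abelian.image.ι ((Scheme.Modules.pullback i).map a) ≫ (Scheme.Modules.pullback i).map q = 0,
      (ShortComplex.mk _ _ hw).ShortExact := by
  let P := Scheme.Modules.pullback i
  let e := Abelian.factorThruImage (P.map a)
  let j := Abelian.image.ι (P.map a)
  have hej : e ≫ j = P.map a := Abelian.image.fac _
  have hw : j ≫ P.map q = 0 := (cancel_epi e).1 (((Category.assoc _ _ _).symm.trans
    (congrArg (· ≫ P.map q) hej)).trans (by rw [← Functor.map_comp, w, Functor.map_zero, comp_zero]))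
  have hPq : IsColimit (CokernelCofork.ofπ (f := P.map a) (P.map q)
      (by rw [← Functor.map_comp, w, Functor.map_zero])) :=
    CokernelCofork.mapIsColimit _ hq P
  have hjq : IsColimit (CokernelCofork.ofπ (P.map q) hw) := by
    refine CokernelCofork.IsColimit.ofπ _ _
      (fun {T} h hh => hPq.desc (CokernelCofork.ofπ h
        ((congrArg (· ≫ h) hej.symm).trans (by rw [Category.assoc, hh, comp_zero]))))
      (fun {T} h hh => Cofork.IsColimit.π_desc hPq) (fun {T} h hh m hm => ?_)
    refine Cofork.IsColimit.hom_ext hPq ?_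
    refine hm.trans ?_
    exact (hPq.fac (CokernelCofork.ofπ h
      ((congrArg (· ≫ h) hej.symm).trans (by rw [Category.assoc, hh, comp_zero]))) WalkingParallelPair.one).symm
  have hS : (ShortComplex.mk j (P.map q) hw).ShortExact :=
    { exact := ShortComplex.exact_of_g_is_cokernel _ hjq
      epi_g := Cofork.IsColimit.epi hjq }
  exact ⟨hw, hS⟩

/-- An extension of `η : K ⟶ i_* O` to `M` exists if one exists on stalks and `Ext¹(i^* Q, O) = 0`. -/
theorem exists_extension_of_stalk [HasExt.{u} Z.Modules] {K M Q : X.Modules} (a : K ⟶ M) (q : M ⟶ Q)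
    (w : a ≫ q = 0) (hq : IsColimit (CokernelCofork.ofπ q w))
    (η : K ⟶ (Scheme.Modules.pushforward i).obj (Coh.structureModule Z))
    (hloc : ∀ z : Z, ∃ g : M.presheaf.stalk (i z) →ₗ[X.presheaf.stalk (i z)]
      ((Scheme.Modules.pushforward i).obj (Coh.structureModule Z)).presheaf.stalk (i z),
      ∀ t, g (stalkLin a (i z) t) = stalkLin η (i z) t)
    (hext : Subsingleton (Abelian.Ext.{u} ((Scheme.Modules.pullback i).obj Q) (Coh.structureModule Z) 1)) :
    ∃ δ, a ≫ δ = η := by
  let adj := Scheme.Modules.pullbackPushforwardAdjunction i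
  let P := Scheme.Modules.pullback i
  let η' : P.obj K ⟶ Coh.structureModule Z := (adj.homEquiv _ _).symm η
  have hker : kernel.ι (P.map a) ≫ η' = 0 := kernel_comp_eq_zero_of_stalk i a η hloc
  -- through the image
  let e := Abelian.factorThruImage (P.map a)
  let j := Abelian.image.ι (P.map a)
  have hej : e ≫ j = P.map a := Abelian.image.fac _
  have hk : kernel.ι e ≫ η' = 0 := by
    have h1 : kernel.ι e ≫ P.map a = 0 :=
      (congrArg (kernel.ι e ≫ ·) hej.symm).trans ((kernel.condition_assoc e j).trans zero_comp)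
    rw [← kernel.lift_ι (P.map a) (kernel.ι e) h1, Category.assoc, hker, comp_zero]
  let η'' := (Abelian.epiDesc e η' hk)
  have hη'' : e ≫ η'' = η' := Abelian.comp_epiDesc e η' hk
  obtain ⟨hw, hS⟩ := imageSeq_shortExact i a q w hq
  obtain ⟨x₂, hx₂⟩ := Abelian.Ext.contravariant_sequence_exact₁ hS _ (Abelian.Ext.mk₀ η'') (n₁ := 1) rfl
    (hext.elim _ _)
  obtain ⟨δ', rfl⟩ := (Abelian.Ext.mk₀_bijective _ _).2 x₂
  rw [Abelian.Ext.mk₀_comp_mk₀] at hx₂
  have hδ' : j ≫ δ' = η'' := (Abelian.Ext.mk₀_bijective _ _).1 hx₂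
  refine ⟨adj.homEquiv _ _ δ', ?_⟩
  rw [← Adjunction.homEquiv_naturality_left, ← hej, Category.assoc, hδ', hη'']
  exact Equiv.apply_symm_apply _ _

end Descend

variable {k : Type u} [Field k] {X : Scheme.{u}} {x : X ⟶ specPt k} {I₀ : X.IdealSheafData}

/-- Deformations lift for a closed immersion locally cut out by `H₁`-regular sequences with
`Ext¹(I/I², O) = 0`. -/
theorem surjective_map_of_regular_emb {Z : Scheme.{u}} (i : Z ⟶ X) [IsClosedImmersion i] (hI : i.ker = I₀)
    (hloc : ∀ z : Z, ∃ (U : X.affineOpens) (n : ℕ) (f : Fin n → Γ(X, U.1)),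
      i z ∈ U.1 ∧ CAlgX.IsH1Regular f ∧ Ideal.span (Set.range f) = i.ker.ideal U)
    [HasExt.{u} Z.Modules]
    (hext : Subsingleton (Abelian.Ext.{u}
      ((Scheme.Modules.pullback i).obj (ClSub.idealMod i.ker)) (Coh.structureModule Z) 1))
    {B A : Art k k} (p : B ⟶ A) (hp : IsSmallExt p) :
    Function.Surjective ((localHilb X x I₀).map p) := by
  obtain ⟨ε, S⟩ := exists_step_of_isSmallExt hp
  subst hI
  let e := quotModIso i
  intro IA
  obtain ⟨q, η, hqe, hlift, hlin⟩ := exists_obstruction S IA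
  haveI := hqe
  haveI : (ClSub.idealMod IA.1).IsQuasicoherent := AmpleLib.isQCoh_idealMod _
  haveI : (ClSub.idealMod i.ker).IsQuasicoherent := AmpleLib.isQCoh_idealMod _
  haveI : (idMod x IA.1).IsQuasicoherent :=
    QCoh.isQuasicoherent_pushforward (pullback.fst x (specOver A)) (ClSub.idealMod IA.1)
  haveI : (kernel q).IsQuasicoherent := QCoh.isQuasicoherent_kernel q
  have hst : ∀ z : Z, ∃ g : (idMod x IA.1).presheaf.stalk (i z) →ₗ[X.presheaf.stalk
      (i z)] (ClSub.quotMod i.ker).presheaf.stalk (i z),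
      ∀ t, g (stalkLin (kernel.ι q) (i z) t) = stalkLin η (i z) t := by
    intro z
    obtain ⟨U, n, f, hzU, hf, hI⟩ := hloc z
    obtain ⟨r, hra, hrm, hre⟩ := exists_local_retraction x U hf hI S IA
    obtain ⟨L, hL⟩ := hlin U r hra hrm hre
    obtain ⟨g, hg⟩ := HomShQC.sec_surjective (idMod x IA.1) (ClSub.quotMod i.ker) U.2 L
    let y : U.1 := ⟨i z, hzU⟩
    refine ⟨g.1 y, fun t => LinearMap.congr_fun (f := (g.1 y).comp (stalkLin (kernel.ι q) y.1))
      (g := stalkLin η y.1) (HomShQC.stalkHom_ext _ _ U.2 y.2 fun m => ?_) t⟩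
    change g.1 y (stalkLin (kernel.ι q) y.1 (germM (kernel q) U.1 y.1 y.2 m)) = _
    rw [stalkLin_germ, ← HomShQC.germM_sec, hg, hL]
    exact (stalkLin_germ η U.1 y.1 y.2 m).symm
  obtain ⟨δ, hδ⟩ := exists_extension_of_stalk i (kernel.ι q) q (kernel.condition q)
    (Abelian.epiIsCokernelOfKernel (KernelFork.ofι (kernel.ι q) (kernel.condition q)) (kernelIsKernel q))
    (η ≫ e.hom) (fun z => by
      obtain ⟨g, hg⟩ := hst z
      exact ⟨(stalkLin e.hom (i z)).comp g, fun t => by
        rw [LinearMap.comp_apply, hg, stalkLin_comp]⟩)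
    hext
  exact hlift (δ ≫ e.inv) (by rw [← Category.assoc, hδ, Category.assoc, e.hom_inv_id, Category.comp_id])

/-- Deformations lift for a subscheme locally cut out by `H₁`-regular sequences with `Ext¹(I/I², O) = 0`. -/
theorem surjective_map_of_regular
    (hloc : ∀ z : I₀.subscheme, ∃ (U : X.affineOpens) (n : ℕ) (f : Fin n → Γ(X, U.1)),
      I₀.subschemeι z ∈ U.1 ∧ CAlgX.IsH1Regular f ∧ Ideal.span (Set.range f) = I₀.ideal U)
    [HasExt.{u} I₀.subscheme.Modules]
    (hext : Subsingleton (Abelian.Ext.{u}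
      ((Scheme.Modules.pullback I₀.subschemeι).obj (ClSub.idealMod I₀)) (Coh.structureModule I₀.subscheme) 1))
    {B A : Art k k} (p : B ⟶ A) (hp : IsSmallExt p) :
    Function.Surjective ((localHilb X x I₀).map p) :=
  surjective_map_of_regular_emb I₀.subschemeι I₀.ker_subschemeι
    (fun z => by
      obtain ⟨U, n, f, h1, h2, h3⟩ := hloc z
      exact ⟨U, n, f, h1, h2, by rw [I₀.ker_subschemeι, h3]⟩)
    (by rw [I₀.ker_subschemeι]; exact hext) p hp

end Groth.Agent.HilbLoc
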