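import Groth.Agent.HilbLoc.BurchExtend
import Groth.Agent.HilbLoc.BurchFlat
import Groth.Agent.HilbLoc.Regular
import Groth.Agent.FormalFun.HomLift
import Groth.Agent.SHomIso.Basic
import Groth.Agent.ZClosLib.CohDescent
import Groth.Agent.HomShQC.Stalk
import Groth.Agent.IdealSh.Extend
import Groth.Agent.KFlat.Hom

/-!
# Deforming subschemes cut out by maximal minors
-/

set_option autoImplicit false

universe u

open CategoryTheory CategoryTheory.Limits AlgebraicGeometry IsLocalRing TopologicalSpace OmegaSh Matrix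
open Groth.Agent.PullStalk.Sky Groth.Agent.PullStalk.Exact Groth.Agent.CAlgMisc.HB

noncomputable section

namespace Groth.Agent.HilbLoc.Burch

open ArtFun ArtFun.Art DefSchLib

/-- An ideal given by maximal minors with exact resolution. -/
def IsMinors {S : Type u} [CommRing S] (I : Ideal S) : Prop :=
  ∃ (r : ℕ) (φ : Matrix (Fin (r + 1)) (Fin r) S), Ideal.span (Set.range (smin φ)) = I ∧
    Function.Injective φ.mulVecLin ∧
    LinearMap.range φ.mulVecLin = LinearMap.ker (Fintype.linearCombination S (smin φ))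

theorem IsMinors.map_equiv {S S' : Type u} [CommRing S] [CommRing S'] (σ : S ≃+* S') {I : Ideal S}
    (h : IsMinors I) : IsMinors (I.map σ.toRingHom) := by
  obtain ⟨r, φ, h1, h2, h3⟩ := h
  refine ⟨r, φ.map σ.toRingHom, ?_, fun u v huv => ?_, le_antisymm ?_ ?_⟩
  · rw [← h1, Ideal.map_span, ← Set.range_comp]
    congr 2
    exact funext fun i => (map_smin σ.toRingHom φ i).symm
  · have h4 : ∀ u : Fin r → S', (φ.map σ.toRingHom).mulVecLin u =
        fun i => σ (φ.mulVecLin (fun j => σ.symm (u j)) i) := fun u => funext fun i => by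
      rw [Matrix.mulVecLin_apply, Matrix.mulVecLin_apply]
      refine Eq.symm ((RingHom.map_mulVec σ.toRingHom φ _ i).trans ?_)
      congr 2
      funext j; exact σ.apply_symm_apply (u j)
    rw [h4, h4] at huv
    have h5 := h2 (funext fun i => σ.injective (congrFun huv i))
    exact funext fun j => σ.symm.injective (congrFun h5 j)
  · rintro _ ⟨u, rfl⟩
    rw [LinearMap.mem_ker, Fintype.linearCombination_apply, Matrix.mulVecLin_apply]
    exact sum_mulVec_mul_smin _ u
  · intro v hv
    rw [LinearMap.mem_ker, Fintype.linearCombination_apply] at hv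
    have hv' : (fun i => σ.symm (v i)) ∈ LinearMap.range φ.mulVecLin := by
      rw [h3, LinearMap.mem_ker, Fintype.linearCombination_apply]
      refine σ.injective ?_
      rw [map_sum, map_zero, ← hv]
      refine Finset.sum_congr rfl fun i _ => ?_
      rw [smul_eq_mul, smul_eq_mul, map_mul, σ.apply_symm_apply, ← map_smin σ.toRingHom φ i]
      rfl
    obtain ⟨u, hu⟩ := hv'
    refine ⟨σ ∘ u, funext fun i => ?_⟩
    rw [Matrix.mulVecLin_apply]
    refine (RingHom.map_mulVec σ.toRingHom φ u i).symm.trans ?_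
    exact (congrArg σ (congrFun hu i)).trans (σ.apply_symm_apply _)

/-- Lifting the minors presentation to a flat deformation. -/
theorem exists_minors_hom {C R S : Type u} [CommRing C] [IsLocalRing C] [IsArtinianRing C] [CommRing R]
    [IsNoetherianRing R] [CommRing S] (φ : C →+* R) (hφ : φ.Flat) (I : Ideal R)
    (hI : ((Ideal.Quotient.mk I).comp φ).Flat) (ρ : R →+* S) (hρ : Function.Surjective ρ)
    (hker : RingHom.ker ρ = (maximalIdeal C).map φ) (h : IsMinors (I.map ρ)) : IsMinors I := by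
  algebraize [φ]
  haveI : Module.Flat C (R ⧸ I) := hI
  let σ : R ⧸ (maximalIdeal C).map (algebraMap C R) ≃+* S :=
    (Ideal.quotEquivOfEq hker.symm).trans (RingHom.quotientKerEquivOfSurjective hρ)
  obtain ⟨r, ψ, h1, h2, h3⟩ := h.map_equiv σ.symm
  have hcomp : σ.symm.toRingHom.comp ρ = Ideal.Quotient.mk _ := RingHom.ext fun z =>
    σ.injective ((σ.apply_symm_apply (ρ z)).trans rfl)
  rw [Ideal.map_map, hcomp] at h1
  obtain ⟨χ, -, k1, k2, k3⟩ := exists_minors_lift (IsLocalRing.maximalIdeal.isMaximal C).ne_top I ψ h1 h2 h3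
  exact ⟨r, χ, k1, k2, k3⟩

variable {k : Type u} [Field k] {X : Scheme.{u}} {x : X ⟶ specPt k} {I₀ : X.IdealSheafData}

/-- Retractions exist where the subscheme is cut out by maximal minors. -/
theorem exists_retraction [LocallyOfFiniteType x] (U : X.affineOpens) (h : IsMinors (I₀.ideal U))
    {B A : Art k k} {p : B ⟶ A} {ε : B} (S : Step p ε) (IA : (localHilb X x I₀).obj A) :
    ∃ r : R x B U → Γ(X, U.1) ⧸ I₀.ideal U,
      (∀ z z', z ∈ J p IA U → z' ∈ J p IA U → r (z + z') = r z + r z') ∧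
      (∀ w z, z ∈ J p IA U → r (w * z) = Ideal.Quotient.mk _ (res₀ x B U w) * r z) ∧
      ∀ a, r (e x ε U a) = Ideal.Quotient.mk _ a := by
  classical
  haveI : LocallyOfFiniteType (XApr x A) := by
    unfold XApr; infer_instance
  haveI : IsLocallyNoetherian (XA x A) := LocallyOfFiniteType.isLocallyNoetherian (XApr x A)
  haveI : IsNoetherianRing (R x A U) := IsLocallyNoetherian.component_noetherian (pre x A U)
  obtain ⟨n, χ, h1, -, h3⟩ := exists_minors_hom (φ x A U) (flat_φ x A U) (idl x IA.1 U)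
    (flat_elt IA U) (res₀ x A U) (res₀_surjective x A U) (ker_res₀ x A U)
    (by rw [map_res₀_elt]; exact h)
  have hrm := (rm_surjective_ker x p S.surj U).1
  choose φB hφB using fun i j => hrm (χ i j)
  let g := smin φB
  have hg : ∀ i, rm x p U (g i) = smin χ i := fun i => by
    rw [map_smin]
    congr 1
    exact Matrix.ext fun i j => hφB i j
  have hgen : (Ideal.span (Set.range g)).map (rm x p U) = idl x IA.1 U := by
    rw [Ideal.map_span, ← Set.range_comp, ← h1]
    exact congrArg _ (congrArg _ (funext hg))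
  have hg0 : ∀ i, res₀ x B U (g i) ∈ I₀.ideal U := fun i => by
    rw [← res₀_rm x p, hg, ← map_res₀_elt IA U]
    exact Ideal.mem_map_of_mem _ (h1 ▸ Ideal.subset_span ⟨i, rfl⟩)
  have hkey : ∀ a, e x ε U a ∈ Ideal.span (Set.range g) → a ∈ I₀.ideal U := by
    intro a ha
    obtain ⟨w, hw⟩ := Ideal.mem_span_range_iff_exists_fun.1 ha
    have hw' : (fun i => rm x p U (w i)) ∈ LinearMap.range χ.mulVecLin := by
      rw [h3, LinearMap.mem_ker, Fintype.linearCombination_apply]
      simp only [smul_eq_mul, ← hg, ← map_mul, ← map_sum, hw, S.rm_e x]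
    obtain ⟨u, hu⟩ := hw'
    choose u' hu' using fun j => hrm (u j)
    have hd : ∀ i, ∃ c, e x ε U c = w i - (Matrix.of φB *ᵥ u') i := fun i => by
      obtain ⟨c, hc⟩ := S.exists_e x (z := w i - (Matrix.of φB *ᵥ u') i) (by
        rw [map_sub, RingHom.map_mulVec, sub_eq_zero, ← congrFun hu i, Matrix.mulVecLin_apply]
        congr 2
        · exact (Matrix.ext fun i j => hφB i j).symm
        · exact funext fun j => (hu' j).symm)
      exact ⟨c, hc⟩
    choose c hc using hd
    have : a = ∑ i, c i * res₀ x B U (g i) := by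
      refine S.e_injective x U ?_
      rw [map_sum, ← hw]
      have h0 : ∑ i, (Matrix.of φB *ᵥ u') i * g i = 0 := sum_mulVec_mul_smin _ u'
      calc ∑ i, w i * g i = ∑ i, (w i - (Matrix.of φB *ᵥ u') i) * g i := by
            simp only [sub_mul, Finset.sum_sub_distrib, h0, sub_zero]
        _ = _ := Finset.sum_congr rfl fun i _ => by
            rw [← hc, mul_comm, S.mul_e x, mul_comm]
    rw [this]
    exact sum_mem fun i _ => Ideal.mul_mem_left _ _ (hg0 i)
  have hdec : ∀ z ∈ J p IA U, ∃ a : Γ(X, U.1), z - e x ε U a ∈ Ideal.span (Set.range g) := by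
    intro z hz
    have h1 : rm x p U z ∈ (Ideal.span (Set.range g)).map (rm x p U) := by
      rw [hgen]; exact hz
    obtain ⟨z', hz', he⟩ := (Ideal.mem_map_iff_of_surjective _ hrm).1 h1
    obtain ⟨a, ha⟩ := S.exists_e x (z := z - z') (by rw [map_sub, he, sub_self])
    exact ⟨a, by rwa [ha, sub_sub_cancel]⟩
  choose a ha using hdec
  have huniq : ∀ z (hz : z ∈ J p IA U) b, z - e x ε U b ∈ Ideal.span (Set.range g) →
      Ideal.Quotient.mk (I₀.ideal U) (a z hz) = Ideal.Quotient.mk _ b := by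
    intro z hz b hb
    rw [Ideal.Quotient.eq]
    refine hkey _ ?_
    rw [map_sub, show e x ε U (a z hz) - e x ε U b =
      (z - e x ε U b) - (z - e x ε U (a z hz)) by ring]
    exact sub_mem hb (ha z hz)
  refine ⟨fun z => if hz : z ∈ J p IA U then Ideal.Quotient.mk _ (a z hz) else 0, ?_, ?_, ?_⟩
  · intro z z' hz hz'
    simp only [dif_pos hz, dif_pos hz', dif_pos (add_mem hz hz'), ← map_add]
    refine huniq _ _ _ ?_
    rw [map_add, add_sub_add_comm]
    exact add_mem (ha z hz) (ha z' hz')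
  · intro w z hz
    simp only [dif_pos hz, dif_pos (Ideal.mul_mem_left _ w hz), ← map_mul]
    refine huniq _ _ _ ?_
    rw [← S.mul_e x, ← mul_sub]
    exact Ideal.mul_mem_left _ _ (ha z hz)
  · intro b
    have hb : e x ε U b ∈ J p IA U := by rw [Ideal.mem_comap, S.rm_e x]; exact zero_mem _
    simp only [dif_pos hb]
    exact huniq _ _ _ (by rw [sub_self]; exact zero_mem _)

/-- `H¹` of the normal sheaf, on the ambient scheme. -/
theorem subsingleton_H1_homSh {Z : Scheme.{u}} (i : Z ⟶ X) [IsClosedImmersion i] [IsLocallyNoetherian X]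
    [DCoh.HasSheafHom (Omega.conormal i)]
    (h1 : Subsingleton (Coh.HH Z ((DCoh.sheafHom (Omega.conormal i)).obj (Coh.structureModule Z)) 1)) :
    Subsingleton (Coh.HH X (RefHull.homSh (ClSub.idealMod i.ker) (ClSub.quotMod i.ker)) 1) := by
  haveI : IsLocallyNoetherian Z := LocallyOfFiniteType.isLocallyNoetherian i
  have hQ : Coh.IsCoh (ClSub.idealMod i.ker) :=
    ⟨AmpleLib.isQCoh_idealMod _, AmpleLib.isFT_idealMod fun U =>
      haveI := IsLocallyNoetherian.component_noetherian (X := X) U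
      IsNoetherian.noetherian _⟩
  have hN : Coh.IsCoh (Omega.conormal i) := ZClosLib.CohDescent.isCoh_pullback i _ hQ
  haveI : DCoh.HasSheafHom (ClSub.idealMod i.ker) := KFlat.hasSheafHom_scheme _
  haveI : DCoh.HasSheafHom ((Scheme.Modules.pullback i).obj (ClSub.idealMod i.ker)) :=
    inferInstanceAs (DCoh.HasSheafHom (Omega.conormal i))
  obtain ⟨d⟩ := SHomIso.Basic.nonempty_iso (Omega.conormal i) (Coh.structureModule Z)
  haveI : Coh.IsQCoh ((DCoh.sheafHom (Omega.conormal i)).obj (Coh.structureModule Z)) :=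
    (CohDev.isCoh_of_iso d.symm (HomShQC.isCoh_homSh _ _ hN HomShQC.isCoh_structureModule)).1
  have h2 := FormalFun.subsingleton_HH_push i _ 1 h1
  obtain ⟨θ⟩ := FormalFun.nonempty_homPushIso i (ClSub.idealMod i.ker)
  obtain ⟨d'⟩ := SHomIso.Basic.nonempty_iso (ClSub.idealMod i.ker) (ClSub.quotMod i.ker)
  let e₁ : (DCoh.sheafHom (ClSub.idealMod i.ker)).obj (ClSub.quotMod i.ker) ≅
      (Scheme.Modules.pushforward i).obj ((DCoh.sheafHom (Omega.conormal i)).obj (Coh.structureModule Z)) :=
    (DCoh.sheafHom (ClSub.idealMod i.ker)).mapIso (quotModIso i) ≪≫ θ.app (Coh.structureModule Z)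
  refine subsingleton_of_forall_eq 0 fun z => ?_
  rw [← CohLin.hMap_id _ 1 z, ← (e₁.symm ≪≫ d').inv_hom_id, CohLin.hMap_comp]
  rw [h2.elim (CohLin.hMap (e₁.symm ≪≫ d').inv 1 z) 0, map_zero]

/-- Deformations lift for subschemes cut out by maximal minors with `H¹(N) = 0`. -/
theorem surjective_map_emb [LocallyOfFiniteType x] {Z : Scheme.{u}} (i : Z ⟶ X) [IsClosedImmersion i]
    (hI : i.ker = I₀) (hloc : ∀ z : Z, ∃ U : X.affineOpens, i z ∈ U.1 ∧ IsMinors (i.ker.ideal U))
    [DCoh.HasSheafHom (Omega.conormal i)]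
    (h1 : Subsingleton (Coh.HH Z ((DCoh.sheafHom (Omega.conormal i)).obj (Coh.structureModule Z)) 1))
    {B A : Art k k} (p : B ⟶ A) (hp : IsSmallExt p) :
    Function.Surjective ((localHilb X x I₀).map p) := by
  obtain ⟨ε, S⟩ := exists_step_of_isSmallExt hp
  subst hI
  haveI : IsLocallyNoetherian X := LocallyOfFiniteType.isLocallyNoetherian x
  intro IA
  obtain ⟨q, η, hqe, hlift, hlin⟩ := exists_obstruction S IA
  haveI := hqe
  haveI : (ClSub.idealMod IA.1).IsQuasicoherent := AmpleLib.isQCoh_idealMod _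
  haveI : (ClSub.idealMod i.ker).IsQuasicoherent := AmpleLib.isQCoh_idealMod _
  haveI : (idMod x IA.1).IsQuasicoherent :=
    QCoh.isQuasicoherent_pushforward (pullback.fst x (specOver A)) (ClSub.idealMod IA.1)
  haveI : (kernel q).IsQuasicoherent := QCoh.isQuasicoherent_kernel q
  have hretr : ∀ y : X, ∃ U : X.affineOpens, y ∈ U.1 ∧ ∃ r : R x B U → Γ(X, U.1) ⧸ i.ker.ideal U,
      (∀ z z', z ∈ J p IA U → z' ∈ J p IA U → r (z + z') = r z + r z') ∧
      (∀ w z, z ∈ J p IA U → r (w * z) = Ideal.Quotient.mk _ (res₀ x B U w) * r z) ∧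
      ∀ a, r (e x ε U a) = Ideal.Quotient.mk _ a := by
    intro y
    by_cases hy : y ∈ Set.range i
    · obtain ⟨z, rfl⟩ := hy
      obtain ⟨U, hzU, hU⟩ := hloc z
      exact ⟨U, hzU, exists_retraction U hU S IA⟩
    · obtain ⟨_, ⟨W, hW, rfl⟩, hyW, hWc⟩ := X.isBasis_affineOpens.exists_subset_of_mem_open
        (show y ∈ (Set.range i)ᶜ from hy) i.isClosedEmbedding.isClosed_range.isOpen_compl
      have htop : i.ker.ideal ⟨W, hW⟩ = ⊤ := IdealSh.Extend.ideal_eq_top_of_disjoint (U := W) (by
        rw [Scheme.Hom.support_ker, i.isClosedEmbedding.isClosed_range.closure_eq]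
        exact Set.disjoint_left.2 fun z hz hz' => hWc hz' hz) ⟨W, hW⟩ le_rfl
      haveI : Subsingleton (Γ(X, W) ⧸ i.ker.ideal ⟨W, hW⟩) := Ideal.Quotient.subsingleton_iff.2 htop
      exact ⟨⟨W, hW⟩, hyW, fun _ => 0, fun _ _ _ _ => Subsingleton.elim _ _,
        fun _ _ _ => Subsingleton.elim _ _, fun _ => Subsingleton.elim _ _⟩
  have hS : (ShortComplex.mk (kernel.ι q) q (kernel.condition q)).ShortExact :=
    { exact := ShortComplex.exact_of_f_is_kernel _ (kernelIsKernel q) }
  obtain ⟨δ, hδ⟩ := exists_extension_of_local hS η (subsingleton_H1_homSh i h1) fun y => by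
    obtain ⟨U, hyU, r, hra, hrm, hre⟩ := hretr y
    obtain ⟨L, hL⟩ := hlin U r hra hrm hre
    obtain ⟨g, hg⟩ := HomShQC.sec_surjective (idMod x IA.1) (ClSub.quotMod i.ker) U.2 L
    refine ⟨U.1, hyU, g, fun z t => ?_⟩
    refine LinearMap.congr_fun (f := (g.1 z).comp (stalkLin (kernel.ι q) z.1))
      (g := stalkLin η z.1) (HomShQC.stalkHom_ext _ _ U.2 z.2 fun m => ?_) t
    change g.1 z (stalkLin (kernel.ι q) z.1 (germM (kernel q) U.1 z.1 z.2 m)) = _
    rw [stalkLin_germ, ← HomShQC.germM_sec, hg, hL]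
    exact (stalkLin_germ η U.1 z.1 z.2 m).symm
  exact hlift δ hδ

end Groth.Agent.HilbLoc.Burch
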