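import Groth.Agent.DefSchLib.Schlessinger
import Groth.Agent.IdealSh.Comap
import Groth.Prelude.Def_ArtFun6

/-!
# Affine charts of `X ×_k Spec A` and ideal sheaves on it
-/

set_option autoImplicit false

universe u

open CategoryTheory AlgebraicGeometry IsLocalRing Limits TopologicalSpace

noncomputable section

namespace Groth.Agent.HilbLoc

open ArtFun ArtFun.Art DefSchLib

variable {k : Type u} [Field k] {X : Scheme.{u}} (x : X ⟶ specPt k)

instance (A : Art k k) : Flat (XApr x A) :=
  haveI := flat_of_isField x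
  inferInstance

instance (A : Art k k) : IsAffineHom (pullback.fst x (specOver A)) := by
  haveI : IsAffineHom (specOver A) := by
    change IsAffineHom (Spec.map _)
    infer_instance
  exact MorphismProperty.pullback_fst _ _ inferInstance

instance (A : Art k k) : IsClosedImmersion (XAincl x A) := by
  haveI : IsClosedImmersion (specRes A) := IsClosedImmersion.spec_of_surjective _ A.res_surjective
  exact MorphismProperty.of_isPullback (isPullback_XAincl x A).flip inferInstance

instance (A : Art k k) : AlgebraicGeometry.Surjective (XAincl x A) :=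
  surjective_fibre (e := resHom A) A.res_surjective (ker_resHom A) (isPullback_XAincl x A)

/-- The affine open of `X ×_k Spec A` over `U`. -/
abbrev pre (A : Art k k) (U : X.affineOpens) : (XA x A).affineOpens :=
  ⟨pullback.fst x (specOver A) ⁻¹ᵁ U.1, U.2.preimage _⟩

lemma incl_preimage_pre (A : Art k k) (U : X.Opens) :
    XAincl x A ⁻¹ᵁ (pullback.fst x (specOver A) ⁻¹ᵁ U) = U := by
  rw [← Scheme.Hom.comp_preimage, XAincl_fst]
  rfl

lemma map_preimage_pre {A B : Art k k} (g : A ⟶ B) (U : X.Opens) :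
    XAmap x g ⁻¹ᵁ (pullback.fst x (specOver A) ⁻¹ᵁ U) = pullback.fst x (specOver B) ⁻¹ᵁ U := by
  rw [← Scheme.Hom.comp_preimage, XAmap_fst]

lemma opens_eq_pre {A : Art k k} (W : (XA x A).Opens) :
    W = pullback.fst x (specOver A) ⁻¹ᵁ (XAincl x A ⁻¹ᵁ W) := by
  ext z
  obtain ⟨y, rfl⟩ := (XAincl x A).surjective z
  have h : pullback.fst x (specOver A) (XAincl x A y) = y := by
    rw [← Scheme.Hom.comp_apply, XAincl_fst]
    rfl
  change _ ↔ XAincl x A (pullback.fst x (specOver A) (XAincl x A y)) ∈ W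
  rw [h]
  rfl

/-- The affine open of `X` under an affine open of `X ×_k Spec A`. -/
abbrev base' {A : Art k k} (V : (XA x A).affineOpens) : X.affineOpens :=
  ⟨XAincl x A ⁻¹ᵁ V.1, V.2.preimage _⟩

lemma pre_base' {A : Art k k} (V : (XA x A).affineOpens) : pre x A (base' x V) = V :=
  Subtype.ext (opens_eq_pre x V.1).symm

/-- Functions on the chart over `U`. -/
abbrev R (A : Art k k) (U : X.affineOpens) : Type u := Γ(XA x A, (pre x A U).1)

/-- The structure map of a chart. -/
abbrev φ (A : Art k k) (U : X.affineOpens) : (A : Type u) →+* R x A U := str (XApr x A) (pre x A U).1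

/-- Functions pulled back from `X`. -/
def sA (A : Art k k) (U : X.affineOpens) : Γ(X, U.1) →+* R x A U :=
  ((pullback.fst x (specOver A)).app U.1).hom

/-- Restriction to the closed fibre. -/
def res₀ (A : Art k k) (U : X.affineOpens) : R x A U →+* Γ(X, U.1) :=
  ((XAincl x A).appLE (pre x A U).1 U.1 (incl_preimage_pre x A U.1).ge).hom

/-- The transition map along `g`. -/
def rm {A B : Art k k} (g : A ⟶ B) (U : X.affineOpens) : R x A U →+* R x B U :=
  ((XAmap x g).appLE (pre x A U).1 (pre x B U).1 (map_preimage_pre x g U.1).ge).hom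

/-- Restriction between charts. -/
def rres (A : Art k k) {U U' : X.affineOpens} (h : U'.1 ≤ U.1) : R x A U →+* R x A U' :=
  ((XA x A).presheaf.map (homOfLE ((pullback.fst x (specOver A)).preimage_mono h)).op).hom

/-- Restriction on `X`. -/
abbrev res {U U' : X.affineOpens} (h : U'.1 ≤ U.1) : Γ(X, U.1) →+* Γ(X, U'.1) :=
  (X.presheaf.map (homOfLE h).op).hom

lemma res₀_sA (A : Art k k) (U : X.affineOpens) (a : Γ(X, U.1)) : res₀ x A U (sA x A U a) = a := by
  change ((pullback.fst x (specOver A)).app U.1 ≫ (XAincl x A).appLE _ _ _).hom a = a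
  rw [Scheme.Hom.app_eq_appLE, Scheme.Hom.appLE_comp_appLE]
  simp only [XAincl_fst]
  simp [Scheme.Hom.appLE]
  exact congr($((X.presheaf.map_id _)) a)

lemma res₀_rm {A B : Art k k} (g : A ⟶ B) (U : X.affineOpens) (z : R x A U) :
    res₀ x B U (rm x g U z) = res₀ x A U z := by
  change ((XAmap x g).appLE _ _ _ ≫ (XAincl x B).appLE _ _ _).hom z = _
  rw [Scheme.Hom.appLE_comp_appLE]
  simp only [XAincl_XAmap]
  rfl

lemma rm_sA {A B : Art k k} (g : A ⟶ B) (U : X.affineOpens) (a : Γ(X, U.1)) :
    rm x g U (sA x A U a) = sA x B U a := by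
  change ((pullback.fst x (specOver A)).app U.1 ≫ (XAmap x g).appLE _ _ _).hom a = _
  rw [Scheme.Hom.app_eq_appLE, Scheme.Hom.appLE_comp_appLE]
  simp only [XAmap_fst]
  rw [← Scheme.Hom.app_eq_appLE]
  rfl

lemma rm_rm {A B C : Art k k} (g : A ⟶ B) (h : B ⟶ C) (U : X.affineOpens) (z : R x A U) :
    rm x h U (rm x g U z) = rm x (g ≫ h) U z := by
  change ((XAmap x g).appLE _ _ _ ≫ (XAmap x h).appLE _ _ _).hom z = _
  rw [Scheme.Hom.appLE_comp_appLE]
  simp only [← XAmap_comp]
  rfl

lemma rm_φ {A B : Art k k} (g : A ⟶ B) (U : X.affineOpens) (a : A) :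
    rm x g U (φ x A U a) = φ x B U (g a) := by
  change (((Scheme.ΓSpecIso (CommRingCat.of A)).inv ≫ (XApr x A).appLE ⊤ (pre x A U).1 le_top) ≫
      (XAmap x g).appLE _ _ _).hom a =
    ((CommRingCat.ofHom g.toAlgHom.toRingHom ≫ (Scheme.ΓSpecIso (CommRingCat.of B)).inv) ≫
      (XApr x B).appLE ⊤ (pre x B U).1 le_top).hom a
  congr 2
  rw [Category.assoc, Scheme.Hom.appLE_comp_appLE, Scheme.ΓSpecIso_inv_naturality, Category.assoc]
  congr 1
  simp only [XAmap_snd]
  rw [show ((specMap g).appTop) = (specMap g).appLE ⊤ ⊤ le_rfl from Scheme.Hom.app_eq_appLE _,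
    Scheme.Hom.appLE_comp_appLE]

lemma res₀_φ (A : Art k k) (U : X.affineOpens) (a : A) :
    res₀ x A U (φ x A U a) = str x U.1 (A.res a) := by
  change (((Scheme.ΓSpecIso (CommRingCat.of A)).inv ≫ (XApr x A).appLE ⊤ (pre x A U).1 le_top) ≫
      (XAincl x A).appLE _ _ _).hom a =
    ((CommRingCat.ofHom A.res.toRingHom ≫ (Scheme.ΓSpecIso (CommRingCat.of k)).inv) ≫
      x.appLE ⊤ U.1 le_top).hom a
  congr 2
  rw [Category.assoc, Scheme.Hom.appLE_comp_appLE, Scheme.ΓSpecIso_inv_naturality, Category.assoc]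
  congr 1
  simp only [XAincl_snd]
  rw [show (Spec.map (CommRingCat.ofHom A.res.toRingHom)).appTop =
      (Spec.map (CommRingCat.ofHom A.res.toRingHom)).appLE ⊤ ⊤ le_rfl from Scheme.Hom.app_eq_appLE _,
    Scheme.Hom.appLE_comp_appLE]

lemma rres_φ (A : Art k k) {U U' : X.affineOpens} (h : U'.1 ≤ U.1) (a : A) :
    rres x A h (φ x A U a) = φ x A U' a :=
  map_str (XApr x A) ((pullback.fst x (specOver A)).preimage_mono h) a

lemma rres_sA (A : Art k k) {U U' : X.affineOpens} (h : U'.1 ≤ U.1) (a : Γ(X, U.1)) :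
    rres x A h (sA x A U a) = sA x A U' (res h a) :=
  (app_res (pullback.fst x (specOver A)) h a).symm

lemma res₀_rres (A : Art k k) {U U' : X.affineOpens} (h : U'.1 ≤ U.1) (z : R x A U) :
    res₀ x A U' (rres x A h z) = res h (res₀ x A U z) := by
  change ((XA x A).presheaf.map _ ≫ (XAincl x A).appLE _ _ _).hom z =
    ((XAincl x A).appLE _ _ _ ≫ X.presheaf.map _).hom z
  rw [Scheme.Hom.map_appLE, Scheme.Hom.appLE_map]

lemma rm_rres {A B : Art k k} (g : A ⟶ B) {U U' : X.affineOpens} (h : U'.1 ≤ U.1) (z : R x A U) :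
    rm x g U' (rres x A h z) = rres x B h (rm x g U z) := by
  change ((XA x A).presheaf.map _ ≫ (XAmap x g).appLE _ _ _).hom z =
    ((XAmap x g).appLE _ _ _ ≫ (XA x B).presheaf.map _).hom z
  rw [Scheme.Hom.map_appLE, Scheme.Hom.appLE_map]

lemma flat_φ (A : Art k k) (U : X.affineOpens) : (φ x A U).Flat := flat_str (pre x A U).2

lemma res₀_surjective (A : Art k k) (U : X.affineOpens) : Function.Surjective (res₀ x A U) :=
  fun a => ⟨_, res₀_sA x A U a⟩

lemma ker_res₀ (A : Art k k) (U : X.affineOpens) :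
    RingHom.ker (res₀ x A U) = (maximalIdeal A).map (φ x A U) := by
  rw [← ker_resHom A]
  exact (ker_appLE (e := resHom A) A.res_surjective (isPullback_XAincl x A) (pre x A U).2
    (incl_preimage_pre x A U.1).symm).2

lemma rm_surjective_ker {A B : Art k k} (g : A ⟶ B) (hg : Function.Surjective g) (U : X.affineOpens) :
    Function.Surjective (rm x g U) ∧
      RingHom.ker (rm x g U) = (RingHom.ker g.toAlgHom.toRingHom).map (φ x A U) :=
  ker_appLE (e := g.toAlgHom.toRingHom) hg (isPullback_XAmap x g) (pre x A U).2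
    (map_preimage_pre x g U.1).symm

/-- The basic open of `X` under the basic open of a chart. -/
abbrev bop {A : Art k k} (U : X.affineOpens) (F : R x A U) : X.affineOpens :=
  X.affineBasicOpen (res₀ x A U F)

lemma bop_le {A : Art k k} (U : X.affineOpens) (F : R x A U) : (bop x U F).1 ≤ U.1 :=
  X.basicOpen_le _

/-- Restriction to a basic open. -/
abbrev rb {A : Art k k} (U : X.affineOpens) (F : R x A U) : R x A U →+* R x A (bop x U F) :=
  rres x A (bop_le x U F)

/-- Compatibility of a family of ideals with localisation. -/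
def Compat (A : Art k k) (J : ∀ U, Ideal (R x A U)) : Prop :=
  (∀ (U U' : X.affineOpens) (h : U'.1 ≤ U.1), (J U).map (rres x A h) ≤ J U') ∧
    ∀ (U : X.affineOpens) (F z : R x A U), rb x U F z ∈ J (bop x U F) → ∃ n : ℕ, F ^ n * z ∈ J U

lemma pre_basicOpen {A : Art k k} (U : X.affineOpens) (F : R x A U) :
    (pre x A (bop x U F)).1 = (XA x A).basicOpen F := by
  rw [opens_eq_pre x ((XA x A).basicOpen F)]
  rw [Scheme.preimage_basicOpen]
  exact congrArg (fun W => pullback.fst x (specOver A) ⁻¹ᵁ W)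
    (X.basicOpen_res_eq _ (eqToHom (incl_preimage_pre x A U.1).symm).op)

/-- The restriction to a basic open of a chart is a localisation. -/
lemma isLoc {A : Art k k} (U : X.affineOpens) (F : R x A U) :
    letI := (rb x U F).toAlgebra
    IsLocalization.Away F (R x A (bop x U F)) :=
  (pre x A U).2.isLocalization_of_eq_basicOpen F
    (homOfLE ((pullback.fst x (specOver A)).preimage_mono (bop_le x U F))) (pre_basicOpen x U F)

lemma exists_rres_eq {A : Art k k} (U : X.affineOpens) (F : R x A U) (z : R x A (bop x U F)) :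
    ∃ (y : R x A U) (n : ℕ), z * rb x U F F ^ n = rb x U F y := by
  letI := (rb x U F).toAlgebra
  haveI := isLoc x U F
  obtain ⟨⟨y, ⟨_, n, rfl⟩⟩, hy⟩ := IsLocalization.surj (Submonoid.powers F) z
  refine ⟨y, n, ?_⟩
  rw [← map_pow]
  exact hy

lemma isUnit_rres {A : Art k k} (U : X.affineOpens) (F : R x A U) : IsUnit (rb x U F F) := by
  letI := (rb x U F).toAlgebra
  haveI := isLoc x U F
  exact IsLocalization.map_units (R x A (bop x U F)) (⟨F, 1, pow_one F⟩ : Submonoid.powers F)

lemma exists_pow_mul_eq {A : Art k k} (U : X.affineOpens) (F : R x A U) {z w : R x A U}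
    (h : rb x U F z = rb x U F w) : ∃ n : ℕ, F ^ n * z = F ^ n * w := by
  letI := (rb x U F).toAlgebra
  haveI := isLoc x U F
  obtain ⟨⟨_, n, rfl⟩, hc⟩ := IsLocalization.exists_of_eq (M := Submonoid.powers F) h
  exact ⟨n, hc⟩

/-- The ideals of an ideal sheaf on the charts. -/
abbrev idl {A : Art k k} (I : (XA x A).IdealSheafData) (U : X.affineOpens) : Ideal (R x A U) :=
  I.ideal (pre x A U)

lemma map_idl_bop {A : Art k k} (I : (XA x A).IdealSheafData) (U : X.affineOpens) (F : R x A U) :
    (idl x I U).map (rb x U F) = idl x I (bop x U F) :=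
  I.map_ideal (U := pre x A (bop x U F)) (V := pre x A U)
    ((pullback.fst x (specOver A)).preimage_mono (bop_le x U F))

lemma compat_idl {A : Art k k} (I : (XA x A).IdealSheafData) : Compat x A (idl x I) := by
  refine ⟨fun U U' h => (I.map_ideal (U := pre x A U') (V := pre x A U)
    ((pullback.fst x (specOver A)).preimage_mono h)).le, fun U F z hz => ?_⟩
  rw [← map_idl_bop] at hz
  letI := (rb x U F).toAlgebra
  haveI := isLoc x U F
  obtain ⟨⟨⟨y, hy⟩, ⟨_, n, rfl⟩⟩, h⟩ :=
    (IsLocalization.mem_map_algebraMap_iff (Submonoid.powers F) _).1 hz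
  obtain ⟨m, hm⟩ := exists_pow_mul_eq x U F (z := z * F ^ n) (w := y) ((map_mul _ _ _).trans h)
  refine ⟨m + n, ?_⟩
  rw [pow_add, mul_assoc, mul_comm (F ^ n) z, hm]
  exact Ideal.mul_mem_left _ _ hy

/-- An ideal sheaf from a compatible family of ideals on charts. -/
theorem exists_idealSheaf {A : Art k k} (J : ∀ U, Ideal (R x A U)) (hJ : Compat x A J) :
    ∃ I : (XA x A).IdealSheafData, ∀ U, idl x I U = J U := by
  have key : ∀ V : (XA x A).affineOpens, ∃ K : Ideal Γ(XA x A, V.1), ∀ (U : X.affineOpens),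
      V = pre x A U → HEq K (J U) := by
    intro V
    obtain ⟨U, rfl⟩ : ∃ U, V = pre x A U := ⟨base' x V, (pre_base' x V).symm⟩
    refine ⟨J U, fun U' e => ?_⟩
    have : U' = U := by
      have := congrArg (fun W : (XA x A).affineOpens => XAincl x A ⁻¹ᵁ W.1) e
      simp only [incl_preimage_pre] at this
      exact Subtype.ext this.symm
    subst this
    rfl
  choose K hK using key
  have hK' : ∀ U, K (pre x A U) = J U := fun U => eq_of_heq (hK _ U rfl)
  refine ⟨{ ideal := K, map_ideal_basicOpen := ?_ }, hK'⟩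
  intro V F
  obtain ⟨U, rfl⟩ : ∃ U, V = pre x A U := ⟨base' x V, (pre_base' x V).symm⟩
  have e : pre x A (bop x U F) = (XA x A).affineBasicOpen F := Subtype.ext (pre_basicOpen x U F)
  suffices H : (J U).map (rb x U F) = J (bop x U F) by
    rw [hK']
    have : ∀ (W : (XA x A).affineOpens) (hW : pre x A (bop x U F) = W)
        (hle : W.1 ≤ (pre x A U).1),
        (J U).map ((XA x A).presheaf.map (homOfLE hle).op).hom = K W := by
      rintro W rfl hle
      rw [hK']
      exact H
    exact this _ e _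
  refine le_antisymm (hJ.1 _ _ _) fun z hz => ?_
  obtain ⟨y, n, hy⟩ := exists_rres_eq x U F z
  obtain ⟨m, hm⟩ := hJ.2 U F y (hy ▸ Ideal.mul_mem_right _ _ hz)
  have := Ideal.mem_map_of_mem (rb x U F) hm
  rw [map_mul, map_pow, ← hy, mul_comm z, ← mul_assoc, ← pow_add] at this
  exact (Ideal.unit_mul_mem_iff_mem _ ((isUnit_rres x U F).pow _)).1 this

lemma ext_idl {A : Art k k} {I J : (XA x A).IdealSheafData} (h : ∀ U, idl x I U = idl x J U) : I = J := by
  refine Scheme.IdealSheafData.ext (funext fun V => ?_)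
  rw [← pre_base' x V]
  exact h _

lemma idl_comap {A B : Art k k} (g : A ⟶ B) (I : (XA x A).IdealSheafData) (U : X.affineOpens) :
    idl x (I.comap (XAmap x g)) U = (idl x I U).map (rm x g U) :=
  IdealSh.Comap.ideal_comap I (XAmap x g) (pre x A U) (pre x B U) (map_preimage_pre x g U.1).ge

lemma ideal_comap_incl {A : Art k k} (I : (XA x A).IdealSheafData) (U : X.affineOpens) :
    (I.comap (XAincl x A)).ideal U = (idl x I U).map (res₀ x A U) :=
  IdealSh.Comap.ideal_comap I (XAincl x A) (pre x A U) U (incl_preimage_pre x A U.1).ge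

/-- Flatness on charts. -/
theorem flatOver_iff {A : Art k k} (I : (XA x A).IdealSheafData) :
    FlatOver X x A I ↔ ∀ U, ((Ideal.Quotient.mk (idl x I U)).comp (φ x A U)).Flat := by
  unfold FlatOver
  have key : ∀ U, (str (I.subschemeι ≫ XApr x A) (I.subschemeι ⁻¹ᵁ (pre x A U).1)).Flat ↔
      ((Ideal.Quotient.mk (idl x I U)).comp (φ x A U)).Flat := by
    intro U
    let a := (I.subschemeι.app (pre x A U).1).hom
    have hs : Function.Surjective a := I.subschemeι.app_surjective _ (pre x A U).2
    have hk : RingHom.ker a = idl x I U := I.ker_subschemeι_app (pre x A U)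
    let e : R x A U ⧸ idl x I U ≃+* Γ(I.subscheme, I.subschemeι ⁻¹ᵁ (pre x A U).1) :=
      (Ideal.quotEquivOfEq hk.symm).trans (RingHom.quotientKerEquivOfSurjective hs)
    have he : str (I.subschemeι ≫ XApr x A) (I.subschemeι ⁻¹ᵁ (pre x A U).1) =
        e.toRingHom.comp ((Ideal.Quotient.mk (idl x I U)).comp (φ x A U)) := by
      refine RingHom.ext fun c => ?_
      change _ = a (φ x A U c)
      change _ = (((Scheme.ΓSpecIso (CommRingCat.of A)).inv ≫ (XApr x A).appLE ⊤ (pre x A U).1 le_top) ≫
        I.subschemeι.app (pre x A U).1).hom c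
      rw [Scheme.Hom.app_eq_appLE, Category.assoc, Scheme.Hom.appLE_comp_appLE]
    rw [he]
    refine ⟨fun h => ?_, fun h => h.comp (RingHom.Flat.of_bijective e.bijective)⟩
    have h2 := h.comp (RingHom.Flat.of_bijective (f := e.symm.toRingHom) e.symm.bijective)
    have h3 : e.symm.toRingHom.comp e.toRingHom = RingHom.id _ := RingHom.ext fun z => e.symm_apply_apply z
    rwa [← RingHom.comp_assoc, h3, RingHom.id_comp] at h2
  refine ⟨fun hf U => (key U).1 ?_, fun h => ?_⟩
  · haveI := hf
    exact flat_str ((pre x A U).2.preimage I.subschemeι)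
  · refine flat_of_cover (fun U : X.affineOpens =>
      (⟨I.subschemeι ⁻¹ᵁ (pre x A U).1, (pre x A U).2.preimage I.subschemeι⟩ : I.subscheme.affineOpens))
      ?_ fun U => (key U).2 (h U)
    refine top_unique fun z _ => ?_
    obtain ⟨V, hV, -⟩ := IdealSh.Comap.exists_affine_le (pullback.fst x (specOver A) (I.subschemeι z)) ⊤ trivial
    exact Opens.mem_iSup.2 ⟨V, hV⟩

end Groth.Agent.HilbLoc
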