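import Groth.Agent.HilbLoc.Twist
import Groth.Agent.HomShQC.Basic
import Groth.Agent.HomShQC.Stalk
import Groth.Agent.Ref1.Extend
import Groth.Agent.AmpleLib.Ideal
import Groth.Agent.ZClosLib.CohDescent
import Groth.Agent.ProperFin.Descend
import Groth.Agent.S0002
import Groth.Prelude.Def_Omega3

/-!
# Finiteness of the tangent space of the local Hilbert functor
-/

set_option autoImplicit false

universe u

open CategoryTheory AlgebraicGeometry IsLocalRing Limits TopologicalSpace OmegaSh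
open Groth.Agent.Omega.Stalks

noncomputable section

namespace Groth.Agent.HilbLoc

open ArtFun ArtFun.Art DefSchLib

variable {k : Type u} [Field k] {X : Scheme.{u}} {x : X ⟶ specPt k} {I₀ : X.IdealSheafData}

lemma idl_mem_map {B A : Art k k} (g : B ⟶ A) (I : (localHilb X x I₀).obj B) (U : X.affineOpens)
    {z : R x B U} (hz : z ∈ idl x I.1 U) : rm x g U z ∈ idl x ((localHilb X x I₀).map g I).1 U := by
  rw [idl_map]; exact Ideal.mem_map_of_mem _ hz

/-- The trivial deformation. -/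
def triv (x : X ⟶ specPt k) (I₀ : X.IdealSheafData) (A : Art k k) : (localHilb X x I₀).obj A :=
  (localHilb X x I₀).map (ofBase A) (h0_localHilb x I₀).1.some

lemma map_triv {B A : Art k k} (g : B ⟶ A) :
    (localHilb X x I₀).map g (triv x I₀ B) = triv x I₀ A := by
  rw [triv, triv, ← FunctorToTypes.map_comp_apply, ofBase_comp]

lemma rm_e_dual (g : dual k k ⟶ dual k k) (ε : dual k k) (U : X.affineOpens) (a : Γ(X, U.1)) (c : k)
    (hg : g ε = algebraMap k (dual k k) c * ε) :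
    rm x g U (e x ε U a) = e x ε U (str x U.1 c * a) := by
  change rm x g U (φ x _ U ε * sA x _ U a) = φ x _ U ε * sA x _ U (str x U.1 c * a)
  rw [map_mul, rm_φ, rm_sA, hg, map_mul, map_mul, sA_str]
  ring

/-- The value of a first-order deformation at a section of the ideal. -/
def Val (ε : dual k k) (I : (localHilb X x I₀).obj (dual k k)) (U : X.affineOpens) (y : Γ(X, U.1))
    (c : Γ(X, U.1) ⧸ I₀.ideal U) : Prop :=
  DiffRel ε (triv x I₀ (dual k k)) I U y c

variable {ε : dual k k} (S : Step (toBase (dual k k)) ε)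

include S

lemma map_toBase_eq (I I' : (localHilb X x I₀).obj (dual k k)) :
    (localHilb X x I₀).map (toBase (dual k k)) I = (localHilb X x I₀).map (toBase (dual k k)) I' :=
  haveI := (h0_localHilb x I₀).2
  Subsingleton.elim _ _

lemma exists_val (I : (localHilb X x I₀).obj (dual k k)) (U : X.affineOpens) (y : I₀.ideal U) :
    ∃ c, Val ε I U y.1 c :=
  exists_diff S (map_toBase_eq S _ _) U y.2

lemma val_unique {I : (localHilb X x I₀).obj (dual k k)} {U : X.affineOpens} {y : Γ(X, U.1)}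
    {c c' : Γ(X, U.1) ⧸ I₀.ideal U} (h : Val ε I U y c) (h' : Val ε I U y c') : c = c' :=
  diff_unique S (map_toBase_eq S _ _) h h'

/-- The value function of a first-order deformation. -/
def val (I : (localHilb X x I₀).obj (dual k k)) (U : X.affineOpens) (y : I₀.ideal U) : Γ(X, U.1) ⧸ I₀.ideal U :=
  (exists_val S I U y).choose

lemma val_eq {I : (localHilb X x I₀).obj (dual k k)} {U : X.affineOpens} {y : I₀.ideal U}
    {c : Γ(X, U.1) ⧸ I₀.ideal U} (h : Val ε I U y.1 c) : val S I U y = c :=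
  val_unique S (exists_val S I U y).choose_spec h

lemma val_injective {I I' : (localHilb X x I₀).obj (dual k k)}
    (h : ∀ U y, val S I U y = val S I' U y) : I = I' := by
  suffices H : ∀ (I I' : (localHilb X x I₀).obj (dual k k)), (∀ U y, val S I U y = val S I' U y) →
      ∀ U, idl x I.1 U ≤ idl x I'.1 U from
    elt_ext fun U => le_antisymm (H I I' h U) (H I' I (fun U y => (h U y).symm) U)
  intro I I' h U z hz
  have hz0 : rm x (toBase (dual k k)) U z ∈ (idl x (triv x I₀ (dual k k)).1 U).map (rm x (toBase _) U) := by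
    rw [← idl_map, map_toBase_eq S (triv x I₀ _) I, idl_map]; exact Ideal.mem_map_of_mem _ hz
  obtain ⟨t, ht, he⟩ := (Ideal.mem_map_iff_of_surjective _ (rm_surjective_ker x _ S.surj U).1).1 hz0
  obtain ⟨a, ha⟩ := S.exists_e x (z := z - t) (by rw [map_sub, he, sub_self])
  have hy : res₀ x _ U t ∈ I₀.ideal U := by
    rw [← map_res₀_elt (triv x I₀ (dual k k)) U]; exact Ideal.mem_map_of_mem _ ht
  obtain ⟨c, hc⟩ := exists_val S I' U ⟨_, hy⟩
  have h1 : val S I U ⟨_, hy⟩ = Ideal.Quotient.mk _ a := val_eq S ⟨t, ht, z, hz, a, rfl, ha.symm, rfl⟩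
  rw [h, val_eq S hc] at h1
  obtain ⟨t₂, ht₂, z₂, hz₂, a₂, hy₂, e₂, rfl⟩ := hc
  have h2 : t - t₂ ∈ idl x I'.1 U := by
    refine S.mul_le (map_toBase_eq S (triv x I₀ _) I') U
      (mem_mul_of_flat_quotient (φ x _ U) _ (flat_elt _ U) _ (sub_mem ht ht₂) ?_)
    rw [← ker_res₀, RingHom.mem_ker, map_sub, hy₂, sub_self]
  have h3 : e x ε U (a - a₂) ∈ idl x I'.1 U := (S.e_mem_iff I' U _).2 (Ideal.Quotient.eq.1 h1.symm)
  rw [map_sub, ha, ← e₂] at h3
  have := add_mem (add_mem h3 hz₂) h2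
  rwa [show z - t - (z₂ - t₂) + z₂ + (t - t₂) = z by ring] at this

/-- The value function is linear and natural. -/
lemma val_props (I : (localHilb X x I₀).obj (dual k k)) :
    (∀ (U : X.affineOpens) (a b : I₀.ideal U), val S I U (a + b) = val S I U a + val S I U b) ∧
    (∀ (U : X.affineOpens) (r : Γ(X, U.1)) a, val S I U (r • a) = Ideal.Quotient.mk _ r * val S I U a) ∧
    ∀ (U U' : X.affineOpens) (h : U'.1 ≤ U.1) (a : I₀.ideal U) (a' : I₀.ideal U'),
      res h (a : Γ(X, U.1)) = a' → ∀ c, val S I U a = Ideal.Quotient.mk _ c →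
        val S I U' a' = Ideal.Quotient.mk _ (res h c) := by
  refine ⟨fun U y₁ y₂ => ?_, fun U r y => ?_, fun U U' hle y y' hyy c hc => ?_⟩
  · obtain ⟨z₁, hz₁, z₁', hz₁', a₁, hy₁, e₁, c₁⟩ := (exists_val S I U y₁).choose_spec
    obtain ⟨z₂, hz₂, z₂', hz₂', a₂, hy₂, e₂, c₂⟩ := (exists_val S I U y₂).choose_spec
    refine val_eq S ⟨z₁ + z₂, add_mem hz₁ hz₂, z₁' + z₂', add_mem hz₁' hz₂', a₁ + a₂, ?_, ?_, ?_⟩
    · rw [map_add, hy₁, hy₂, Submodule.coe_add]
    · rw [map_add, ← e₁, ← e₂]; ring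
    · rw [map_add]; exact congrArg₂ (· + ·) c₁ c₂
  · obtain ⟨z, hz, z', hz', a, hy, e₁, c₁⟩ := (exists_val S I U y).choose_spec
    refine val_eq S ⟨sA x _ U r * z, Ideal.mul_mem_left _ _ hz, sA x _ U r * z',
      Ideal.mul_mem_left _ _ hz', r * a, ?_, ?_, ?_⟩
    · rw [map_mul, res₀_sA, hy]; rfl
    · rw [← mul_sub, e₁, S.mul_e x, res₀_sA]
    · rw [map_mul]; exact congrArg _ c₁
  · obtain ⟨z, hz, z', hz', a, hy, e₁, c₁⟩ := (exists_val S I U y).choose_spec
    have hin : ∀ J : (localHilb X x I₀).obj (dual k k), ∀ w ∈ idl x J.1 U, rres x _ hle w ∈ idl x J.1 U' :=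
      fun J w hw => (compat_idl x J.1).1 U U' hle (Ideal.mem_map_of_mem _ hw)
    refine val_eq S ⟨_, hin _ z hz, _, hin I z' hz', res hle a, ?_, ?_, ?_⟩
    · rw [res₀_rres, hy]; exact hyy
    · rw [← map_sub, e₁, rres_e x S hle]
    · rw [Ideal.Quotient.eq]
      have hca : c - a ∈ I₀.ideal U := Ideal.Quotient.eq.1 (hc.symm.trans c₁)
      have := I₀.ideal_le_comap_ideal (U := U') (V := U) hle hca
      rw [Ideal.mem_comap, map_sub] at this
      exact this

lemma val_scale (c : k) (hg : scale c ε = algebraMap k (dual k k) c * ε)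
    (I : (localHilb X x I₀).obj (dual k k)) (U : X.affineOpens) (y : I₀.ideal U) :
    val S ((localHilb X x I₀).map (scale c) I) U y =
      Ideal.Quotient.mk _ (str x U.1 c) * val S I U y := by
  obtain ⟨z, hz, z', hz', a, hy, e₁, c₁⟩ := (exists_val S I U y).choose_spec
  refine val_eq S ⟨rm x (scale c) U z, ?_, rm x (scale c) U z', idl_mem_map _ I U hz', str x U.1 c * a, ?_, ?_, ?_⟩
  · have := idl_mem_map (scale c) _ U hz
    rwa [map_triv] at this
  · rw [res₀_rm]; exact hy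
  · rw [← map_sub, e₁, rm_e_dual _ ε U a c hg]
  · rw [map_mul]; exact congrArg _ c₁

lemma val_plus (Z : (localHilb X x I₀).obj (dual2 k k)) (ε₁ ε₂ : dual2 k k)
    (hm : maximalIdeal (dual2 k k : Type u) ≤ Ideal.span {ε₁, ε₂})
    (h₁ : (pr₁ : dual2 k k ⟶ dual k k) ε₁ = ε ∧ (pr₁ : dual2 k k ⟶ dual k k) ε₂ = 0)
    (h₂ : (pr₂ : dual2 k k ⟶ dual k k) ε₁ = 0 ∧ (pr₂ : dual2 k k ⟶ dual k k) ε₂ = ε)
    (hp : (plus : dual2 k k ⟶ dual k k) ε₁ = ε ∧ (plus : dual2 k k ⟶ dual k k) ε₂ = ε)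
    (hmm : ∀ b ∈ maximalIdeal (dual2 k k : Type u), b * ε₁ = 0 ∧ b * ε₂ = 0)
    (U : X.affineOpens) (y : I₀.ideal U) :
    val S ((localHilb X x I₀).map plus Z) U y =
      val S ((localHilb X x I₀).map pr₁ Z) U y + val S ((localHilb X x I₀).map pr₂ Z) U y := by
  obtain ⟨t, ht, hty⟩ : ∃ t ∈ idl x (triv x I₀ (dual2 k k)).1 U, res₀ x _ U t = y.1 :=
    (Ideal.mem_map_iff_of_surjective _ (res₀_surjective x _ U)).1 (by rw [map_res₀_elt]; exact y.2)
  obtain ⟨z, hz, hzy⟩ : ∃ z ∈ idl x Z.1 U, res₀ x _ U z = y.1 :=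
    (Ideal.mem_map_iff_of_surjective _ (res₀_surjective x _ U)).1 (by rw [map_res₀_elt]; exact y.2)
  have hd : z - t ∈ (maximalIdeal (dual2 k k : Type u)).map (φ x _ U) := by
    rw [← ker_res₀, RingHom.mem_ker, map_sub, hzy, hty, sub_self]
  have hd' : z - t ∈ Ideal.span {φ x _ U ε₁, φ x _ U ε₂} := by
    have := Ideal.map_mono (f := φ x _ U) hm hd
    rwa [Ideal.map_span, Set.image_pair] at this
  obtain ⟨p, q, hpq⟩ := Ideal.mem_span_pair.1 hd'
  have hkill : ∀ (ε' : dual2 k k), (∀ b ∈ maximalIdeal (dual2 k k : Type u), b * ε' = 0) → ∀ w,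
      w * φ x _ U ε' = φ x _ U ε' * sA x _ U (res₀ x _ U w) := by
    intro ε' hε' w
    rw [mul_comm, ← sub_eq_zero, ← mul_sub]
    have hmem : w - sA x _ U (res₀ x _ U w) ∈ (maximalIdeal (dual2 k k : Type u)).map (φ x _ U) := by
      rw [← ker_res₀, RingHom.mem_ker, map_sub, res₀_sA, sub_self]
    refine Submodule.span_induction ?_ (mul_zero _) (fun a b _ _ ha hb => by rw [mul_add, ha, hb, add_zero])
      (fun r a _ ha => by rw [smul_eq_mul, mul_left_comm, ha, mul_zero]) hmem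
    rintro _ ⟨b, hb, rfl⟩
    rw [← map_mul, mul_comm, hε' b hb, map_zero]
  rw [hkill ε₁ (fun b hb => (hmm b hb).1), hkill ε₂ (fun b hb => (hmm b hb).2)] at hpq
  have key : ∀ (g : dual2 k k ⟶ dual k k) (b : Γ(X, U.1)),
      rm x g U z - rm x g U t = e x ε U b → val S ((localHilb X x I₀).map g Z) U y = Ideal.Quotient.mk _ b := by
    intro g b hb
    refine val_eq S ⟨rm x g U t, ?_, rm x g U z, idl_mem_map g Z U hz, b, ?_, hb, rfl⟩
    · have := idl_mem_map g _ U ht
      rwa [map_triv] at this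
    · rw [res₀_rm]; exact hty
  rw [key plus (res₀ x _ U p + res₀ x _ U q), key pr₁ (res₀ x _ U p), key pr₂ (res₀ x _ U q), map_add]
  all_goals rw [← map_sub, ← hpq, map_add, map_mul, map_mul, rm_φ, rm_φ, rm_sA, rm_sA]
  · rw [h₂.1, h₂.2, map_zero, zero_mul, zero_add]; rfl
  · rw [h₁.1, h₁.2, map_zero, zero_mul, add_zero]; rfl
  · rw [hp.1, hp.2, map_add]; rfl

end Groth.Agent.HilbLoc
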