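import Groth.Agent.HilbLoc.Fin
import Groth.Agent.ArtFunLib.Tangent

/-!
# The tangent space of the local Hilbert functor of a proper subscheme is finite-dimensional
-/

set_option autoImplicit false

universe u

open CategoryTheory AlgebraicGeometry IsLocalRing Limits TopologicalSpace OmegaSh
open Groth.Agent.Omega.Stalks

noncomputable section

namespace Groth.Agent.HilbLoc

open ArtFun ArtFun.Art DefSchLib

variable {k : Type u} [Field k] {Z Y : Scheme.{u}} {y : Y ⟶ specPt k} (i : Z ⟶ Y) [IsClosedImmersion i]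

/-- Functions modulo the ideal as functions on the closed subscheme. -/
def push (U : Y.affineOpens) : Γ(Y, U.1) ⧸ i.ker.ideal U →+* Γ(Z, i ⁻¹ᵁ U.1) :=
  Ideal.Quotient.lift _ (i.app U.1).hom fun a ha => by
    rw [Scheme.Hom.ker_apply] at ha; exact ha

lemma push_injective (U : Y.affineOpens) : Function.Injective (push i U) := by
  refine (injective_iff_map_eq_zero _).2 fun z hz => ?_
  obtain ⟨a, rfl⟩ := Ideal.Quotient.mk_surjective z
  rw [Ideal.Quotient.eq_zero_iff_mem, Scheme.Hom.ker_apply]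
  exact hz

omit [IsClosedImmersion i] in
lemma sec_ofHom {F G : Z.Modules} (ψ : F ⟶ G) {V : Z.Opens} (m : Γ(F, V)) :
    HomShQC.sec F G (QCoh.res (RefHull.homSh F G) (le_top : V ≤ ⊤) (RefHull.ofHom ψ ⊤)) m = ψ.app V m :=
  HomShQC.sec_ext G fun p hp =>
    (HomShQC.germM_sec F G _ m ⟨p, hp⟩).trans (RefHull.stalkMapₗ_germ ψ p hp m)

/-- A morphism `I → i_* O` from linear natural values. -/
theorem exists_hom_push (δ : ∀ U : Y.affineOpens, i.ker.ideal U → Γ(Y, U.1) ⧸ i.ker.ideal U)
    (hadd : ∀ U a b, δ U (a + b) = δ U a + δ U b)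
    (hsmul : ∀ U (r : Γ(Y, U.1)) a, δ U (r • a) = Ideal.Quotient.mk _ r * δ U a)
    (hnat : ∀ (U U' : Y.affineOpens) (h : U'.1 ≤ U.1) (a : i.ker.ideal U) (a' : i.ker.ideal U'),
      res h (a : Γ(Y, U.1)) = a' → ∀ c, δ U a = Ideal.Quotient.mk _ c →
        δ U' a' = Ideal.Quotient.mk _ (res h c)) :
    ∃ ψ : ClSub.idealMod i.ker ⟶ (Scheme.Modules.pushforward i).obj (Coh.structureModule Z),
      ∀ (U : Y.affineOpens) (s : Γ(ClSub.idealMod i.ker, U.1)),
        ψ.app U.1 s = push i U (δ U ⟨idealSect i.ker U.1 s, IdealSh.IdealMod.sect_mem i.ker U s⟩) := by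
  refine exists_hom_of_affine (M := ClSub.idealMod i.ker)
    (N := (Scheme.Modules.pushforward i).obj (Coh.structureModule Z)) (fun U => AddMonoidHom.mk'
    (fun s => push i U (δ U ⟨idealSect i.ker U.1 s, IdealSh.IdealMod.sect_mem i.ker U s⟩)) fun a b => ?_)
    (fun U r s => ?_) (fun U U' h s => ?_)
  · refine Eq.trans ?_ (map_add (push i U) _ _)
    rw [← hadd]
    exact congrArg (push i U ∘ δ U) (Subtype.ext (map_add (idealSect i.ker U.1) a b))
  · change push i U (δ U ⟨idealSect i.ker U.1 (r • s), IdealSh.IdealMod.sect_mem i.ker U _⟩) = (i.app U.1).hom r *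
      push i U (δ U ⟨idealSect i.ker U.1 s, IdealSh.IdealMod.sect_mem i.ker U s⟩)
    rw [show (i.app U.1).hom r = push i U (Ideal.Quotient.mk _ r) from rfl, ← map_mul, ← hsmul]
    exact congrArg (push i U ∘ δ U) (Subtype.ext (idealSect_smul i.ker U.1 r s))
  · obtain ⟨c, hc⟩ := Ideal.Quotient.mk_surjective (δ U ⟨idealSect i.ker U.1 s, IdealSh.IdealMod.sect_mem i.ker U s⟩)
    change Z.presheaf.map _ (push i U (δ U _)) = push i U' (δ U' _)
    rw [hnat U U' h ⟨idealSect i.ker U.1 s, IdealSh.IdealMod.sect_mem i.ker U s⟩ _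
      (idealSect_map i.ker (homOfLE h) s).symm c hc.symm, ← hc]
    exact congr($((i.naturality (homOfLE h).op)) c).symm

/-- The scalars on sections. -/
abbrev sc (i : Z ⟶ Y) (y : Y ⟶ specPt k) (U : Y.Opens) : k →+* Γ(Z, i ⁻¹ᵁ U) :=
  (Coh.resTop Z (Opposite.op (i ⁻¹ᵁ U))).comp (Coh.toGlobal (i ≫ y))

omit [IsClosedImmersion i] in
lemma app_str (U : Y.Opens) (c : k) : (i.app U).hom (str y U c) = sc i y U c := by
  change (((Scheme.ΓSpecIso (CommRingCat.of k)).inv ≫ y.appLE ⊤ U le_top) ≫ i.app U).hom c =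
    (((Scheme.ΓSpecIso (CommRingCat.of k)).inv ≫ (i ≫ y).appTop) ≫ Z.presheaf.map (homOfLE le_top).op).hom c
  congr 2
  rw [Category.assoc, Category.assoc, Scheme.Hom.app_eq_appLE, Scheme.Hom.appLE_comp_appLE,
    show (i ≫ y).appTop = (i ≫ y).appLE ⊤ ⊤ le_rfl from Scheme.Hom.app_eq_appLE _, Scheme.Hom.appLE_map]

/-- The ideal as functions on the ambient scheme, valued in the subscheme. -/
abbrev Tgt : Type u := ∀ U : Y.affineOpens, i.ker.ideal U → Γ(Z, i ⁻¹ᵁ U.1)

/-- The element `ε` of the dual numbers. -/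
def epsD : dual k k := (DualNumber.eps : DualNumber k)

lemma step_epsD : Step (toBase (dual k k)) (epsD : dual k k) := step_dual

/-- `ε` scaled and projected. -/
lemma scale_eps (c : k) : (scale c : dual k k ⟶ dual k k) epsD =
    algebraMap k (dual k k) c * epsD := by
  have h : ((c * (1 : k)) : k) = TrivSqZeroExt.snd
      ((TrivSqZeroExt.inl c : DualNumber k) * DualNumber.eps) := by
    rw [TrivSqZeroExt.snd_mul, TrivSqZeroExt.snd_inl, TrivSqZeroExt.fst_inl, DualNumber.snd_eps, DualNumber.fst_eps]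
    simp
  refine TrivSqZeroExt.ext ?_ ?_
  · exact (mul_zero c).symm
  · exact h

/-- The first order element `ε₁` of `k[ε₁, ε₂]`. -/
def ε₁ : dual2 k k := (TrivSqZeroExt.inr (1, 0) : TrivSqZeroExt k (k × k))

/-- The second order element `ε₂` of `k[ε₁, ε₂]`. -/
def ε₂ : dual2 k k := (TrivSqZeroExt.inr (0, 1) : TrivSqZeroExt k (k × k))

lemma fst_eq_zero_of_mem {b : dual2 k k} (hb : b ∈ maximalIdeal (dual2 k k : Type u)) :
    TrivSqZeroExt.fst (b : TrivSqZeroExt k (k × k)) = 0 :=
  (mem_maximalIdeal_iff _ _).1 hb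

lemma max_le_span : maximalIdeal (dual2 k k : Type u) ≤ Ideal.span {ε₁, ε₂} := by
  intro b hb
  have key : ∀ w : TrivSqZeroExt k (k × k), TrivSqZeroExt.fst w = 0 →
      (TrivSqZeroExt.inl w.snd.1 : TrivSqZeroExt k (k × k)) * TrivSqZeroExt.inr (1, 0) +
        TrivSqZeroExt.inl w.snd.2 * TrivSqZeroExt.inr (0, 1) = w := by
    intro w hw
    ext <;> simp [hw]
  exact Ideal.mem_span_pair.2 ⟨_, _, key b (fst_eq_zero_of_mem hb)⟩

lemma max_mul (b : dual2 k k) (hb : b ∈ maximalIdeal (dual2 k k : Type u)) : b * ε₁ = 0 ∧ b * ε₂ = 0 := by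
  have key : ∀ (w : TrivSqZeroExt k (k × k)) (m : k × k), TrivSqZeroExt.fst w = 0 →
      w * TrivSqZeroExt.inr m = 0 := by
    intro w m hw
    ext <;> simp [hw]
  exact ⟨key b _ (fst_eq_zero_of_mem hb), key b _ (fst_eq_zero_of_mem hb)⟩

/-- The tangent space is finite-dimensional when `Γ` of the dual conormal sheaf is. -/
theorem hfin_localHilb [LocallyOfFiniteType y] [IsProper (i ≫ y)]
    [T : TangentStr (localHilb Y y i.ker)] : Hfin (localHilb Y y i.ker) := by
  haveI : IsLocallyNoetherian Y := LocallyOfFiniteType.isLocallyNoetherian y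
  haveI : IsLocallyNoetherian Z := LocallyOfFiniteType.isLocallyNoetherian (i ≫ y)
  letI : Z.Over (Spec (CommRingCat.of k)) := ⟨i ≫ y⟩
  haveI : IsProper (Z ↘ Spec (CommRingCat.of k)) := ‹IsProper (i ≫ y)›
  -- the dual of the conormal sheaf
  have hC : Coh.IsCoh (Omega.conormal i) := by
    refine ZClosLib.CohDescent.isCoh_pullback (f := i) _ ⟨AmpleLib.isQCoh_idealMod _, AmpleLib.isFT_idealMod fun U => ?_⟩
    haveI := IsLocallyNoetherian.component_noetherian U
    exact IsNoetherian.noetherian _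
  let C := Omega.conormal i
  let H := RefHull.homSh C (Coh.structureModule Z)
  have hfinHH : Module.Finite k (Coh.HH Z H 0) :=
    Groth.Agent.S0002.result k Z H (HomShQC.isCoh_homSh C _ hC HomShQC.isCoh_structureModule) 0
  let glob : k →+* Γ(Z, ⊤) := Coh.toGlobal (i ≫ y)
  letI : Module k Γ(H, ⊤) := Module.compHom _ glob
  let eΓ : Coh.HH Z H 0 ≃ₗ[k] Γ(H, ⊤) :=
    { ProperFin.h0Sec H with
      map_smul' := fun c z => by
        change ProperFin.h0Sec H ((Coh.toGlobal (i ≫ y) c) • z) = glob c • ProperFin.h0Sec H z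
        exact ProperFin.h0Sec_smul H _ z }
  haveI : Module.Finite k Γ(H, ⊤) := Module.Finite.equiv eΓ
  letI : ∀ U : Y.affineOpens, Module k Γ(Z, i ⁻¹ᵁ U.1) := fun U => Module.compHom _ (sc i y U.1)
  have hsmul : ∀ (U : Y.affineOpens) (c : k) (t : Γ(Z, i ⁻¹ᵁ U.1)), c • t = sc i y U.1 c * t := fun _ _ _ => rfl
  -- evaluation on sections of the ideal
  choose s hs using fun (U : Y.affineOpens) (a : i.ker.ideal U) => exists_sect' i.ker U a.2
  let L : Γ(H, ⊤) →ₗ[k] Tgt i :=
    { toFun := fun g U a => HomShQC.sec C (Coh.structureModule Z)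
        (QCoh.res H (le_top : i ⁻¹ᵁ U.1 ≤ ⊤) g) (conormalSect i U.1 (s U a))
      map_add' := fun g g' => by
        funext U a
        rw [map_add, map_add, LinearMap.add_apply]
        rfl
      map_smul' := fun c g => by
        funext U a
        change HomShQC.sec C (Coh.structureModule Z)
          (QCoh.res H _ (glob c • g)) _ = _
        rw [QCoh.res_smul, map_smul, LinearMap.smul_apply]
        rfl }
  have S := step_epsD (k := k)
  let Φ : TangentSpace (localHilb Y y i.ker) →ₗ[k] Tgt i :=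
    { toFun := fun I U a => push i U (val S (TangentSpace.val I) U a)
      map_add' := fun I I' => by
        funext U a
        obtain ⟨W, hW₁, hW₂⟩ := ArtFunLib.exists_pair_elt (localHilb Y y i.ker) (h0_localHilb y i.ker)
          (fun _ _ _ _ h => cmp_bijective_localHilb h fun c => (dual k k).res_surjective c)
          (TangentSpace.val I) (TangentSpace.val I')
        have hsum : TangentSpace.val (I + I') = (localHilb Y y i.ker).map plus W := by
          rw [← T.add_eq W, hW₁, hW₂]
          rfl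
        change push i U (val S (TangentSpace.val (I + I')) U a) = push i U _ + push i U _
        rw [← map_add, hsum, val_plus S W ε₁ ε₂ max_le_span ⟨rfl, rfl⟩ ⟨rfl, rfl⟩
          ⟨TrivSqZeroExt.ext rfl (add_zero (1 : k)), TrivSqZeroExt.ext rfl (zero_add (1 : k))⟩ max_mul, hW₁, hW₂]
      map_smul' := fun c I => by
        funext U a
        have hsc : TangentSpace.val (c • I) = (localHilb Y y i.ker).map (scale c) (TangentSpace.val I) :=
          T.smul_eq c (TangentSpace.val I)
        change push i U (val S (TangentSpace.val (c • I)) U a) = c • push i U _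
        rw [hsc, val_scale S c (scale_eps c), map_mul, hsmul]
        congr 1
        exact app_str i U.1 c }
  have hΦ : Function.Injective Φ := fun I I' h => val_injective S fun U a =>
    push_injective i U (congrFun (congrFun h U) a)
  have hle : LinearMap.range Φ ≤ LinearMap.range L := by
    rintro _ ⟨I, rfl⟩
    obtain ⟨h₁, h₂, h₃⟩ := val_props S (TangentSpace.val I)
    obtain ⟨ψ, hψ⟩ := exists_hom_push i (val S (TangentSpace.val I)) h₁ h₂ h₃
    let adj := Scheme.Modules.pullbackPushforwardAdjunction i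
    let ψ' : C ⟶ Coh.structureModule Z := (adj.homEquiv _ _).symm ψ
    refine ⟨RefHull.ofHom ψ' ⊤, funext fun U => funext fun a => ?_⟩
    change HomShQC.sec C (Coh.structureModule Z) (QCoh.res H _ (RefHull.ofHom ψ' ⊤)) _ = _
    rw [sec_ofHom]
    have h : (adj.homEquiv _ _) ψ' = ψ := Equiv.apply_symm_apply _ _
    have h' := hψ U (s U a)
    rw [← h, Adjunction.homEquiv_unit] at h'
    refine Eq.trans ?_ (h'.trans ?_)
    · rfl
    · exact congrArg (fun t => push i U (val S (TangentSpace.val I) U t)) (Subtype.ext (hs U a))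
  haveI : Module.Finite k (LinearMap.range Φ) :=
    Module.Finite.of_injective (Submodule.inclusion hle) (Submodule.inclusion_injective hle)
  exact Module.Finite.equiv (LinearEquiv.ofInjective Φ hΦ).symm

end Groth.Agent.HilbLoc
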