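import Groth.Agent.HilbLoc.Chart
import Groth.Agent.HilbLoc.Alg

/-!
# The local Hilbert functor on charts: gluing over fibre products
-/

set_option autoImplicit false

universe u

open CategoryTheory AlgebraicGeometry IsLocalRing Limits TopologicalSpace

noncomputable section

namespace Groth.Agent.HilbLoc

open ArtFun ArtFun.Art DefSchLib

variable {k : Type u} [Field k] {X : Scheme.{u}} {x : X ⟶ specPt k} {I₀ : X.IdealSheafData}

/-- Lifts of a `k`-basis of functions on `U` form a basis of the chart. -/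
theorem bijective_comb_sA (x : X ⟶ specPt k) (A : Art k k) (U : X.affineOpens) {β : Type u}
    (v : β → Γ(X, U.1)) (hv : Function.Bijective (comb (str x U.1) v)) :
    Function.Bijective (comb (φ x A U) fun b => sA x A U (v b)) :=
  bijective_comb (resHom A) A.res_surjective (ker_resHom A) (φ x A U) (flat_φ x A U) (res₀ x A U)
    (str x U.1) (res₀_φ x A U) (ker_res₀ x A U) _ (by simpa only [res₀_sA] using hv)

lemma exists_basis (x : X ⟶ specPt k) (U : X.affineOpens) :
    ∃ (β : Type u) (v : β → Γ(X, U.1)), Function.Bijective (comb (str x U.1) v) := by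
  letI := (str x U.1).toAlgebra
  refine ⟨_, Module.Free.chooseBasis k Γ(X, U.1), ?_⟩
  have h : comb (str x U.1) (Module.Free.chooseBasis k Γ(X, U.1)) =
      (Module.Free.chooseBasis k Γ(X, U.1)).repr.symm := funext fun c =>
    (comb_eq_linearCombination _ c).trans (Module.Basis.repr_symm_apply _ c).symm
  rw [h]
  exact LinearEquiv.bijective _

/-- A chart is spanned by functions pulled back from `X`. -/
theorem chart_induction {A : Art k k} {U : X.affineOpens} {P : R x A U → Prop} (z : R x A U)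
    (h0 : P 0) (hadd : ∀ a b, P a → P b → P (a + b))
    (h : ∀ (a : A) (c : Γ(X, U.1)), P (φ x A U a * sA x A U c)) : P z := by
  obtain ⟨β, v, hv⟩ := exists_basis x U
  obtain ⟨c, rfl⟩ := (bijective_comb_sA x A U v hv).2 z
  exact Finset.sum_induction _ P hadd h0 fun b _ => h (c b) (v b)

/-- An element of the local Hilbert functor, by ideals on charts. -/
theorem exists_elt (A : Art k k) (J : ∀ U, Ideal (R x A U)) (hJ : Compat x A J)
    (hfl : ∀ U, ((Ideal.Quotient.mk (J U)).comp (φ x A U)).Flat)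
    (h0 : ∀ U, (J U).map (res₀ x A U) = I₀.ideal U) :
    ∃ I : (localHilb X x I₀).obj A, ∀ U, idl x I.1 U = J U := by
  obtain ⟨I, hI⟩ := exists_idealSheaf x J hJ
  refine ⟨⟨I, (flatOver_iff x I).2 fun U => by rw [hI U]; exact hfl U, ?_⟩, hI⟩
  refine Scheme.IdealSheafData.ext (funext fun U => ?_)
  rw [ideal_comap_incl, hI, h0]

lemma flat_elt {A : Art k k} (I : (localHilb X x I₀).obj A) (U : X.affineOpens) :
    ((Ideal.Quotient.mk (idl x I.1 U)).comp (φ x A U)).Flat := (flatOver_iff x I.1).1 I.2.1 U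

lemma map_res₀_elt {A : Art k k} (I : (localHilb X x I₀).obj A) (U : X.affineOpens) :
    (idl x I.1 U).map (res₀ x A U) = I₀.ideal U :=
  (ideal_comap_incl x I.1 U).symm.trans (congrArg (fun K => Scheme.IdealSheafData.ideal K U) I.2.2)

lemma elt_ext {A : Art k k} {I I' : (localHilb X x I₀).obj A} (h : ∀ U, idl x I.1 U = idl x I'.1 U) :
    I = I' := Subtype.ext (ext_idl x h)

lemma idl_map {A B : Art k k} (g : A ⟶ B) (I : (localHilb X x I₀).obj A) (U : X.affineOpens) :
    idl x ((localHilb X x I₀).map g I).1 U = (idl x I.1 U).map (rm x g U) :=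
  idl_comap x g I.1 U

lemma comap_idl_eq {A B : Art k k} (g : A ⟶ B) (hg : Function.Surjective g)
    (I : (localHilb X x I₀).obj A) (U : X.affineOpens) :
    (idl x ((localHilb X x I₀).map g I).1 U).comap (rm x g U) =
      idl x I.1 U ⊔ (RingHom.ker g.toAlgHom.toRingHom).map (φ x A U) := by
  rw [idl_map, Ideal.comap_map_of_surjective _ (rm_surjective_ker x g hg U).1,
    ← (rm_surjective_ker x g hg U).2]
  rfl

lemma mem_max_map {A : Art k k} {U : X.affineOpens} {z : R x A U} (K : Ideal (R x A U))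
    (hz : res₀ x A U z ∈ K.map (res₀ x A U)) : z ∈ K ⊔ (maximalIdeal A).map (φ x A U) := by
  rw [← ker_res₀]
  obtain ⟨w, hw, hwz⟩ := (Ideal.mem_map_iff_of_surjective _ (res₀_surjective x A U)).1 hz
  exact Submodule.mem_sup.2 ⟨w, hw, z - w, by rw [RingHom.mem_ker, map_sub, hwz, sub_self], by ring⟩

/-- The structure map of the closed fibre of a subscheme on a chart. -/
abbrev ι₀ (x : X ⟶ specPt k) (I₀ : X.IdealSheafData) (U : X.affineOpens) : k →+* Γ(X, U.1) ⧸ I₀.ideal U :=
  (Ideal.Quotient.mk (I₀.ideal U)).comp (str x U.1)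

/-- The closed fibre of a subscheme on a chart. -/
def q₀ {A : Art k k} (I : (localHilb X x I₀).obj A) (U : X.affineOpens) :
    R x A U ⧸ idl x I.1 U →+* Γ(X, U.1) ⧸ I₀.ideal U :=
  Ideal.quotientMap _ (res₀ x A U) (Ideal.map_le_iff_le_comap.1 (map_res₀_elt I U).le)

lemma q₀_surjective {A : Art k k} (I : (localHilb X x I₀).obj A) (U : X.affineOpens) :
    Function.Surjective (q₀ I U) := fun y => by
  obtain ⟨y, rfl⟩ := Ideal.Quotient.mk_surjective y
  exact ⟨Ideal.Quotient.mk _ (sA x A U y), congrArg (Ideal.Quotient.mk _) (res₀_sA x A U y)⟩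

lemma ker_q₀ {A : Art k k} (I : (localHilb X x I₀).obj A) (U : X.affineOpens) :
    RingHom.ker (q₀ I U) = (maximalIdeal A).map ((Ideal.Quotient.mk (idl x I.1 U)).comp (φ x A U)) := by
  rw [← Ideal.map_map]
  ext y
  obtain ⟨z, rfl⟩ := Ideal.Quotient.mk_surjective y
  rw [RingHom.mem_ker]
  change Ideal.Quotient.mk _ (res₀ x A U z) = 0 ↔ _
  rw [Ideal.Quotient.eq_zero_iff_mem, ← map_res₀_elt I U, ← Ideal.mem_comap,
    Ideal.comap_map_of_surjective _ (res₀_surjective x A U), Ideal.mem_quotient_iff_mem_sup,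
    sup_comm, ← ker_res₀]
  rfl

/-- Lifts of a basis of the closed fibre form a basis of the subscheme on a chart. -/
theorem bijective_comb_quot {A : Art k k} (I : (localHilb X x I₀).obj A) (U : X.affineOpens)
    {β : Type u} (v : β → Γ(X, U.1))
    (hv : Function.Bijective (comb (ι₀ x I₀ U) fun b => Ideal.Quotient.mk (I₀.ideal U) (v b))) :
    Function.Bijective (comb ((Ideal.Quotient.mk (idl x I.1 U)).comp (φ x A U))
      fun b => Ideal.Quotient.mk _ (sA x A U (v b))) := by
  refine bijective_comb (resHom A) A.res_surjective (ker_resHom A) _ (flat_elt I U) (q₀ I U)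
    (ι₀ x I₀ U) (fun a => congrArg (Ideal.Quotient.mk _) (res₀_φ x A U a)) (ker_q₀ I U) _ ?_
  have : (fun b => q₀ I U (Ideal.Quotient.mk _ (sA x A U (v b)))) =
      fun b => Ideal.Quotient.mk (I₀.ideal U) (v b) :=
    funext fun b => congrArg (Ideal.Quotient.mk _) (res₀_sA x A U (v b))
  rw [this]
  exact hv

lemma exists_basis_quot (x : X ⟶ specPt k) (I₀ : X.IdealSheafData) (U : X.affineOpens) :
    ∃ (β : Type u) (v : β → Γ(X, U.1)),
      Function.Bijective (comb (ι₀ x I₀ U) fun b => Ideal.Quotient.mk (I₀.ideal U) (v b)) := by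
  letI := (ι₀ x I₀ U).toAlgebra
  let b₀ := Module.Free.chooseBasis k (Γ(X, U.1) ⧸ I₀.ideal U)
  choose v hv using fun b => Ideal.Quotient.mk_surjective (b₀ b)
  refine ⟨_, v, ?_⟩
  simp only [hv]
  have h : comb (ι₀ x I₀ U) b₀ = b₀.repr.symm := funext fun c =>
    (comb_eq_linearCombination _ c).trans (Module.Basis.repr_symm_apply _ c).symm
  rw [h]
  exact LinearEquiv.bijective _

/-- The transition map on a subscheme. -/
def qm {A B : Art k k} (g : A ⟶ B) (I : (localHilb X x I₀).obj A) (U : X.affineOpens) :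
    R x A U ⧸ idl x I.1 U →+* R x B U ⧸ idl x ((localHilb X x I₀).map g I).1 U :=
  Ideal.quotientMap _ (rm x g U) (Ideal.map_le_iff_le_comap.1 (idl_map g I U).ge)

lemma qm_comb {A B : Art k k} (g : A ⟶ B) (I : (localHilb X x I₀).obj A) (U : X.affineOpens)
    {β : Type u} (v : β → Γ(X, U.1)) (c : β →₀ A) :
    qm g I U (comb ((Ideal.Quotient.mk (idl x I.1 U)).comp (φ x A U))
        (fun b => Ideal.Quotient.mk _ (sA x A U (v b))) c) =
      comb ((Ideal.Quotient.mk (idl x ((localHilb X x I₀).map g I).1 U)).comp (φ x B U))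
        (fun b => Ideal.Quotient.mk _ (sA x B U (v b))) (c.mapRange g (map_zero g.toAlgHom)) := by
  rw [map_comb _ ((Ideal.Quotient.mk (idl x ((localHilb X x I₀).map g I).1 U)).comp (φ x B U))
    (qm g I U) g.toAlgHom.toRingHom (fun a => congrArg (Ideal.Quotient.mk _) (rm_φ x g U a))]
  have : (fun b => qm g I U (Ideal.Quotient.mk _ (sA x A U (v b)))) =
      fun b => Ideal.Quotient.mk _ (sA x B U (v b)) :=
    funext fun b => congrArg (Ideal.Quotient.mk _) (rm_sA x g U (v b))
  rw [this]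
  rfl

section FibreProduct

variable {B A A₁ A₂ : Art k k} {p₁ : B ⟶ A₁} {p₂ : B ⟶ A₂} {f₁ : A₁ ⟶ A} {f₂ : A₂ ⟶ A}

lemma surjective_fst_of_surjective (h : IsFibreProd p₁ p₂ f₁ f₂) (hf : Function.Surjective f₂) :
    Function.Surjective p₁ := fun a => by
  obtain ⟨a', ha'⟩ := hf (f₁ a)
  obtain ⟨b, hb, -⟩ := h.surj a a' ha'.symm
  exact ⟨b, hb⟩

/-- Charts over a fibre product. -/
theorem exists_chart_lift (h : IsFibreProd p₁ p₂ f₁ f₂) (hf : Function.Surjective f₂) (U : X.affineOpens)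
    (s : R x A₁ U) (t : R x A₂ U) (hst : rm x f₁ U s = rm x f₂ U t) :
    ∃ r, rm x p₁ U r = s ∧ rm x p₂ U r = t := by
  obtain ⟨r₀, rfl⟩ := (rm_surjective_ker x p₁ (surjective_fst_of_surjective h hf) U).1 s
  have hw : t - rm x p₂ U r₀ ∈ RingHom.ker (rm x f₂ U) := by
    rw [RingHom.mem_ker, map_sub, ← hst, rm_rm, rm_rm, h.w, sub_self]
  rw [(rm_surjective_ker x f₂ hf U).2] at hw
  have G : ∀ a ∈ RingHom.ker f₂.toAlgHom.toRingHom, ∀ c : R x A₂ U,
      ∃ r, rm x p₁ U r = 0 ∧ rm x p₂ U r = c * φ x A₂ U a := by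
    intro a ha c
    refine chart_induction (P := fun c => ∃ r, rm x p₁ U r = 0 ∧ rm x p₂ U r = c * φ x A₂ U a) c
      ⟨0, map_zero _, by rw [map_zero, zero_mul]⟩
      (fun u v ⟨r, e1, e2⟩ ⟨r', e1', e2'⟩ =>
        ⟨r + r', by rw [map_add, e1, e1', add_zero], by rw [map_add, e2, e2', add_mul]⟩)
      fun e c => ?_
    have hea : f₂ (e * a) = 0 := by
      refine (map_mul f₂.toAlgHom e a).trans ?_
      rw [show f₂.toAlgHom a = 0 from ha, mul_zero]
    obtain ⟨b, hb1, hb2⟩ := h.surj 0 (e * a) ((map_zero f₁.toAlgHom).trans hea.symm)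
    refine ⟨φ x B U b * sA x B U c, ?_, ?_⟩
    · rw [map_mul, rm_φ, hb1, map_zero, zero_mul]
    · rw [map_mul, rm_φ, hb2, rm_sA, map_mul]
      ring
  suffices H : ∀ w ∈ (RingHom.ker f₂.toAlgHom.toRingHom).map (φ x A₂ U), ∀ c : R x A₂ U,
      ∃ r, rm x p₁ U r = 0 ∧ rm x p₂ U r = c * w by
    obtain ⟨r, h1, h2⟩ := H _ hw 1
    exact ⟨r₀ + r, by rw [map_add, h1, add_zero], by rw [map_add, h2, one_mul, add_sub_cancel]⟩
  intro w hw
  refine Submodule.span_induction ?_ ?_ ?_ ?_ hw
  · rintro _ ⟨a, ha, rfl⟩ c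
    exact G a ha c
  · intro c
    exact ⟨0, map_zero _, by rw [map_zero, mul_zero]⟩
  · rintro a b _ _ ha hb c
    obtain ⟨r, h1, h2⟩ := ha c
    obtain ⟨r', h1', h2'⟩ := hb c
    exact ⟨r + r', by rw [map_add, h1, h1', add_zero], by rw [map_add, h2, h2', mul_add]⟩
  · intro d a _ ha c
    obtain ⟨r, h1, h2⟩ := ha (c * d)
    exact ⟨r, h1, by rw [h2, smul_eq_mul, mul_assoc]⟩

/-- An element over a fibre product is determined by its two images. -/
theorem mem_iff_of_fibre_prod (h : IsFibreProd p₁ p₂ f₁ f₂) (I : (localHilb X x I₀).obj B)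
    (U : X.affineOpens) (z : R x B U) :
    z ∈ idl x I.1 U ↔ rm x p₁ U z ∈ idl x ((localHilb X x I₀).map p₁ I).1 U ∧
      rm x p₂ U z ∈ idl x ((localHilb X x I₀).map p₂ I).1 U := by
  refine ⟨fun hz => ⟨?_, ?_⟩, fun ⟨h1, h2⟩ => ?_⟩
  · rw [idl_map]; exact Ideal.mem_map_of_mem _ hz
  · rw [idl_map]; exact Ideal.mem_map_of_mem _ hz
  obtain ⟨β, v, hv⟩ := exists_basis_quot x I₀ U
  obtain ⟨c, hc⟩ := (bijective_comb_quot I U v hv).2 (Ideal.Quotient.mk _ z)
  have key : ∀ {C : Art k k} (p : B ⟶ C),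
      rm x p U z ∈ idl x ((localHilb X x I₀).map p I).1 U → ∀ b, p (c b) = 0 := by
    intro C p hpz b
    have h0 := (qm_comb p I U v c).symm.trans
      ((congrArg (qm p I U) hc).trans (Ideal.Quotient.eq_zero_iff_mem.2 hpz))
    have h1 := (bijective_comb_quot ((localHilb X x I₀).map p I) U v hv).1
      (h0.trans Finsupp.sum_zero_index.symm)
    exact (Finsupp.mapRange_apply (hf := map_zero p.toAlgHom)).symm.trans (DFunLike.congr_fun h1 b)
  have hc0 : c = 0 := Finsupp.ext fun b => h.inj _ 0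
    ((key p₁ h1 b).trans (map_zero p₁.toAlgHom).symm) ((key p₂ h2 b).trans (map_zero p₂.toAlgHom).symm)
  rw [← Ideal.Quotient.eq_zero_iff_mem, ← hc, hc0]
  exact Finsupp.sum_zero_index

/-- The local Hilbert functor takes a fibre product along a surjection to a fibre product. -/
theorem cmp_bijective_localHilb (h : IsFibreProd p₁ p₂ f₁ f₂) (hf : Function.Surjective f₂) :
    Function.Bijective (cmp (localHilb X x I₀) h) := by
  constructor
  · refine (ArtFunLib.cmp_inj_iff _ h).2 fun I I' e1 e2 => elt_ext fun U => ?_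
    ext z
    rw [mem_iff_of_fibre_prod h, mem_iff_of_fibre_prod h, e1, e2]
  refine (ArtFunLib.cmp_surj_iff _ h).2 fun I₁ I₂ he => ?_
  let J : ∀ U, Ideal (R x B U) := fun U =>
    (idl x I₁.1 U).comap (rm x p₁ U) ⊓ (idl x I₂.1 U).comap (rm x p₂ U)
  have hp := surjective_fst_of_surjective h hf
  have hJc : Compat x B J := by
    refine ⟨fun U U' hUU => ?_, fun U F z hz => ?_⟩
    · rw [Ideal.map_le_iff_le_comap]
      rintro z ⟨hz1, hz2⟩
      refine ⟨?_, ?_⟩
      · change rm x p₁ U' (rres x B hUU z) ∈ idl x I₁.1 U'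
        rw [rm_rres]
        exact (compat_idl x I₁.1).1 U U' hUU (Ideal.mem_map_of_mem _ hz1)
      · change rm x p₂ U' (rres x B hUU z) ∈ idl x I₂.1 U'
        rw [rm_rres]
        exact (compat_idl x I₂.1).1 U U' hUU (Ideal.mem_map_of_mem _ hz2)
    · have key : ∀ {C : Art k k} (p : B ⟶ C) (K : (XA x C).IdealSheafData),
          rm x p (bop x U F) (rb x U F z) ∈ idl x K (bop x U F) → ∃ n, rm x p U (F ^ n * z) ∈ idl x K U := by
        intro C p K hK
        rw [rm_rres] at hK
        have e : bop x U F = bop x U (rm x p U F) :=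
          congrArg X.affineBasicOpen (res₀_rm x p U F).symm
        have hK' : rb x U (rm x p U F) (rm x p U z) ∈ idl x K (bop x U (rm x p U F)) := by
          have : ∀ (W : X.affineOpens) (hW : bop x U F = W) (hle : W.1 ≤ U.1),
              rres x C hle (rm x p U z) ∈ idl x K W := by
            rintro W rfl hle
            exact hK
          exact this _ e _
        obtain ⟨n, hn⟩ := (compat_idl x K).2 U (rm x p U F) (rm x p U z) hK'
        exact ⟨n, by rwa [map_mul, map_pow]⟩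
      obtain ⟨n, hn⟩ := key p₁ I₁.1 hz.1
      obtain ⟨m, hm⟩ := key p₂ I₂.1 hz.2
      refine ⟨n + m, ?_, ?_⟩
      · change rm x p₁ U (F ^ (n + m) * z) ∈ idl x I₁.1 U
        rw [pow_add, mul_comm (F ^ n), mul_assoc, map_mul]
        exact Ideal.mul_mem_left _ _ hn
      · change rm x p₂ U (F ^ (n + m) * z) ∈ idl x I₂.1 U
        rw [pow_add, mul_assoc, map_mul]
        exact Ideal.mul_mem_left _ _ hm
  have hsel : ∀ U (j : R x A₁ U), j ∈ idl x I₁.1 U → ∃ r ∈ J U, rm x p₁ U r = j := by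
    intro U j hj
    have hjA : rm x f₁ U j ∈ idl x ((localHilb X x I₀).map f₂ I₂).1 U := by
      rw [← he, idl_map]
      exact Ideal.mem_map_of_mem _ hj
    rw [idl_map, Ideal.mem_map_iff_of_surjective _ (rm_surjective_ker x f₂ hf U).1] at hjA
    obtain ⟨j', hj', hjj⟩ := hjA
    obtain ⟨r, hr1, hr2⟩ := exists_chart_lift h hf U j j' hjj.symm
    exact ⟨r, ⟨show rm x p₁ U r ∈ _ from hr1 ▸ hj, show rm x p₂ U r ∈ _ from hr2 ▸ hj'⟩, hr1⟩
  have hJ0 : ∀ U, (J U).map (res₀ x B U) = I₀.ideal U := by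
    intro U
    refine le_antisymm (Ideal.map_le_iff_le_comap.2 fun z hz => ?_) fun c hc => ?_
    · rw [Ideal.mem_comap, ← res₀_rm x p₁, ← map_res₀_elt I₁ U]
      exact Ideal.mem_map_of_mem _ hz.1
    · rw [← map_res₀_elt I₁ U, Ideal.mem_map_iff_of_surjective _ (res₀_surjective x A₁ U)] at hc
      obtain ⟨j, hj, rfl⟩ := hc
      obtain ⟨r, hr, rfl⟩ := hsel U j hj
      rw [res₀_rm]
      exact Ideal.mem_map_of_mem _ hr
  have hflat : ∀ U, ((Ideal.Quotient.mk (J U)).comp (φ x B U)).Flat := by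
    intro U
    let I := (localHilb X x I₀).map f₂ I₂
    have h1le : idl x I₁.1 U ≤ (idl x I.1 U).comap (rm x f₁ U) := by
      rw [← Ideal.map_le_iff_le_comap, ← idl_map, he]
    have h2le : idl x I₂.1 U ≤ (idl x I.1 U).comap (rm x f₂ U) := by
      rw [← Ideal.map_le_iff_le_comap, ← idl_map]
    let a₁ : R x B U ⧸ J U →+* R x A₁ U ⧸ idl x I₁.1 U := Ideal.quotientMap _ (rm x p₁ U) inf_le_left
    let a₂ : R x B U ⧸ J U →+* R x A₂ U ⧸ idl x I₂.1 U := Ideal.quotientMap _ (rm x p₂ U) inf_le_right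
    let g₁ : R x A₁ U ⧸ idl x I₁.1 U →+* R x A U ⧸ idl x I.1 U := Ideal.quotientMap _ (rm x f₁ U) h1le
    let g₂ : R x A₂ U ⧸ idl x I₂.1 U →+* R x A U ⧸ idl x I.1 U := Ideal.quotientMap _ (rm x f₂ U) h2le
    have e₁ : (q₀ I U).comp g₁ = q₀ I₁ U := Ideal.Quotient.ringHom_ext (RingHom.ext fun z =>
      congrArg (Ideal.Quotient.mk _) (res₀_rm x f₁ U z))
    have e₂ : (q₀ I U).comp g₂ = q₀ I₂ U := Ideal.Quotient.ringHom_ext (RingHom.ext fun z =>
      congrArg (Ideal.Quotient.mk _) (res₀_rm x f₂ U z))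
    refine (flat_fibre_prod h _ ((Ideal.Quotient.mk (idl x I₁.1 U)).comp (φ x A₁ U))
      ((Ideal.Quotient.mk (idl x I₂.1 U)).comp (φ x A₂ U))
      ((Ideal.Quotient.mk (idl x I.1 U)).comp (φ x A U)) a₁ a₂ g₁ g₂ (q₀ I U) (ι₀ x I₀ U)
      (flat_elt I U) (flat_elt I₁ U) (flat_elt I₂ U)
      (fun a => congrArg (Ideal.Quotient.mk _) (rm_φ x f₁ U a))
      (fun a => congrArg (Ideal.Quotient.mk _) (rm_φ x f₂ U a))
      (fun a => congrArg (Ideal.Quotient.mk _) (rm_φ x p₁ U a))
      (fun a => congrArg (Ideal.Quotient.mk _) (rm_φ x p₂ U a))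
      (fun a => congrArg (Ideal.Quotient.mk _) (res₀_φ x A U a)) (ker_q₀ I U)
      (by rw [e₁]; exact ker_q₀ I₁ U) (by rw [e₁]; exact q₀_surjective I₁ U)
      (by rw [e₂]; exact ker_q₀ I₂ U) ?_ ?_ ?_ ?_).1
    · exact Ideal.quotientMap_surjective (rm_surjective_ker x f₂ hf U).1
    · intro r
      obtain ⟨r, rfl⟩ := Ideal.Quotient.mk_surjective r
      change Ideal.Quotient.mk _ (rm x f₁ U (rm x p₁ U r)) = Ideal.Quotient.mk _ (rm x f₂ U (rm x p₂ U r))
      rw [rm_rm, rm_rm, h.w]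
    · intro r r' h1 h2
      obtain ⟨r, rfl⟩ := Ideal.Quotient.mk_surjective r
      obtain ⟨r', rfl⟩ := Ideal.Quotient.mk_surjective r'
      refine Ideal.Quotient.eq.2 ⟨?_, ?_⟩
      · change rm x p₁ U (r - r') ∈ idl x I₁.1 U
        rw [map_sub]
        exact Ideal.Quotient.eq.1 h1
      · change rm x p₂ U (r - r') ∈ idl x I₂.1 U
        rw [map_sub]
        exact Ideal.Quotient.eq.1 h2
    · intro s t hst
      obtain ⟨s, rfl⟩ := Ideal.Quotient.mk_surjective s
      obtain ⟨t, rfl⟩ := Ideal.Quotient.mk_surjective t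
      have hd : rm x f₁ U s - rm x f₂ U t ∈ idl x I.1 U := Ideal.Quotient.eq.1 hst
      rw [idl_map, Ideal.mem_map_iff_of_surjective _ (rm_surjective_ker x f₂ hf U).1] at hd
      obtain ⟨j, hj, hjd⟩ := hd
      obtain ⟨r, hr1, hr2⟩ := exists_chart_lift h hf U s (t + j) (by rw [map_add, hjd]; ring)
      refine ⟨Ideal.Quotient.mk _ r, congrArg (Ideal.Quotient.mk _) hr1, ?_⟩
      change Ideal.Quotient.mk _ (rm x p₂ U r) = _
      rw [hr2, map_add, Ideal.Quotient.eq_zero_iff_mem.2 hj, add_zero]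
  obtain ⟨η, hη⟩ := exists_elt B J hJc hflat hJ0
  refine ⟨η, elt_ext fun U => ?_, elt_ext fun U => ?_⟩
  · rw [idl_map, hη]
    refine le_antisymm (Ideal.map_le_iff_le_comap.2 inf_le_left) fun j hj => ?_
    obtain ⟨r, hr, rfl⟩ := hsel U j hj
    exact Ideal.mem_map_of_mem _ hr
  · -- the second image is contained in `I₂` and has the same closed fibre
    have hle : idl x ((localHilb X x I₀).map p₂ η).1 U ≤ idl x I₂.1 U := by
      rw [idl_map, hη]
      exact Ideal.map_le_iff_le_comap.2 inf_le_right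
    refine le_antisymm hle fun z hz => ?_
    obtain ⟨β, v, hv⟩ := exists_basis_quot x I₀ U
    obtain ⟨c, hc⟩ := (bijective_comb_quot ((localHilb X x I₀).map p₂ η) U v hv).2 (Ideal.Quotient.mk _ z)
    have h0 := congrArg (Ideal.Quotient.factor hle) hc
    rw [map_comb _ ((Ideal.Quotient.mk (idl x I₂.1 U)).comp (φ x A₂ U)) (Ideal.Quotient.factor hle)
      (RingHom.id _) (fun a => Ideal.Quotient.factor_mk _ _)] at h0
    simp only [Ideal.Quotient.factor_mk, Ideal.Quotient.eq_zero_iff_mem.2 hz] at h0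
    have hc0 := (bijective_comb_quot I₂ U v hv).1 (h0.trans Finsupp.sum_zero_index.symm)
    have hc1 : c = 0 := by
      ext b
      simpa using DFunLike.congr_fun hc0 b
    rw [← Ideal.Quotient.eq_zero_iff_mem, ← hc, hc1]
    exact Finsupp.sum_zero_index

end FibreProduct

/-- The conditions `H₀`, `H_ε`, `H̄` and `H` for the local Hilbert functor. -/
theorem h0_localHilb (x : X ⟶ specPt k) (I₀ : X.IdealSheafData) : H0 (localHilb X x I₀) := by
  have hres : ∀ U, Function.Injective (res₀ x (base k k) U) := fun U => by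
    rw [RingHom.injective_iff_ker_eq_bot, ker_res₀,
      (IsLocalRing.isField_iff_maximalIdeal_eq (R := (base k k : Type u))).1 (Field.toIsField k), Ideal.map_bot]
  refine ⟨?_, ⟨fun I I' => elt_ext fun U => ?_⟩⟩
  · let J : ∀ U, Ideal (R x (base k k) U) := fun U => (I₀.ideal U).comap (res₀ x (base k k) U)
    have hc : Compat x (base k k) J := by
      refine ⟨fun U U' h => ?_, fun U F z hz => ?_⟩
      · rw [Ideal.map_le_iff_le_comap]
        intro z hz
        change res₀ x _ U' (rres x _ h z) ∈ I₀.ideal U'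
        rw [res₀_rres]
        exact I₀.ideal_le_comap_ideal (U := U') (V := U) h hz
      · change res₀ x _ (bop x U F) (rb x U F z) ∈ I₀.ideal (bop x U F) at hz
        rw [res₀_rres] at hz
        change res (bop_le x U F) (res₀ x _ U z) ∈ I₀.ideal (X.affineBasicOpen (res₀ x _ U F)) at hz
        rw [← I₀.map_ideal_basicOpen U (res₀ x _ U F)] at hz
        haveI := U.2.isLocalization_basicOpen (res₀ x _ U F)
        obtain ⟨_, ⟨n, rfl⟩, hy⟩ :=
          (IsLocalization.algebraMap_mem_map_algebraMap_iff (Submonoid.powers (res₀ x _ U F))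
            Γ(X, X.basicOpen (res₀ x _ U F)) _ _).1 hz
        refine ⟨n, ?_⟩
        change res₀ x _ U (F ^ n * z) ∈ I₀.ideal U
        rw [map_mul, map_pow]
        exact hy
    have hfl : ∀ U, ((Ideal.Quotient.mk (J U)).comp (φ x (base k k) U)).Flat := fun U => by
      let ψ : k →+* R x (base k k) U ⧸ J U := (Ideal.Quotient.mk (J U)).comp (φ x (base k k) U)
      show ψ.Flat
      letI := ψ.toAlgebra
      exact (inferInstance : Module.Flat k (R x (base k k) U ⧸ J U))
    obtain ⟨I, -⟩ := exists_elt (I₀ := I₀) (base k k) J hc hfl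
      fun U => Ideal.map_comap_of_surjective _ (res₀_surjective x _ U) _
    exact ⟨I⟩
  · rw [← Ideal.comap_map_of_bijective (res₀ x _ U) ⟨hres U, res₀_surjective x _ U⟩ (I := idl x I.1 U),
      map_res₀_elt I U, ← map_res₀_elt I' U,
      Ideal.comap_map_of_bijective (res₀ x _ U) ⟨hres U, res₀_surjective x _ U⟩]

end Groth.Agent.HilbLoc
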