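import Groth.Agent.HilbLoc.Obs
import Groth.Prelude.Def_CAlgX

/-!
# Local lifts of subschemes cut out by `H₁`-regular sequences
-/

set_option autoImplicit false

universe u

open CategoryTheory AlgebraicGeometry IsLocalRing Limits TopologicalSpace OmegaSh

noncomputable section

namespace Groth.Agent.HilbLoc

open ArtFun ArtFun.Art DefSchLib

/-- The trivial relations. -/
def triv₁ {R : Type u} [CommRing R] {n : ℕ} (f : Fin n → R) : Submodule R (Fin n → R) :=
  Submodule.span R {v : Fin n → R | ∃ i j : Fin n, v = Pi.single i (f j) - Pi.single j (f i)}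

lemma map_triv₁ {R S : Type u} [CommRing R] [CommRing S] (σ : R →+* S) {n : ℕ} (g : Fin n → R) (f : Fin n → S)
    (hg : ∀ j, σ (g j) = f j) (hσ : Function.Surjective σ) {v : Fin n → S} (hv : v ∈ triv₁ f) :
    ∃ w ∈ triv₁ g, ∀ j, σ (w j) = v j := by
  induction hv using Submodule.span_induction with
  | mem v hv =>
    obtain ⟨i, j, rfl⟩ := hv
    refine ⟨Pi.single i (g j) - Pi.single j (g i), Submodule.subset_span ⟨i, j, rfl⟩, fun l => ?_⟩
    simp only [Pi.sub_apply, map_sub, Pi.single_apply, apply_ite σ, map_zero, hg]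
  | zero => exact ⟨0, zero_mem _, fun l => by simp⟩
  | add a b _ _ ha hb =>
    obtain ⟨w, hw, h⟩ := ha
    obtain ⟨w', hw', h'⟩ := hb
    exact ⟨w + w', add_mem hw hw', fun l => by simp [h l, h' l]⟩
  | smul c a _ ha =>
    obtain ⟨w, hw, h⟩ := ha
    obtain ⟨d, rfl⟩ := hσ c
    exact ⟨d • w, Submodule.smul_mem _ d hw, fun l => by simp [h l]⟩

lemma sum_triv₁ {R : Type u} [CommRing R] {n : ℕ} {g : Fin n → R} {w : Fin n → R} (hw : w ∈ triv₁ g) :
    ∑ j, w j * g j = 0 := by
  induction hw using Submodule.span_induction with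
  | mem v hv =>
    obtain ⟨i, j, rfl⟩ := hv
    simp [sub_mul, Finset.sum_sub_distrib, Pi.single_apply, ite_mul]
    ring
  | zero => simp
  | add a b _ _ ha hb => simp [add_mul, Finset.sum_add_distrib, ha, hb]
  | smul c a _ ha => simp [mul_assoc, ← Finset.mul_sum, ha]

variable {k : Type u} [Field k] {X : Scheme.{u}} (x : X ⟶ specPt k) (U : X.affineOpens) {n : ℕ} (f : Fin n → Γ(X, U.1))

/-- Relations between lifts of the sequence are trivial. -/
def RelTriv (A : Art k k) : Prop :=
  ∀ g : Fin n → R x A U, (∀ j, res₀ x A U (g j) = f j) →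
    ∀ w : Fin n → R x A U, ∑ j, w j * g j = 0 → w ∈ triv₁ g

variable {x U f}

lemma res₀_injective_base {A : Art k k} (hA : maximalIdeal (A : Type u) = ⊥) :
    Function.Injective (res₀ x A U) := by
  rw [RingHom.injective_iff_ker_eq_bot, ker_res₀, hA, Ideal.map_bot]

lemma relTriv_of_field (hf : CAlgX.IsH1Regular f) {A : Art k k} (hA : maximalIdeal (A : Type u) = ⊥) :
    RelTriv x U f A := by
  intro g hg w hw
  have h1 : ∑ j, res₀ x A U (w j) * f j = 0 := by
    simp only [← hg, ← map_mul, ← map_sum, hw, map_zero]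
  obtain ⟨w', hw', h⟩ := map_triv₁ (res₀ x A U) g f hg (res₀_surjective x A U) (hf _ h1)
  rwa [show w = w' from funext fun j => res₀_injective_base hA (h j).symm]

variable {B A : Art k k} {p : B ⟶ A} {ε : B}

/-- The coefficient of a relation modulo `ε`. -/
lemma exists_coeff (S : Step p ε) (hA : RelTriv x U f A) {g : Fin n → R x B U}
    (hg : ∀ j, res₀ x B U (g j) = f j) {w : Fin n → R x B U} {a : Γ(X, U.1)}
    (hw : ∑ j, w j * g j = e x ε U a) :
    ∃ v ∈ triv₁ g, ∃ c : Fin n → Γ(X, U.1), (∀ j, w j = v j + e x ε U (c j)) ∧ ∑ j, c j * f j = a := by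
  have h1 : ∑ j, rm x p U (w j) * rm x p U (g j) = 0 := by
    simp only [← map_mul, ← map_sum, hw, S.rm_e x]
  obtain ⟨v, hv, hvw⟩ := map_triv₁ (rm x p U) g _ (fun j => rfl) (rm_surjective_ker x p S.surj U).1
    (hA (fun j => rm x p U (g j)) (fun j => by rw [res₀_rm, hg]) _ h1)
  choose c hc using fun j => S.exists_e x (z := w j - v j) (by rw [map_sub, hvw, sub_self])
  refine ⟨v, hv, c, fun j => by rw [hc, add_sub_cancel], S.e_injective x U ?_⟩
  rw [map_sum, ← hw]
  have hs : ∑ j, w j * g j = ∑ j, v j * g j + ∑ j, g j * e x ε U (c j) := by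
    rw [← Finset.sum_add_distrib]
    refine Finset.sum_congr rfl fun j _ => ?_
    rw [hc]; ring
  rw [hs, sum_triv₁ hv, zero_add]
  refine Finset.sum_congr rfl fun j _ => ?_
  rw [S.mul_e x, hg, mul_comm]

lemma relTriv_step (hf : CAlgX.IsH1Regular f) (S : Step p ε) (hA : RelTriv x U f A) : RelTriv x U f B := by
  intro g hg w hw
  obtain ⟨v, hv, c, hwc, hc⟩ := exists_coeff S hA hg (a := 0) (by rw [hw, map_zero])
  obtain ⟨d, hd, hdc⟩ := map_triv₁ (res₀ x B U) g f hg (res₀_surjective x B U) (hf c hc)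
  have : w = v + φ x B U ε • d := funext fun j => by
    rw [Pi.add_apply, Pi.smul_apply, smul_eq_mul, S.mul_eq_e x, hdc, hwc]
  rw [this]
  exact add_mem hv (Submodule.smul_mem _ _ hd)

variable (x U)

/-- Relations between lifts of an `H₁`-regular sequence are trivial. -/
theorem relTriv (hf : CAlgX.IsH1Regular f) (A : Art k k) : RelTriv x U f A := by
  have hmax : maximalIdeal ((base k k : Art k k) : Type u) = ⊥ :=
    eq_bot_iff.2 fun z hz => Ideal.mem_bot.2 ((mem_maximalIdeal_iff (base k k) z).1 hz)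
  refine (ArtFunLib.surjective_induction (P := fun {B A} (_ : B ⟶ A) => RelTriv x U f A → RelTriv x U f B)
    ?_ ?_ (toBase A) (fun c => A.res_surjective c)) (relTriv_of_field hf hmax)
  · intro B A e he h g hg w hw
    have hrm : Function.Bijective (rm x e U) := by
      refine ⟨?_, (rm_surjective_ker x e he.2 U).1⟩
      rw [RingHom.injective_iff_ker_eq_bot, (rm_surjective_ker x e he.2 U).2,
        (RingHom.injective_iff_ker_eq_bot e.toAlgHom.toRingHom).1 he.1, Ideal.map_bot]
    obtain ⟨v, hv, hvw⟩ := map_triv₁ (rm x e U) g (fun j => rm x e U (g j)) (fun j => rfl) hrm.2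
      (h _ (fun j => by rw [res₀_rm, hg]) (fun j => rm x e U (w j))
        (by simp only [← map_mul, ← map_sum, hw, map_zero]))
    rwa [show w = v from funext fun j => hrm.1 (hvw j).symm]
  · intro B C A p q hp _ hq h
    obtain ⟨ε, S⟩ := exists_step_of_isSmallExt hp
    exact relTriv_step hf S (hq h)

/-- Local lifts exist. -/
theorem exists_local_retraction {I₀ : X.IdealSheafData} (hf : CAlgX.IsH1Regular f)
    (hI : Ideal.span (Set.range f) = I₀.ideal U) {B A : Art k k} {p : B ⟶ A} {ε : B} (S : Step p ε)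
    (IA : (localHilb X x I₀).obj A) :
    ∃ r : R x B U → Γ(X, U.1) ⧸ I₀.ideal U,
      (∀ z z', z ∈ J p IA U → z' ∈ J p IA U → r (z + z') = r z + r z') ∧
      (∀ w z, z ∈ J p IA U → r (w * z) = Ideal.Quotient.mk _ (res₀ x B U w) * r z) ∧
      ∀ a, r (e x ε U a) = Ideal.Quotient.mk _ a := by
  classical
  have hg0 : ∀ j, ∃ z ∈ J p IA U, res₀ x B U z = f j := fun j => by
    have hj : f j ∈ I₀.ideal U := hI ▸ Ideal.subset_span ⟨j, rfl⟩
    rw [← map_res₀_elt IA U, Ideal.mem_map_iff_of_surjective _ (res₀_surjective x A U)] at hj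
    obtain ⟨w, hw, hwf⟩ := hj
    obtain ⟨z, rfl⟩ := (rm_surjective_ker x p S.surj U).1 w
    exact ⟨z, hw, by rw [← hwf, res₀_rm]⟩
  choose g hgJ hg using hg0
  let gA := fun j => rm x p U (g j)
  -- the lifts generate
  have hgen : idl x IA.1 U ≤ Ideal.span (Set.range gA) := by
    set m := (maximalIdeal (A : Type u)).map (φ x A U) with hm
    have h1 : idl x IA.1 U ≤ Ideal.span (Set.range gA) ⊔ m * idl x IA.1 U := by
      intro w hw
      have hw' : res₀ x A U w ∈ Ideal.span (Set.range f) := by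
        rw [hI, ← map_res₀_elt IA U]; exact Ideal.mem_map_of_mem _ hw
      obtain ⟨c, hc⟩ := (Submodule.mem_span_range_iff_exists_fun _).1 hw'
      choose d hd using fun j => res₀_surjective x A U (c j)
      have hs : ∑ j, d j * gA j ∈ Ideal.span (Set.range gA) :=
        sum_mem fun j _ => Ideal.mul_mem_left _ _ (Ideal.subset_span ⟨j, rfl⟩)
      refine Submodule.mem_sup.2 ⟨_, hs, w - ∑ j, d j * gA j, ?_, add_sub_cancel _ _⟩
      refine mem_mul_of_flat_quotient (φ x A U) _ (flat_elt _ U) _ (sub_mem hw (Ideal.span_le.2 ?_ hs)) ?_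
      · rintro _ ⟨j, rfl⟩
        exact hgJ j
      · rw [← ker_res₀, RingHom.mem_ker, map_sub, map_sum]
        refine sub_eq_zero.2 (hc.symm.trans (Finset.sum_congr rfl fun j _ => ?_))
        rw [map_mul, hd, res₀_rm, hg, smul_eq_mul]
    obtain ⟨N, hN⟩ := DefSchLib.isNilpotent_max (A : Type u)
    have hiter : ∀ l : ℕ, idl x IA.1 U ≤ Ideal.span (Set.range gA) ⊔ m ^ l * idl x IA.1 U := by
      intro l
      induction l with
      | zero => rw [pow_zero, one_mul]; exact le_sup_right
      | succ l ih =>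
        refine ih.trans (sup_le le_sup_left ((Ideal.mul_mono_right h1).trans ?_))
        rw [Ideal.mul_sup, pow_succ, mul_assoc]
        exact sup_le_sup_right Ideal.mul_le_right _
    refine (hiter N).trans (sup_le le_rfl ?_)
    rw [hm, ← Ideal.map_pow, hN, Submodule.zero_eq_bot, Ideal.map_bot, Submodule.bot_mul]
    exact bot_le
  have hdec : ∀ z ∈ J p IA U, ∃ a : Γ(X, U.1), z - e x ε U a ∈ Ideal.span (Set.range g) := by
    intro z hz
    have h1 : rm x p U z ∈ (Ideal.span (Set.range g)).map (rm x p U) := by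
      rw [Ideal.map_span, ← Set.range_comp]
      exact hgen hz
    obtain ⟨z', hz', he⟩ := (Ideal.mem_map_iff_of_surjective _ (rm_surjective_ker x p S.surj U).1).1 h1
    obtain ⟨a, ha⟩ := S.exists_e x (z := z - z') (by rw [map_sub, he, sub_self])
    exact ⟨a, by rwa [ha, sub_sub_cancel]⟩
  choose a ha using hdec
  have huniq : ∀ z (hz : z ∈ J p IA U) b, z - e x ε U b ∈ Ideal.span (Set.range g) →
      Ideal.Quotient.mk (I₀.ideal U) (a z hz) = Ideal.Quotient.mk _ b := by
    intro z hz b hb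
    have h1 : e x ε U (a z hz - b) ∈ Ideal.span (Set.range g) := by
      rw [map_sub, show e x ε U (a z hz) - e x ε U b =
        (z - e x ε U b) - (z - e x ε U (a z hz)) by ring]
      exact sub_mem hb (ha z hz)
    obtain ⟨w, hw⟩ := (Submodule.mem_span_range_iff_exists_fun _).1 h1
    obtain ⟨v, -, c, -, hc⟩ := exists_coeff S (relTriv x U hf A) hg (w := w) (a := a z hz - b)
      (by simpa only [smul_eq_mul] using hw)
    rw [Ideal.Quotient.eq, ← hc, ← hI]
    exact sum_mem fun j _ => Ideal.mul_mem_left _ _ (Ideal.subset_span ⟨j, rfl⟩)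
  refine ⟨fun z => if hz : z ∈ J p IA U then Ideal.Quotient.mk _ (a z hz) else 0, ?_, ?_, ?_⟩
  · intro z z' hz hz'
    simp only [dif_pos hz, dif_pos hz', dif_pos (add_mem hz hz'), ← map_add]
    refine huniq _ _ _ ?_
    rw [map_add, add_sub_add_comm]
    exact add_mem (ha z hz) (ha z' hz')
  · intro w z hz
    simp only [dif_pos hz, dif_pos (Ideal.mul_mem_left _ w hz), ← map_mul]
    refine huniq _ _ _ ?_
    rw [← S.mul_e x, ← mul_sub]
    exact Ideal.mul_mem_left _ _ (ha z hz)
  · intro b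
    have hb : e x ε U b ∈ J p IA U := by rw [Ideal.mem_comap, S.rm_e x]; exact zero_mem _
    simp only [dif_pos hb]
    exact huniq _ _ _ (by rw [sub_self]; exact zero_mem _)

end Groth.Agent.HilbLoc
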