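import Groth.Agent.IdealSh.IdealMod
import Groth.Agent.CohAff.ResOps

/-!
# Morphisms of modules from maps on affine sections
-/

set_option autoImplicit false

universe u

open CategoryTheory CategoryTheory.Limits AlgebraicGeometry TopologicalSpace Opposite

namespace Groth.Agent.HilbLoc

local notation "rs" => Groth.Agent.QCoh.res

variable {X : Scheme.{u}} {M N : X.Modules}

/-- Morphisms of modules may be given on affine opens. -/
theorem exists_hom_of_affine (f : ∀ U : X.affineOpens, Γ(M, U.1) →+ Γ(N, U.1))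
    (hsmul : ∀ (U : X.affineOpens) (r : Γ(X, U.1)) s, f U (r • s) = r • f U s)
    (hnat : ∀ (U U' : X.affineOpens) (h : U'.1 ≤ U.1) s, rs N h (f U s) = f U' (rs M h s)) :
    ∃ ψ : M ⟶ N, ∀ (U : X.affineOpens) s, ψ.app U.1 s = f U s := by
  have key : ∀ (V : X.Opens) (s : Γ(M, V)), ∃ t : Γ(N, V), ∀ W : {W : X.affineOpens // W.1 ≤ V},
      rs N W.2 t = f W.1 (rs M W.2 s) := by
    intro V s
    refine QCoh.exists_glue N (fun W : {W : X.affineOpens // W.1 ≤ V} => W.2)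
      (CohAff.le_iSup_affine_le V) (fun W => f W.1 (rs M W.2 s)) fun W W' => ?_
    refine QCoh.eq_of_locally_eq N (fun A : {A : X.affineOpens // A.1 ≤ W.1.1 ⊓ W'.1.1} => A.2)
      (CohAff.le_iSup_affine_le _) _ _ fun A => ?_
    rw [QCoh.res_res, QCoh.res_res, hnat W.1 A.1 (A.2.trans inf_le_left),
      hnat W'.1 A.1 (A.2.trans inf_le_right), QCoh.res_res, QCoh.res_res]
  choose g hg using key
  have huniq : ∀ (V : X.Opens) (s : Γ(M, V)) (t : Γ(N, V)),
      (∀ W : {W : X.affineOpens // W.1 ≤ V}, rs N W.2 t = f W.1 (rs M W.2 s)) → g V s = t := fun V s t ht =>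
    QCoh.eq_of_locally_eq N (fun W : {W : X.affineOpens // W.1 ≤ V} => W.2)
      (CohAff.le_iSup_affine_le V) _ _ fun W => (hg V s W).trans (ht W).symm
  have gadd : ∀ (V : X.Opens) (a b : Γ(M, V)), g V (a + b) = g V a + g V b := fun V a b =>
    huniq _ _ _ fun W => by rw [map_add, map_add, map_add, hg, hg]
  let app : ∀ V : (Opens X)ᵒᵖ, M.presheaf.obj V ⟶ N.presheaf.obj V := fun V =>
    AddCommGrpCat.ofHom (AddMonoidHom.mk' (g V.unop) (gadd V.unop))
  refine ⟨⟨PresheafOfModules.homMk { app := app, naturality := ?_ } ?_⟩, fun U s => ?_⟩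
  · intro V V' i
    ext s
    refine huniq V'.unop _ _ fun W => ?_
    have h1 := hg V.unop s ⟨W.1, W.2.trans i.unop.le⟩
    have e1 : ∀ t : Γ(N, V.unop), rs N W.2 (rs N i.unop.le t) = rs N (W.2.trans i.unop.le) t :=
      fun t => QCoh.res_res N _ _ t
    have e2 : ∀ t : Γ(M, V.unop), rs M W.2 (rs M i.unop.le t) = rs M (W.2.trans i.unop.le) t :=
      fun t => QCoh.res_res M _ _ t
    change rs N W.2 (rs N i.unop.le (g V.unop s)) = f W.1 (rs M W.2 (rs M i.unop.le s))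
    rw [e1, e2, h1]
  · intro V r s
    have gsmul : ∀ (V : X.Opens) (r : Γ(X, V)) (s : Γ(M, V)), g V (r • s) = r • g V s := fun V r s =>
      huniq V (r • s) (r • g V s) fun W => by rw [QCoh.res_smul, QCoh.res_smul, hsmul, hg]
    exact gsmul V.unop r s
  · refine huniq U.1 s (f U s) fun W => hnat U W.1 W.2 s

variable (I₀ : X.IdealSheafData)

open Groth.Agent.Omega.Stalks OmegaSh

/-- Functions modulo an ideal sheaf as sections of `O_Z`. -/
noncomputable def bar (U : X.affineOpens) : Γ(X, U.1) ⧸ I₀.ideal U →+* Γ(I₀.subscheme, I₀.subschemeι ⁻¹ᵁ U.1) :=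
  Ideal.Quotient.lift _ (I₀.subschemeι.app U.1).hom fun a ha => (IdealSh.IdealMod.mem_ideal_iff I₀ U a).1 ha

lemma bar_injective (U : X.affineOpens) : Function.Injective (bar I₀ U) := by
  refine (injective_iff_map_eq_zero _).2 fun z hz => ?_
  obtain ⟨a, rfl⟩ := Ideal.Quotient.mk_surjective z
  exact Ideal.Quotient.eq_zero_iff_mem.2 ((IdealSh.IdealMod.mem_ideal_iff I₀ U a).2 hz)

/-- A morphism `I → O/I` from its values on affine opens. -/
theorem exists_hom_ideal_quot (δ : ∀ U : X.affineOpens, I₀.ideal U → Γ(X, U.1) ⧸ I₀.ideal U)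
    (hadd : ∀ U a b, δ U (a + b) = δ U a + δ U b)
    (hsmul : ∀ U (r : Γ(X, U.1)) a, δ U (r • a) = Ideal.Quotient.mk _ r * δ U a)
    (hnat : ∀ (U U' : X.affineOpens) (h : U'.1 ≤ U.1) (a : I₀.ideal U) (a' : I₀.ideal U'),
      X.presheaf.map (homOfLE h).op (a : Γ(X, U.1)) = a' → ∀ c, δ U a = Ideal.Quotient.mk _ c →
        δ U' a' = Ideal.Quotient.mk _ (X.presheaf.map (homOfLE h).op c)) :
    ∃ ψ : ClSub.idealMod I₀ ⟶ ClSub.quotMod I₀, ∀ (U : X.affineOpens) (s : Γ(ClSub.idealMod I₀, U.1)),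
      ψ.app U.1 s = bar I₀ U (δ U ⟨idealSect I₀ U.1 s, IdealSh.IdealMod.sect_mem I₀ U s⟩) := by
  refine exists_hom_of_affine (M := ClSub.idealMod I₀) (N := ClSub.quotMod I₀) (fun U => AddMonoidHom.mk'
    (fun s => bar I₀ U (δ U ⟨idealSect I₀ U.1 s, IdealSh.IdealMod.sect_mem I₀ U s⟩)) fun a b => ?_)
    (fun U r s => ?_) (fun U U' h s => ?_)
  · refine Eq.trans ?_ (map_add (bar I₀ U) _ _)
    rw [← hadd]
    exact congrArg (bar I₀ U ∘ δ U) (Subtype.ext (map_add (idealSect I₀ U.1) a b))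
  · change bar I₀ U _ = (I₀.subschemeι.app U.1).hom r * bar I₀ U _
    rw [show (I₀.subschemeι.app U.1).hom r = bar I₀ U (Ideal.Quotient.mk _ r) from rfl, ← map_mul, ← hsmul]
    exact congrArg (bar I₀ U ∘ δ U) (Subtype.ext (idealSect_smul I₀ U.1 r s))
  · obtain ⟨c, hc⟩ := Ideal.Quotient.mk_surjective (δ U ⟨idealSect I₀ U.1 s, IdealSh.IdealMod.sect_mem I₀ U s⟩)
    change I₀.subscheme.presheaf.map _ (bar I₀ U (δ U _)) = bar I₀ U' (δ U' _)
    rw [hnat U U' h ⟨idealSect I₀ U.1 s, IdealSh.IdealMod.sect_mem I₀ U s⟩ _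
      (idealSect_map I₀ (homOfLE h) s).symm c hc.symm, ← hc]
    exact congr($((I₀.subschemeι.naturality (homOfLE h).op)) c).symm

end Groth.Agent.HilbLoc
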