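import Groth.Agent.HilbLoc.Moduli
import Groth.Agent.HilbLoc.ModuliDim
import Groth.Agent.HilbLoc.Tangent
import Groth.Agent.HilbLoc.FinDim
import Groth.Agent.ProjProper.Basic

/-!
# Cotangent space and regularity of a Hilbert scheme at a rational point
-/

set_option autoImplicit false

universe u

open CategoryTheory CategoryTheory.Limits AlgebraicGeometry IsLocalRing

noncomputable section

namespace Groth.Agent.HilbLoc.Moduli

open ArtFun ArtFun.Art Groth.Agent.ArtFunLib

variable {k : Type u} [Field k] {H : Over (Spec (CommRingCat.of k))}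
  (h : Over.mk (𝟙 (Spec (CommRingCat.of k))) ⟶ H)

attribute [local instance] algO

variable {Y : Scheme.{u}} {y : Y ⟶ Spec (CommRingCat.of k)} [IsProper y] {Z : FGA.HilbSet y H}
  (hH : FGA.HilbRepresentedBy y H Z) {X : Scheme.{u}} [X.Over (Spec (CommRingCat.of k))] {i : X ⟶ Y}
  [IsClosedImmersion i] (hi : i ≫ y = X ↘ Spec (CommRingCat.of k))
  (hh : FGA.hilbPull y h Z.1 = i.ker.comap (pullback.fst y (Over.mk (𝟙 (Spec (CommRingCat.of k)))).hom))

include hH hi hh in
/-- The cotangent space of the Hilbert scheme and the global sections of the normal sheaf. -/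
theorem finrank_cotangent [DCoh.HasSheafHom (Omega.conormal i)] :
    Module.finrank (ResidueField (O h)) (CotangentSpace (O h)) =
      Module.finrank k (Coh.HH X ((DCoh.sheafHom (Omega.conormal i)).obj (Coh.structureModule X)) 0) := by
  haveI : IsLocallyNoetherian H.left := hH.1
  haveI : IsNoetherianRing (O h) := inferInstance
  have hH0 := Groth.Agent.HilbLoc.h0_localHilb y i.ker
  have heps : Heps (localHilb Y y i.ker) := fun _ _ _ _ h =>
    Groth.Agent.HilbLoc.cmp_bijective_localHilb h fun c => (dual k k).res_surjective c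
  obtain ⟨T⟩ := nonempty_tangentStr (localHilb Y y i.ker) hH0 heps
  letI := T
  have h0R : H0 (hR (O h) (resO h)) := h0_hR _ _
  have hepsR : Heps (hR (O h) (resO h)) := fun _ _ _ _ h => isLeftExact_hR _ _ _ _ _ _ h
  obtain ⟨TR⟩ := nonempty_tangentStr (hR (O h) (resO h)) h0R hepsR
  letI := TR
  obtain ⟨l, hl⟩ := exists_tangentLinear h0R hepsR (toLocalHilb h y Z i.ker hh)
  have hlb : Function.Bijective l := by
    rw [show (l : TangentSpace (hR (O h) (resO h)) → TangentSpace (localHilb Y y i.ker)) =
      (toLocalHilb h y Z i.ker hh).app (dual k k) from funext hl]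
    exact bijective_toLocalHilb h y Z i.ker hh hH _
  obtain ⟨e⟩ := nonempty_tangent_linearEquiv i hi.symm (I₀ := i.ker) rfl
  rw [← ModuliDim.finrank_tangentSpace_hR (resO h) (mem_maximalIdeal_O h)]
  exact ((LinearEquiv.ofBijective l hlb).trans e).finrank_eq

include hH hh in
/-- The Hilbert scheme is regular at a point with smooth local Hilbert functor. -/
theorem regular_of_smooth (hsm : IsSmoothFunctor (localHilb Y y i.ker)) :
    IsRegularLocalRing (O h) ∧
      ringKrullDim (O h) = (Module.finrank (ResidueField (O h)) (CotangentSpace (O h)) : WithBot ℕ∞) := by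
  haveI : IsLocallyNoetherian H.left := hH.1
  refine ModuliDim.regular_of_smooth (resO h) (mem_maximalIdeal_O h) ?_
  intro B A μ hμ φ
  obtain ⟨v, hv⟩ := hsm μ hμ ((toLocalHilb h y Z i.ker hh).app A φ)
  obtain ⟨ψ, rfl⟩ := (bijective_toLocalHilb h y Z i.ker hh hH B).2 v
  refine ⟨ψ, (bijective_toLocalHilb h y Z i.ker hh hH A).1 ?_⟩
  rw [(toLocalHilb h y Z i.ker hh).natural]
  exact hv

end Groth.Agent.HilbLoc.Moduli
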