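import Groth.Agent.HilbLoc.Proj
import Groth.Agent.HilbLoc.ModHom
import Groth.Prelude.Def_Omega4
import Mathlib.Algebra.Homology.DerivedCategory.Ext.ExactSequences

/-!
# Lifting along a small extension when `Ext¹(I, O/I)` vanishes
-/

set_option autoImplicit false

universe u

open CategoryTheory AlgebraicGeometry IsLocalRing Limits TopologicalSpace OmegaSh
open Groth.Agent.Omega.Stalks

noncomputable section

namespace Groth.Agent.HilbLoc

open ArtFun ArtFun.Art DefSchLib

variable {k : Type u} [Field k] {X : Scheme.{u}}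

/-- Quotient functions as sections of `O/I` on an affine open: surjectivity. -/
lemma bar_surjective (I₀ : X.IdealSheafData) (U : X.affineOpens) : Function.Surjective (bar I₀ U) := fun t => by
  obtain ⟨a, rfl⟩ := I₀.subschemeι_app_surjective U t
  exact ⟨Ideal.Quotient.mk _ a, rfl⟩

lemma rs_bar (I₀ : X.IdealSheafData) {U U' : X.affineOpens} (h : U'.1 ≤ U.1) (c : Γ(X, U.1)) :
    QCoh.res (ClSub.quotMod I₀) h (bar I₀ U (Ideal.Quotient.mk _ c)) =
      bar I₀ U' (Ideal.Quotient.mk _ (res h c)) :=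
  congr($((I₀.subschemeι.naturality (homOfLE h).op)) c).symm

lemma exists_sect' (I₀ : X.IdealSheafData) (U : X.affineOpens) {t : Γ(X, U.1)} (h : t ∈ I₀.ideal U) :
    ∃ s : Γ(ClSub.idealMod I₀, U.1), idealSect I₀ U.1 s = t :=
  IdealSh.IdealMod.exists_sect I₀ U.1 t ((IdealSh.IdealMod.mem_ideal_iff I₀ U t).1 h)

variable (x : X ⟶ specPt k) {I₀ : X.IdealSheafData}

/-- The ideal of a deformation, pushed to `X`. -/
abbrev idMod {A : Art k k} (I : (XA x A).IdealSheafData) : X.Modules :=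
  (Scheme.Modules.pushforward (pullback.fst x (specOver A))).obj (ClSub.idealMod I)

/-- An element of the pushed ideal as a function on a chart. -/
def chartSect {A : Art k k} (I : (XA x A).IdealSheafData) (U : X.affineOpens) : Γ(idMod x I, U.1) →+ R x A U :=
  idealSect I (pre x A U).1

lemma chartSect_mem {A : Art k k} (I : (XA x A).IdealSheafData) (U : X.affineOpens) (s : Γ(idMod x I, U.1)) :
    chartSect x I U s ∈ idl x I U :=
  IdealSh.IdealMod.sect_mem I (pre x A U) s

lemma exists_chartSect {A : Art k k} (I : (XA x A).IdealSheafData) (U : X.affineOpens) {w : R x A U}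
    (h : w ∈ idl x I U) : ∃ s, chartSect x I U s = w :=
  exists_sect' I (pre x A U) h

lemma chartSect_smul {A : Art k k} (I : (XA x A).IdealSheafData) (U : X.affineOpens) (r : Γ(X, U.1))
    (s : Γ(idMod x I, U.1)) : chartSect x I U (r • s) = sA x A U r * chartSect x I U s :=
  idealSect_smul I (pre x A U).1 (sA x A U r) s

lemma chartSect_res {A : Art k k} (I : (XA x A).IdealSheafData) {U U' : X.affineOpens} (h : U'.1 ≤ U.1)
    (s : Γ(idMod x I, U.1)) :
    chartSect x I U' (QCoh.res (idMod x I) h s) = rres x A h (chartSect x I U s) :=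
  idealSect_map I (homOfLE ((pullback.fst x (specOver A)).preimage_mono h)) s

lemma chartSect_injective {A : Art k k} (I : (XA x A).IdealSheafData) (U : X.affineOpens) :
    Function.Injective (chartSect x I U) :=
  idealSect_injective I (pre x A U).1

variable {x}

/-- The closed fibre map on ideals. -/
theorem exists_fibreHom {A : Art k k} (IA : (localHilb X x I₀).obj A) :
    ∃ q : idMod x IA.1 ⟶ ClSub.idealMod I₀, Epi q ∧ ∀ (U : X.affineOpens) s,
      idealSect I₀ U.1 (q.app U.1 s) = res₀ x A U (chartSect x IA.1 U s) := by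
  have hmem : ∀ (U : X.affineOpens) (s : Γ(idMod x IA.1, U.1)),
      res₀ x A U (chartSect x IA.1 U s) ∈ I₀.ideal U := fun U s => by
    rw [← map_res₀_elt IA U]; exact Ideal.mem_map_of_mem _ (chartSect_mem x IA.1 U s)
  choose f hf using fun (U : X.affineOpens) (s : Γ(idMod x IA.1, U.1)) => exists_sect' I₀ U (hmem U s)
  have hadd : ∀ U (a b : Γ(idMod x IA.1, U.1)), f U (a + b) = f U a + f U b := fun U a b =>
    idealSect_injective I₀ U.1 (by rw [map_add, hf, hf, hf, map_add, map_add])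
  obtain ⟨q, hq⟩ := exists_hom_of_affine (M := idMod x IA.1) (N := ClSub.idealMod I₀)
    (fun U => AddMonoidHom.mk' (f U) (hadd U))
    (fun U r s => idealSect_injective I₀ U.1 (by
      change idealSect I₀ U.1 (f U (r • s)) = idealSect I₀ U.1 (r • f U s)
      rw [idealSect_smul, hf, hf, chartSect_smul, map_mul, res₀_sA]))
    (fun U U' h s => idealSect_injective I₀ U'.1 (by
      change idealSect I₀ U'.1 ((ClSub.idealMod I₀).presheaf.map (homOfLE h).op (f U s)) =
        idealSect I₀ U'.1 (f U' _)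
      rw [idealSect_map, hf, hf, chartSect_res, res₀_rres]))
  refine ⟨q, CohAff.epi_of_affine_surjective q fun V hV => ?_, fun U s => by rw [hq]; exact hf U s⟩
  intro t
  let U : X.affineOpens := ⟨V, hV⟩
  have ht : idealSect I₀ U.1 t ∈ I₀.ideal U := IdealSh.IdealMod.sect_mem I₀ U t
  rw [← map_res₀_elt IA U, Ideal.mem_map_iff_of_surjective _ (res₀_surjective x A U)] at ht
  obtain ⟨w, hw, hwt⟩ := ht
  obtain ⟨s, rfl⟩ := exists_chartSect x IA.1 U hw
  refine ⟨s, idealSect_injective I₀ U.1 ?_⟩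
  change idealSect I₀ U.1 (q.app U.1 s) = _
  rw [hq]
  exact (hf U s).trans hwt

variable {B A : Art k k} {p : B ⟶ A} {ε : B} (S : Step p ε) (IA : (localHilb X x I₀).obj A)

/-- The preimage of a deformation. -/
abbrev J (p : B ⟶ A) (IA : (localHilb X x I₀).obj A) (U : X.affineOpens) : Ideal (R x B U) :=
  (idl x IA.1 U).comap (rm x p U)

/-- The products of the maximal ideal with the preimage. -/
abbrev mJ (p : B ⟶ A) (IA : (localHilb X x I₀).obj A) (U : X.affineOpens) : Ideal (R x B U) :=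
  (maximalIdeal (B : Type u)).map (φ x B U) * J p IA U

include S

lemma res₀_mem_of_J {U : X.affineOpens} {z : R x B U} (hz : z ∈ J p IA U) :
    res₀ x B U z ∈ I₀.ideal U := by
  rw [← res₀_rm x p, ← map_res₀_elt IA U]
  exact Ideal.mem_map_of_mem _ hz

/-- Well-definedness of the obstruction cocycle. -/
lemma proj_mem {U : X.affineOpens} (Λ : R x B U →+ Γ(X, U.1)) (hΛ : ∀ a, Λ (e x ε U a) = a) {d : R x B U}
    (hd : d ∈ mJ p IA U) (hd' : rm x p U d = 0) : Λ d ∈ I₀.ideal U := by
  have hs := rm_surjective_ker x p S.surj U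
  obtain ⟨j, hj, rfl⟩ := exists_mul_eq p.toAlgHom.toRingHom (φ x B U) (φ x A U) (rm x p U) S.surj S.ker
    S.kill hs.1 (fun b => rm_φ x p U b) (S.ker_rm x U) (flat_φ x B U) _ (flat_elt IA U) hd
    (by rw [← S.ker_rm x]; exact hd')
  rw [S.mul_eq_e x, hΛ]
  exact res₀_mem_of_J S IA hj

lemma exists_lift_kernel {U : X.affineOpens} {w : R x A U} (hw : w ∈ idl x IA.1 U) (h0 : res₀ x A U w = 0) :
    ∃ z ∈ mJ p IA U, rm x p U z = w := by
  have hs := rm_surjective_ker x p S.surj U
  obtain ⟨z, rfl⟩ := hs.1 w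
  have hz : z ∈ (maximalIdeal (B : Type u)).map (φ x B U) := by
    rw [← ker_res₀, RingHom.mem_ker, ← res₀_rm x p]; exact h0
  have h1 := mem_sup_of_mem p.toAlgHom.toRingHom (φ x B U) (φ x A U) (rm x p U) S.surj S.ker
    S.kill hs.1 (fun b => rm_φ x p U b) (S.ker_rm x U) _ (flat_elt IA U) (z := z) hw hz
  obtain ⟨m, hm, t, ht, rfl⟩ := Submodule.mem_sup.1 h1
  refine ⟨m, hm, ?_⟩
  rw [← S.ker_rm x] at ht
  rw [map_add, RingHom.mem_ker.1 ht, add_zero]

/-- A retraction onto `O/I₀` gives a lift, the kernel of the retraction. -/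
theorem exists_lift_of_retraction' (r : ∀ U : X.affineOpens, R x B U → Γ(X, U.1) ⧸ I₀.ideal U)
    (hadd : ∀ U z z', z ∈ J p IA U → z' ∈ J p IA U → r U (z + z') = r U z + r U z')
    (hmul : ∀ U w z, z ∈ J p IA U → r U (w * z) = Ideal.Quotient.mk _ (res₀ x B U w) * r U z)
    (he : ∀ U a, r U (e x ε U a) = Ideal.Quotient.mk _ a)
    (hnat : ∀ (U U' : X.affineOpens) (h : U'.1 ≤ U.1) z, z ∈ J p IA U → ∀ c, r U z = Ideal.Quotient.mk _ c →
      r U' (rres x B h z) = Ideal.Quotient.mk _ (res h c)) :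
    ∃ I : (localHilb X x I₀).obj B, (localHilb X x I₀).map p I = IA ∧
      ∀ U z, z ∈ idl x I.1 U ↔ z ∈ J p IA U ∧ r U z = 0 := by
  have he0 : ∀ U (a : Γ(X, U.1)), e x ε U a ∈ J p IA U := fun U a => by
    rw [Ideal.mem_comap, S.rm_e x]; exact zero_mem _
  let K : ∀ U, Ideal (R x B U) := fun U =>
    { carrier := {z | z ∈ J p IA U ∧ r U z = 0}
      add_mem' := fun {a b} ha hb => ⟨add_mem ha.1 hb.1, by rw [hadd U a b ha.1 hb.1, ha.2, hb.2, add_zero]⟩
      zero_mem' := ⟨zero_mem _, by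
        have := hmul U 0 (e x ε U 0) (he0 U 0)
        rwa [zero_mul, map_zero, map_zero, zero_mul] at this⟩
      smul_mem' := fun c z hz => ⟨Ideal.mul_mem_left _ _ hz.1, by rw [smul_eq_mul, hmul U c z hz.1, hz.2, mul_zero]⟩ }
  have hres : ∀ {U U' : X.affineOpens} (h : U'.1 ≤ U.1) {z}, z ∈ J p IA U → rres x B h z ∈ J p IA U' := by
    intro U U' h z hz
    rw [Ideal.mem_comap, rm_rres]
    exact (compat_idl x IA.1).1 U U' h (Ideal.mem_map_of_mem _ hz)
  have hKc : Compat x B K := by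
    refine ⟨fun U U' h => Ideal.map_le_iff_le_comap.2 fun z hz => ?_, fun U F z hz => ?_⟩
    · obtain ⟨c, hc⟩ := Ideal.Quotient.mk_surjective (r U z)
      refine ⟨hres h hz.1, ?_⟩
      rw [hnat U U' h z hz.1 c hc.symm, Ideal.Quotient.eq_zero_iff_mem]
      exact I₀.ideal_le_comap_ideal (U := U') (V := U) h (Ideal.Quotient.eq_zero_iff_mem.1 (hc.trans hz.2))
    · obtain ⟨n, hn⟩ : ∃ n : ℕ, F ^ n * z ∈ J p IA U := by
        have h1 := hz.1
        rw [Ideal.mem_comap, rm_rres] at h1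
        have key : ∀ (W : X.affineOpens) (hW : bop x U (rm x p U F) = W) (hle : W.1 ≤ U.1),
            rres x A hle (rm x p U z) ∈ idl x IA.1 W →
              rb x U (rm x p U F) (rm x p U z) ∈ idl x IA.1 (bop x U (rm x p U F)) := by
          rintro W rfl hle h
          exact h
        obtain ⟨n, hn⟩ := (compat_idl x IA.1).2 U (rm x p U F) (rm x p U z)
          (key _ (congrArg X.affineBasicOpen (res₀_rm x p U F)) _ h1)
        exact ⟨n, by rw [Ideal.mem_comap, map_mul, map_pow]; exact hn⟩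
      obtain ⟨c, hc⟩ := Ideal.Quotient.mk_surjective (r U (F ^ n * z))
      have h2 := hnat U _ (bop_le x U F) _ hn c hc.symm
      rw [map_mul, hmul _ _ _ (by exact hz.1), hz.2, mul_zero, eq_comm, Ideal.Quotient.eq_zero_iff_mem] at h2
      change res (bop_le x U F) c ∈ I₀.ideal (X.affineBasicOpen (res₀ x B U F)) at h2
      rw [← I₀.map_ideal_basicOpen U (res₀ x B U F)] at h2
      haveI := U.2.isLocalization_basicOpen (res₀ x B U F)
      obtain ⟨_, ⟨m, rfl⟩, hm⟩ :=
        (IsLocalization.algebraMap_mem_map_algebraMap_iff (Submonoid.powers (res₀ x B U F))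
          Γ(X, X.basicOpen (res₀ x B U F)) _ _).1 h2
      refine ⟨m + n, ?_, ?_⟩
      · rw [pow_add, mul_assoc]; exact Ideal.mul_mem_left _ _ hn
      · rw [pow_add, mul_assoc, hmul U _ _ hn, ← hc, map_pow, ← map_mul, Ideal.Quotient.eq_zero_iff_mem]
        exact hm
  have hKA : ∀ U, (K U).map (rm x p U) = idl x IA.1 U := by
    intro U
    refine le_antisymm (Ideal.map_le_iff_le_comap.2 fun z hz => hz.1) fun w hw => ?_
    obtain ⟨z, rfl⟩ := (rm_surjective_ker x p S.surj U).1 w
    obtain ⟨a, ha⟩ := Ideal.Quotient.mk_surjective (r U z)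
    have hzJ : z ∈ J p IA U := hw
    have h1 : z - e x ε U a ∈ K U := ⟨sub_mem hzJ (he0 U a), by
      have h2 := hadd U (z - e x ε U a) (e x ε U a) (sub_mem hzJ (he0 U a)) (he0 U a)
      rw [sub_add_cancel, he, ha] at h2
      exact left_eq_add.1 (h2.trans (add_comm _ _))⟩
    have := Ideal.mem_map_of_mem (rm x p U) h1
    rwa [map_sub, S.rm_e x, sub_zero] at this
  obtain ⟨I, hI, hI'⟩ := S.exists_lift IA K hKc hKA fun U a ha => by
    have h1 := ha.2
    rwa [he, Ideal.Quotient.eq_zero_iff_mem] at h1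
  exact ⟨I, hI, fun U z => by rw [hI']; rfl⟩

/-- A retraction onto `O/I₀` gives a lift. -/
theorem exists_lift_of_retraction (r : ∀ U : X.affineOpens, R x B U → Γ(X, U.1) ⧸ I₀.ideal U)
    (hadd : ∀ U z z', z ∈ J p IA U → z' ∈ J p IA U → r U (z + z') = r U z + r U z')
    (hmul : ∀ U w z, z ∈ J p IA U → r U (w * z) = Ideal.Quotient.mk _ (res₀ x B U w) * r U z)
    (he : ∀ U a, r U (e x ε U a) = Ideal.Quotient.mk _ a)
    (hnat : ∀ (U U' : X.affineOpens) (h : U'.1 ≤ U.1) z, z ∈ J p IA U → ∀ c, r U z = Ideal.Quotient.mk _ c →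
      r U' (rres x B h z) = Ideal.Quotient.mk _ (res h c)) :
    ∃ I : (localHilb X x I₀).obj B, (localHilb X x I₀).map p I = IA :=
  let ⟨I, hI, _⟩ := exists_lift_of_retraction' S IA r hadd hmul he hnat
  ⟨I, hI⟩

/-- The obstruction morphism for given projections and closed fibre map. -/
theorem exists_obstruction_proj (Λ : ∀ U, R x B U →+ Γ(X, U.1)) (hΛe : ∀ U a, Λ U (e x ε U a) = a)
    (hΛs : ∀ U a z, Λ U (sA x B U a * z) = a * Λ U z)
    (hΛn : ∀ (U U' : X.affineOpens) (h : U'.1 ≤ U.1) z, Λ U' (rres x B h z) = res h (Λ U z))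
    (q : idMod x IA.1 ⟶ ClSub.idealMod I₀) (hq : ∀ (U : X.affineOpens) s,
      idealSect I₀ U.1 (q.app U.1 s) = res₀ x A U (chartSect x IA.1 U s)) :
    ∃ η : kernel q ⟶ ClSub.quotMod I₀,
      (∀ (U : X.affineOpens) (s : Γ(kernel q, U.1)) z, z ∈ mJ p IA U →
        rm x p U z = chartSect x IA.1 U ((kernel.ι q).app U.1 s) →
          η.app U.1 s = bar I₀ U (Ideal.Quotient.mk _ (Λ U z))) ∧
      (∀ δ, kernel.ι q ≫ δ = η → ∃ I : (localHilb X x I₀).obj B, (localHilb X x I₀).map p I = IA) ∧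
      ∀ (U : X.affineOpens) (r : R x B U → Γ(X, U.1) ⧸ I₀.ideal U),
        (∀ z z', z ∈ J p IA U → z' ∈ J p IA U → r (z + z') = r z + r z') →
        (∀ w z, z ∈ J p IA U → r (w * z) = Ideal.Quotient.mk _ (res₀ x B U w) * r z) →
        (∀ a, r (e x ε U a) = Ideal.Quotient.mk _ a) →
        ∃ δ : Γ(idMod x IA.1, U.1) →ₗ[Γ(X, U.1)] Γ(ClSub.quotMod I₀, U.1),
          ∀ t, δ ((kernel.ι q).app U.1 t) = η.app U.1 t := by
  let K := kernel q
  have hker : ∀ (U : X.affineOpens) (s : Γ(K, U.1)),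
      ∃ z ∈ mJ p IA U, rm x p U z = chartSect x IA.1 U ((kernel.ι q).app U.1 s) := by
    intro U s
    refine exists_lift_kernel S IA (chartSect_mem x IA.1 U _) ?_
    rw [← hq]
    have h0 := congr($(congrArg (fun ψ => Scheme.Modules.Hom.app ψ U.1) (kernel.condition q)) s)
    exact (congrArg (idealSect I₀ U.1) h0).trans (map_zero _)
  choose lz hlz hlz' using hker
  have huniq : ∀ (U : X.affineOpens) (s : Γ(K, U.1)) (z : R x B U), z ∈ mJ p IA U →
      rm x p U z = chartSect x IA.1 U ((kernel.ι q).app U.1 s) →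
        Ideal.Quotient.mk (I₀.ideal U) (Λ U (lz U s)) = Ideal.Quotient.mk _ (Λ U z) := by
    intro U s z hz hz'
    rw [Ideal.Quotient.eq, ← map_sub]
    exact proj_mem S IA (Λ U) (hΛe U) (sub_mem (hlz U s) hz) (by rw [map_sub, hlz', hz', sub_self])
  let g : ∀ U : X.affineOpens, Γ(K, U.1) → Γ(ClSub.quotMod I₀, U.1) :=
    fun U s => bar I₀ U (Ideal.Quotient.mk _ (Λ U (lz U s)))
  have gadd : ∀ U (a b : Γ(K, U.1)), g U (a + b) = g U a + g U b := by
    intro U a b
    change bar I₀ U _ = bar I₀ U _ + bar I₀ U _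
    rw [← map_add, ← map_add, ← map_add, huniq U (a + b) (lz U a + lz U b) (add_mem (hlz U a) (hlz U b))
      (by rw [map_add, hlz', hlz', map_add, map_add])]
  obtain ⟨η, hη⟩ := exists_hom_of_affine (M := K) (N := ClSub.quotMod I₀)
    (fun U => AddMonoidHom.mk' (g U) (gadd U))
    (fun U r s => by
      change bar I₀ U (Ideal.Quotient.mk (I₀.ideal U) (Λ U (lz U (r • s)))) =
        (I₀.subschemeι.app U.1).hom r * bar I₀ U (Ideal.Quotient.mk (I₀.ideal U) (Λ U (lz U s)))
      rw [show (I₀.subschemeι.app U.1).hom r = bar I₀ U (Ideal.Quotient.mk _ r) from rfl, ← map_mul, ← map_mul,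
        huniq U (r • s) (sA x B U r * lz U s) (Ideal.mul_mem_left _ _ (hlz U s))
          (by rw [map_mul, rm_sA, hlz', Scheme.Modules.Hom.app_smul, chartSect_smul]), hΛs])
    (fun U U' h s => by
      change QCoh.res (ClSub.quotMod I₀) h (bar I₀ U (Ideal.Quotient.mk (I₀.ideal U) (Λ U (lz U s)))) =
        bar I₀ U' (Ideal.Quotient.mk (I₀.ideal U') (Λ U' (lz U' (QCoh.res K h s))))
      rw [rs_bar, huniq U' (QCoh.res K h s) (rres x B h (lz U s)) ?_ ?_, hΛn]
      · refine SetLike.le_def.1 ?_ (Ideal.mem_map_of_mem _ (hlz U s))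
        rw [Ideal.map_mul, Ideal.map_map]
        refine Ideal.mul_mono (le_of_eq ?_) (Ideal.map_le_iff_le_comap.2 fun z hz => ?_)
        · congr 1
          exact RingHom.ext fun b => rres_φ x B h b
        · rw [Ideal.mem_comap, Ideal.mem_comap, rm_rres]
          exact (compat_idl x IA.1).1 U U' h (Ideal.mem_map_of_mem _ hz)
      · rw [rm_rres, hlz', QCoh.app_res, chartSect_res])
  refine ⟨η, fun U s z hz hz' => by rw [hη]; exact congrArg (bar I₀ U) (huniq U s z hz hz'), fun δ hδ => ?_,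
    fun U r hra hrm hre => ?_⟩
  swap
  · have hpre : ∀ s : Γ(idMod x IA.1, U.1), ∃ z ∈ J p IA U, rm x p U z = chartSect x IA.1 U s := fun s => by
      obtain ⟨z, hz⟩ := (rm_surjective_ker x p S.surj U).1 (chartSect x IA.1 U s)
      exact ⟨z, by rw [Ideal.mem_comap, hz]; exact chartSect_mem x IA.1 U s, hz⟩
    choose zz hzJ hzz using hpre
    have hind : ∀ (s : Γ(idMod x IA.1, U.1)) z, z ∈ J p IA U → rm x p U z = chartSect x IA.1 U s →
        bar I₀ U (Ideal.Quotient.mk _ (Λ U (zz s)) - r (zz s)) = bar I₀ U (Ideal.Quotient.mk _ (Λ U z) - r z) := by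
      intro s z hz hz'
      obtain ⟨a, ha⟩ := S.exists_e x (z := zz s - z) (by rw [map_sub, hzz, hz', sub_self])
      have he0 : e x ε U a ∈ J p IA U := by rw [Ideal.mem_comap, S.rm_e x]; exact zero_mem _
      rw [show zz s = e x ε U a + z by rw [ha, sub_add_cancel], hra _ _ he0 hz, hre, map_add, hΛe, map_add]
      congr 1
      ring
    refine ⟨{ toFun := fun s => bar I₀ U (Ideal.Quotient.mk _ (Λ U (zz s)) - r (zz s))
              map_add' := fun s s' => ?_
              map_smul' := fun c s => ?_ }, fun t => ?_⟩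
    · rw [hind (s + s') (zz s + zz s') (add_mem (hzJ s) (hzJ s')) (by rw [map_add, hzz, hzz, map_add]),
        hra _ _ (hzJ s) (hzJ s'), map_add, map_add]
      refine Eq.trans ?_ (map_add (bar I₀ U) _ _)
      congr 1
      ring
    · rw [RingHom.id_apply, hind (c • s) (sA x B U c * zz s) (Ideal.mul_mem_left _ _ (hzJ s))
          (by rw [map_mul, rm_sA, hzz, chartSect_smul]), hrm _ _ (hzJ s), hΛs, res₀_sA, map_mul, ← mul_sub,
        map_mul (bar I₀ U)]
      rfl
    · change bar I₀ U _ = _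
      have hlJ : ∀ {z : R x B U}, z ∈ mJ p IA U → z ∈ J p IA U ∧ r z = 0 := fun {z} hz => by
        refine Submodule.mul_induction_on hz (fun μ hμ w hw => ⟨Ideal.mul_mem_left _ μ hw, ?_⟩)
          (fun a b ha hb => ⟨add_mem ha.1 hb.1, by rw [hra _ _ ha.1 hb.1, ha.2, hb.2, add_zero]⟩)
        rw [hrm _ _ hw, RingHom.mem_ker.1 (show μ ∈ RingHom.ker (res₀ x B U) by rw [ker_res₀]; exact hμ),
          map_zero, zero_mul]
      rw [hind _ (lz U t) (hlJ (hlz U t)).1 (hlz' U t), (hlJ (hlz U t)).2, sub_zero]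
      exact (hη U t).symm
  have hfun : ∀ (U : X.affineOpens) (w : R x A U), ∃ c : Γ(X, U.1) ⧸ I₀.ideal U,
      ∀ s, chartSect x IA.1 U s = w → bar I₀ U c = δ.app U.1 s := by
    intro U w
    by_cases hw : ∃ s, chartSect x IA.1 U s = w
    · obtain ⟨s, hs⟩ := hw
      obtain ⟨c, hc⟩ := bar_surjective I₀ U (δ.app U.1 s)
      refine ⟨c, fun s' hs' => ?_⟩
      rw [chartSect_injective x IA.1 U (hs'.trans hs.symm), hc]
    · exact ⟨0, fun s hs => absurd ⟨s, hs⟩ hw⟩
  choose D hD using hfun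
  let r : ∀ U : X.affineOpens, R x B U → Γ(X, U.1) ⧸ I₀.ideal U :=
    fun U z => Ideal.Quotient.mk _ (Λ U z) - D U (rm x p U z)
  have hDadd : ∀ U w w', w ∈ idl x IA.1 U → w' ∈ idl x IA.1 U → D U (w + w') = D U w + D U w' := by
    intro U w w' hw hw'
    obtain ⟨s, rfl⟩ := exists_chartSect x IA.1 U hw
    obtain ⟨s', rfl⟩ := exists_chartSect x IA.1 U hw'
    refine bar_injective I₀ U ?_
    rw [hD U _ (s + s') (map_add _ _ _), map_add, map_add]
    exact congrArg₂ (· + ·) (hD U _ s rfl).symm (hD U _ s' rfl).symm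
  have hD0 : ∀ U, D U 0 = 0 := fun U => bar_injective I₀ U (by rw [hD U 0 0 (map_zero _), map_zero, map_zero]; rfl)
  have hradd : ∀ U z z', z ∈ J p IA U → z' ∈ J p IA U → r U (z + z') = r U z + r U z' := by
    intro U z z' hz hz'
    simp only [r, map_add, hDadd U _ _ hz hz']
    ring
  refine exists_lift_of_retraction S IA r hradd ?_ (fun U a => ?_) ?_
  · intro U w z hz
    obtain ⟨s, hs⟩ := exists_chartSect x IA.1 U (show rm x p U z ∈ idl x IA.1 U from hz)
    refine chart_induction (P := fun w => r U (w * z) = Ideal.Quotient.mk _ (res₀ x B U w) * r U z) w ?_ ?_ ?_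
    · simp only [r, zero_mul, map_zero, hD0, sub_zero]
    · intro a b ha hb
      rw [add_mul, hradd U _ _ (Ideal.mul_mem_left _ _ hz) (Ideal.mul_mem_left _ _ hz), ha, hb, map_add, map_add,
        add_mul]
    intro b c
    -- pulled back functions act through `X`
    have hsA : ∀ a, r U (sA x B U a * z) = Ideal.Quotient.mk _ a * r U z := by
      intro a
      have h1 : D U (rm x p U (sA x B U a * z)) = Ideal.Quotient.mk _ a * D U (rm x p U z) := by
        refine bar_injective I₀ U ?_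
        rw [map_mul (bar I₀ U), hD U _ (a • s) (by rw [chartSect_smul, hs, map_mul, rm_sA]),
          hD U _ s hs, Scheme.Modules.Hom.app_smul]
        rfl
      simp only [r]
      rw [h1, hΛs, map_mul]
      ring
    -- the maximal ideal acts by zero
    have hmax : ∀ μ ∈ (maximalIdeal (B : Type u)).map (φ x B U), r U (μ * z) = 0 := by
      intro μ hμ
      have hw : rm x p U (μ * z) ∈ idl x IA.1 U := Ideal.mem_comap.1 (Ideal.mul_mem_left _ μ hz)
      obtain ⟨t, ht⟩ := exists_chartSect x IA.1 U hw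
      have h0 : q.app U.1 t = 0 := idealSect_injective I₀ U.1 (by
        rw [hq, ht, res₀_rm, map_mul, RingHom.mem_ker.1 (show μ ∈ RingHom.ker (res₀ x B U) by rw [ker_res₀]; exact hμ),
          zero_mul, map_zero])
      have hκ := ι_kerLift q U.1 t h0
      have h1 := huniq U (kerLift q U.1 t h0) (μ * z) (Ideal.mul_mem_mul hμ hz) (by rw [hκ]; exact ht.symm)
      have h2 : D U (rm x p U (μ * z)) = Ideal.Quotient.mk _ (Λ U (μ * z)) := by
        refine bar_injective I₀ U ?_
        rw [← h1, hD U _ t ht]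
        refine Eq.trans ?_ (hη U (kerLift q U.1 t h0))
        rw [← hδ]
        exact congrArg (δ.app U.1) hκ.symm
      simp only [r, h2, sub_self]
    have hb : φ x B U b * sA x B U c = sA x B U (str x U.1 (B.res b) * c) +
        φ x B U (b - algebraMap k B (B.res b)) * sA x B U c := by
      rw [map_mul (sA x B U), sA_str, map_sub]; ring
    have hμ : φ x B U (b - algebraMap k B (B.res b)) * sA x B U c ∈ (maximalIdeal (B : Type u)).map (φ x B U) := by
      refine Ideal.mul_mem_right _ _ (Ideal.mem_map_of_mem _ ?_)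
      rw [← ker_resHom, RingHom.mem_ker]
      change B.res _ = 0
      rw [map_sub, res_algebraMap, sub_self]
    rw [hb, add_mul, hradd U _ _ (Ideal.mul_mem_left _ _ hz) (Ideal.mul_mem_left _ _ hz), hsA, hmax _ hμ, add_zero,
      map_add, res₀_sA, RingHom.mem_ker.1 (show _ ∈ RingHom.ker (res₀ x B U) by rw [ker_res₀]; exact hμ), add_zero]
  · simp only [r, S.rm_e x, hD0, sub_zero, hΛe]
  · intro U U' h z hz c hc
    obtain ⟨s, hs⟩ := exists_chartSect x IA.1 U (show rm x p U z ∈ idl x IA.1 U from hz)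
    obtain ⟨d, hd⟩ := Ideal.Quotient.mk_surjective (D U (rm x p U z))
    have h1 : D U' (rm x p U' (rres x B h z)) = Ideal.Quotient.mk _ (res h d) := by
      refine bar_injective I₀ U' ?_
      rw [hD U' _ (QCoh.res (idMod x IA.1) h s) (by rw [chartSect_res, hs, rm_rres]), QCoh.app_res,
        ← hD U _ s hs, ← hd, rs_bar]
    have h2 : Λ U z - d - c ∈ I₀.ideal U := by
      rw [← Ideal.Quotient.eq_zero_iff_mem, map_sub, map_sub, hd, ← hc]
      simp only [r, sub_self]
    simp only [r, h1, hΛn, ← map_sub]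
    rw [Ideal.Quotient.eq]
    have := I₀.ideal_le_comap_ideal (U := U') (V := U) h h2
    rw [Ideal.mem_comap] at this
    simp only [map_sub] at this ⊢
    exact this

/-- The obstruction: a morphism out of the kernel of the closed fibre map; lifts correspond to its extensions. -/
theorem exists_obstruction :
    ∃ (q : idMod x IA.1 ⟶ ClSub.idealMod I₀) (η : kernel q ⟶ ClSub.quotMod I₀), Epi q ∧
      (∀ δ, kernel.ι q ≫ δ = η → ∃ I : (localHilb X x I₀).obj B, (localHilb X x I₀).map p I = IA) ∧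
      ∀ (U : X.affineOpens) (r : R x B U → Γ(X, U.1) ⧸ I₀.ideal U),
        (∀ z z', z ∈ J p IA U → z' ∈ J p IA U → r (z + z') = r z + r z') →
        (∀ w z, z ∈ J p IA U → r (w * z) = Ideal.Quotient.mk _ (res₀ x B U w) * r z) →
        (∀ a, r (e x ε U a) = Ideal.Quotient.mk _ a) →
        ∃ δ : Γ(idMod x IA.1, U.1) →ₗ[Γ(X, U.1)] Γ(ClSub.quotMod I₀, U.1),
          ∀ t, δ ((kernel.ι q).app U.1 t) = η.app U.1 t := by
  obtain ⟨Λ, hΛe, hΛs, hΛn⟩ := exists_projs x S
  obtain ⟨q, hqe, hq⟩ := exists_fibreHom IA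
  obtain ⟨η, -, h1, h2⟩ := exists_obstruction_proj S IA Λ hΛe hΛs hΛn q hq
  exact ⟨q, η, hqe, h1, h2⟩

/-- Lifts exist if `Ext¹(I₀, O/I₀) = 0`. -/
theorem exists_lift_of_subsingleton_ext [HasExt.{u} X.Modules]
    (hext : Subsingleton (Abelian.Ext.{u} (ClSub.idealMod I₀) (ClSub.quotMod I₀) 1)) :
    ∃ I : (localHilb X x I₀).obj B, (localHilb X x I₀).map p I = IA := by
  obtain ⟨q, η, hqe, hlift, -⟩ := exists_obstruction S IA
  haveI := hqe
  have hS : (ShortComplex.mk (kernel.ι q) q (kernel.condition q)).ShortExact :=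
    { exact := ShortComplex.exact_of_f_is_kernel _ (kernelIsKernel q) }
  obtain ⟨x₂, hx₂⟩ := Abelian.Ext.contravariant_sequence_exact₁ hS _ (Abelian.Ext.mk₀ η) (n₁ := 1) rfl
    (hext.elim _ _)
  obtain ⟨δ, rfl⟩ := (Abelian.Ext.mk₀_bijective _ _).2 x₂
  rw [Abelian.Ext.mk₀_comp_mk₀] at hx₂
  exact hlift δ ((Abelian.Ext.mk₀_bijective _ _).1 hx₂)

end Groth.Agent.HilbLoc
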