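import Groth.Agent.HilbLoc.Step
import Groth.Agent.HilbLoc.ModHom

/-!
# Uniqueness of lifts when there are no maps `I → O/I`
-/

set_option autoImplicit false

universe u

open CategoryTheory AlgebraicGeometry IsLocalRing Limits TopologicalSpace OmegaSh
open Groth.Agent.Omega.Stalks

noncomputable section

namespace Groth.Agent.HilbLoc

open ArtFun ArtFun.Art DefSchLib

variable {k : Type u} [Field k] {X : Scheme.{u}} {x : X ⟶ specPt k} {I₀ : X.IdealSheafData}
variable {B A : Art k k} {p : B ⟶ A} {ε : B} (S : Step p ε)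
variable {I I' : (localHilb X x I₀).obj B}
  (h : (localHilb X x I₀).map p I = (localHilb X x I₀).map p I')

/-- The difference of two lifts on a chart. -/
def DiffRel (ε : B) (I I' : (localHilb X x I₀).obj B) (U : X.affineOpens) (y : Γ(X, U.1))
    (c : Γ(X, U.1) ⧸ I₀.ideal U) : Prop :=
  ∃ z ∈ idl x I.1 U, ∃ z' ∈ idl x I'.1 U, ∃ a, res₀ x B U z = y ∧ z' - z = e x ε U a ∧
    c = Ideal.Quotient.mk _ a

include S h

lemma exists_diff (U : X.affineOpens) {y : Γ(X, U.1)} (hy : y ∈ I₀.ideal U) :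
    ∃ c, DiffRel ε I I' U y c := by
  rw [← map_res₀_elt I U, Ideal.mem_map_iff_of_surjective _ (res₀_surjective x B U)] at hy
  obtain ⟨z, hz, rfl⟩ := hy
  have h1 : rm x p U z ∈ (idl x I'.1 U).map (rm x p U) := by
    rw [← idl_map, ← h, idl_map]; exact Ideal.mem_map_of_mem _ hz
  obtain ⟨z', hz', he⟩ := (Ideal.mem_map_iff_of_surjective _ (rm_surjective_ker x p S.surj U).1).1 h1
  obtain ⟨a, ha⟩ := S.exists_e x (z := z' - z) (by rw [map_sub, he, sub_self])
  exact ⟨_, z, hz, z', hz', a, rfl, ha.symm, rfl⟩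

lemma diff_unique {U : X.affineOpens} {y : Γ(X, U.1)} {c c' : Γ(X, U.1) ⧸ I₀.ideal U}
    (hc : DiffRel ε I I' U y c) (hc' : DiffRel ε I I' U y c') : c = c' := by
  obtain ⟨z₁, hz₁, z₁', hz₁', a₁, hy₁, e₁, rfl⟩ := hc
  obtain ⟨z₂, hz₂, z₂', hz₂', a₂, hy₂, e₂, rfl⟩ := hc'
  rw [Ideal.Quotient.eq, ← S.e_mem_iff I', map_sub, ← e₁, ← e₂]
  have hmem : z₁ - z₂ ∈ idl x I'.1 U := by
    refine S.mul_le h U (mem_mul_of_flat_quotient (φ x B U) _ (flat_elt I U) _ (sub_mem hz₁ hz₂) ?_)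
    rw [← ker_res₀, RingHom.mem_ker, map_sub, hy₁, hy₂, sub_self]
  have := sub_mem (sub_mem hz₁' hz₂') hmem
  rw [show (z₁' - z₁) - (z₂' - z₂) = (z₁' - z₂') - (z₁ - z₂) by ring]
  exact this

/-- Two lifts along a small extension agree if there are no maps `I₀ → O/I₀`. -/
theorem eq_of_subsingleton_hom (hsub : Subsingleton (ClSub.idealMod I₀ ⟶ ClSub.quotMod I₀)) : I = I' := by
  choose δ hδ using fun (U : X.affineOpens) (y : I₀.ideal U) => exists_diff S h U y.2
  obtain ⟨ψ, hψ⟩ := exists_hom_ideal_quot I₀ δ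
    (fun U y₁ y₂ => by
      obtain ⟨z₁, hz₁, z₁', hz₁', a₁, hy₁, e₁, c₁⟩ := hδ U y₁
      obtain ⟨z₂, hz₂, z₂', hz₂', a₂, hy₂, e₂, c₂⟩ := hδ U y₂
      refine diff_unique S h (hδ U _) ⟨z₁ + z₂, add_mem hz₁ hz₂, z₁' + z₂', add_mem hz₁' hz₂', a₁ + a₂, ?_, ?_, ?_⟩
      · rw [map_add, hy₁, hy₂, Submodule.coe_add]
      · rw [map_add, ← e₁, ← e₂]; ring
      · rw [c₁, c₂, map_add])
    (fun U r y => by
      obtain ⟨z, hz, z', hz', a, hy, e₁, c₁⟩ := hδ U y
      refine diff_unique S h (hδ U _) ⟨sA x B U r * z, Ideal.mul_mem_left _ _ hz, sA x B U r * z',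
        Ideal.mul_mem_left _ _ hz', r * a, ?_, ?_, ?_⟩
      · rw [map_mul, res₀_sA, hy]; rfl
      · rw [← mul_sub, e₁, S.mul_e x, res₀_sA]
      · rw [c₁, map_mul])
    (fun U U' hle y y' hyy c hc => by
      obtain ⟨z, hz, z', hz', a, hy, e₁, c₁⟩ := hδ U y
      have hin : ∀ J : (localHilb X x I₀).obj B, ∀ w ∈ idl x J.1 U, rres x B hle w ∈ idl x J.1 U' :=
        fun J w hw => (compat_idl x J.1).1 U U' hle (Ideal.mem_map_of_mem _ hw)
      refine diff_unique S h (hδ U' y') ⟨_, hin I z hz, _, hin I' z' hz', res hle a, ?_, ?_, ?_⟩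
      · rw [res₀_rres, hy]; exact hyy
      · rw [← map_sub, e₁, rres_e x S hle]
      · rw [Ideal.Quotient.eq]
        have hca : c - a ∈ I₀.ideal U := Ideal.Quotient.eq.1 (hc.symm.trans c₁)
        have := I₀.ideal_le_comap_ideal (U := U') (V := U) hle hca
        rw [Ideal.mem_comap, map_sub] at this
        exact this)
  have hδ0 : ∀ U (y : I₀.ideal U), δ U y = 0 := by
    intro U y
    obtain ⟨s, hs⟩ := IdealSh.IdealMod.exists_sect I₀ U.1 y.1
      ((IdealSh.IdealMod.mem_ideal_iff I₀ U _).1 y.2)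
    have h0 : ψ = 0 := hsub.elim _ _
    have h1 := hψ U s
    rw [h0] at h1
    have h2 : (⟨idealSect I₀ U.1 s, IdealSh.IdealMod.sect_mem I₀ U s⟩ : I₀.ideal U) = y := Subtype.ext hs
    rw [h2] at h1
    exact bar_injective I₀ U (h1.symm.trans (map_zero (bar I₀ U)).symm)
  refine elt_ext fun U => le_antisymm (fun z hz => ?_) fun z' hz' => ?_
  · have hy : res₀ x B U z ∈ I₀.ideal U := by
      rw [← map_res₀_elt I U]; exact Ideal.mem_map_of_mem _ hz
    have h1 : rm x p U z ∈ (idl x I'.1 U).map (rm x p U) := by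
      rw [← idl_map, ← h, idl_map]; exact Ideal.mem_map_of_mem _ hz
    obtain ⟨z', hz', he⟩ := (Ideal.mem_map_iff_of_surjective _ (rm_surjective_ker x p S.surj U).1).1 h1
    obtain ⟨a, ha⟩ := S.exists_e x (z := z' - z) (by rw [map_sub, he, sub_self])
    have hc := diff_unique S h (hδ U ⟨_, hy⟩) ⟨z, hz, z', hz', a, rfl, ha.symm, rfl⟩
    rw [hδ0] at hc
    have hmem : e x ε U a ∈ idl x I'.1 U := (S.e_mem_iff I' U a).2 (Ideal.Quotient.eq_zero_iff_mem.1 hc.symm)
    rw [ha] at hmem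
    simpa using sub_mem hz' hmem
  · have h1 : rm x p U z' ∈ (idl x I.1 U).map (rm x p U) := by
      rw [← idl_map, h, idl_map]; exact Ideal.mem_map_of_mem _ hz'
    obtain ⟨z, hz, he⟩ := (Ideal.mem_map_iff_of_surjective _ (rm_surjective_ker x p S.surj U).1).1 h1
    obtain ⟨a, ha⟩ := S.exists_e x (z := z' - z) (by rw [map_sub, he, sub_self])
    have hy : res₀ x B U z ∈ I₀.ideal U := by
      rw [← map_res₀_elt I U]; exact Ideal.mem_map_of_mem _ hz
    have hc := diff_unique S h (hδ U ⟨_, hy⟩) ⟨z, hz, z', hz', a, rfl, ha.symm, rfl⟩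
    rw [hδ0] at hc
    have hmem : e x ε U a ∈ idl x I.1 U := (S.e_mem_iff I U a).2 (Ideal.Quotient.eq_zero_iff_mem.1 hc.symm)
    rw [ha] at hmem
    simpa using add_mem hz hmem

omit S h in
/-- Restriction is injective along surjections. -/
theorem map_injective_of_subsingleton_hom (hsub : Subsingleton (ClSub.idealMod I₀ ⟶ ClSub.quotMod I₀))
    {B A : Art k k} (p : B ⟶ A) (hp : Function.Surjective p) :
    Function.Injective ((localHilb X x I₀).map p) := by
  refine ArtFunLib.surjective_induction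
    (P := fun {B A} f => Function.Injective ((localHilb X x I₀).map f)) (fun B A e he => ?_)
    (fun B C A p q hp _ hq => ?_) p hp
  · haveI : IsIso e := ArtFunLib.isIso_of_bijective e he
    intro a b hab
    have := congrArg ((localHilb X x I₀).map (inv e)) hab
    simpa [← FunctorToTypes.map_comp_apply] using this
  · intro a b hab
    rw [FunctorToTypes.map_comp_apply, FunctorToTypes.map_comp_apply] at hab
    obtain ⟨ε, S⟩ := exists_step_of_isSmallExt hp
    exact eq_of_subsingleton_hom S (hq hab) hsub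

end Groth.Agent.HilbLoc
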