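import Groth.Agent.HilbLoc.Obs
import Groth.Agent.HilbLoc.Uniq

/-!
# Translating a lift by a map `I → O/I`
-/

set_option autoImplicit false

universe u

open CategoryTheory AlgebraicGeometry IsLocalRing Limits TopologicalSpace OmegaSh
open Groth.Agent.Omega.Stalks

noncomputable section

namespace Groth.Agent.HilbLoc

open ArtFun ArtFun.Art DefSchLib

variable {k : Type u} [Field k] {X : Scheme.{u}} {x : X ⟶ specPt k} {I₀ : X.IdealSheafData}

/-- A morphism `I → O/I` on affine opens. -/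
theorem exists_values (ψ : ClSub.idealMod I₀ ⟶ ClSub.quotMod I₀) :
    ∃ v : ∀ U : X.affineOpens, I₀.ideal U → Γ(X, U.1) ⧸ I₀.ideal U,
      (∀ U s, bar I₀ U (v U ⟨idealSect I₀ U.1 s, IdealSh.IdealMod.sect_mem I₀ U s⟩) = ψ.app U.1 s) ∧
      (∀ U a b, v U (a + b) = v U a + v U b) ∧
      (∀ U (r : Γ(X, U.1)) a, v U (r • a) = Ideal.Quotient.mk _ r * v U a) ∧
      ∀ (U U' : X.affineOpens) (h : U'.1 ≤ U.1) (a : I₀.ideal U) (a' : I₀.ideal U'),
        res h (a : Γ(X, U.1)) = a' → ∀ c, v U a = Ideal.Quotient.mk _ c →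
          v U' a' = Ideal.Quotient.mk _ (res h c) := by
  choose s hs using fun (U : X.affineOpens) (a : I₀.ideal U) => exists_sect' I₀ U a.2
  choose v hv using fun (U : X.affineOpens) (a : I₀.ideal U) => bar_surjective I₀ U (ψ.app U.1 (s U a))
  have key : ∀ (U : X.affineOpens) (a : I₀.ideal U) (t : Γ(ClSub.idealMod I₀, U.1)),
      idealSect I₀ U.1 t = a.1 → bar I₀ U (v U a) = ψ.app U.1 t := fun U a t ht => by
    rw [hv, idealSect_injective I₀ U.1 ((hs U a).trans ht.symm)]
  refine ⟨v, fun U t => key U _ t rfl, fun U a b => bar_injective I₀ U ?_,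
    fun U r a => bar_injective I₀ U ?_, fun U U' h a a' haa c hc => bar_injective I₀ U' ?_⟩
  · rw [key U (a + b) (s U a + s U b) ((map_add _ _ _).trans (congrArg₂ (· + ·) (hs U a) (hs U b))),
      map_add, map_add, key U a _ (hs U a), key U b _ (hs U b)]
    rfl
  · rw [key U (r • a) (r • s U a) ((idealSect_smul _ _ _ _).trans (congrArg (r * ·) (hs U a))),
      map_mul, Scheme.Modules.Hom.app_smul, key U a _ (hs U a)]
    rfl
  · rw [key U' a' (QCoh.res (ClSub.idealMod I₀) h (s U a))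
      ((idealSect_map I₀ (homOfLE h) _).trans ((congrArg _ (hs U a)).trans haa)), QCoh.app_res,
      ← key U a _ (hs U a), hc, rs_bar]

variable {B A : Art k k} {p : B ⟶ A} {ε : B} (S : Step p ε)

include S

/-- Translating a lift by values on affine opens. -/
theorem exists_translate_val (I : (localHilb X x I₀).obj B)
    (v : ∀ U : X.affineOpens, I₀.ideal U → Γ(X, U.1) ⧸ I₀.ideal U)
    (hva : ∀ U a b, v U (a + b) = v U a + v U b)
    (hvm : ∀ U (r : Γ(X, U.1)) a, v U (r • a) = Ideal.Quotient.mk _ r * v U a)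
    (hvn : ∀ (U U' : X.affineOpens) (h : U'.1 ≤ U.1) (a : I₀.ideal U) (a' : I₀.ideal U'),
      res h (a : Γ(X, U.1)) = a' → ∀ c, v U a = Ideal.Quotient.mk _ c →
        v U' a' = Ideal.Quotient.mk _ (res h c)) :
    ∃ I' : (localHilb X x I₀).obj B, (localHilb X x I₀).map p I' = (localHilb X x I₀).map p I ∧
      ∀ (U : X.affineOpens) (z : R x B U), z ∈ idl x I.1 U → ∀ (b : Γ(X, U.1)) (y : I₀.ideal U),
        res₀ x B U z = y → Ideal.Quotient.mk _ b = v U y → z + e x ε U b ∈ idl x I'.1 U := by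
  let IA := (localHilb X x I₀).map p I
  have hsplit : ∀ (U : X.affineOpens) (z : R x B U), z ∈ J p IA U →
      ∃ a, z - e x ε U a ∈ idl x I.1 U := by
    intro U z hz
    rw [Ideal.mem_comap, idl_map, Ideal.mem_map_iff_of_surjective _ (rm_surjective_ker x p S.surj U).1] at hz
    obtain ⟨z', hz', he⟩ := hz
    obtain ⟨a, ha⟩ := S.exists_e x (z := z - z') (by rw [map_sub, he, sub_self])
    exact ⟨a, by rw [ha, sub_sub_cancel]; exact hz'⟩
  choose a ha using hsplit
  have haeq : ∀ (U : X.affineOpens) (z : R x B U) (hz : z ∈ J p IA U) (b : Γ(X, U.1)),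
      z - e x ε U b ∈ idl x I.1 U → Ideal.Quotient.mk (I₀.ideal U) (a U z hz) = Ideal.Quotient.mk _ b := by
    intro U z hz b hb
    rw [Ideal.Quotient.eq, ← S.e_mem_iff I, map_sub,
      show e x ε U (a U z hz) - e x ε U b = (z - e x ε U b) - (z - e x ε U (a U z hz)) by ring]
    exact sub_mem hb (ha U z hz)
  classical
  let r : ∀ U : X.affineOpens, R x B U → Γ(X, U.1) ⧸ I₀.ideal U := fun U z =>
    if hz : z ∈ J p IA U then
      Ideal.Quotient.mk _ (a U z hz) - v U ⟨res₀ x B U z, res₀_mem_of_J S IA hz⟩ else 0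
  have hr : ∀ U z (hz : z ∈ J p IA U), r U z =
      Ideal.Quotient.mk _ (a U z hz) - v U ⟨res₀ x B U z, res₀_mem_of_J S IA hz⟩ := fun U z hz => dif_pos hz
  have hadd : ∀ U z z', z ∈ J p IA U → z' ∈ J p IA U → r U (z + z') = r U z + r U z' := by
    intro U z z' hz hz'
    rw [hr U _ (add_mem hz hz'), hr U _ hz, hr U _ hz',
      haeq U _ (add_mem hz hz') (a U z hz + a U z' hz') (by
        rw [map_add, add_sub_add_comm]; exact add_mem (ha U z hz) (ha U z' hz')),
      show (⟨res₀ x B U (z + z'), res₀_mem_of_J S IA (add_mem hz hz')⟩ : I₀.ideal U) =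
        ⟨res₀ x B U z, res₀_mem_of_J S IA hz⟩ + ⟨res₀ x B U z', res₀_mem_of_J S IA hz'⟩ from
          Subtype.ext (map_add _ _ _), hva, map_add]
    ring
  have hmul : ∀ U w z, z ∈ J p IA U → r U (w * z) = Ideal.Quotient.mk _ (res₀ x B U w) * r U z := by
    intro U w z hz
    rw [hr U _ (Ideal.mul_mem_left _ w hz), hr U _ hz,
      haeq U _ (Ideal.mul_mem_left _ w hz) (res₀ x B U w * a U z hz) (by
        rw [← S.mul_e x, ← mul_sub]; exact Ideal.mul_mem_left _ _ (ha U z hz)),
      show (⟨res₀ x B U (w * z), res₀_mem_of_J S IA (Ideal.mul_mem_left _ w hz)⟩ : I₀.ideal U) =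
        res₀ x B U w • ⟨res₀ x B U z, res₀_mem_of_J S IA hz⟩ from Subtype.ext (map_mul _ _ _), hvm, map_mul,
      mul_sub]
  have he0 : ∀ U (b : Γ(X, U.1)), e x ε U b ∈ J p IA U := fun U b => by
    rw [Ideal.mem_comap, S.rm_e x]; exact zero_mem _
  have he : ∀ U b, r U (e x ε U b) = Ideal.Quotient.mk _ b := by
    intro U b
    rw [hr U _ (he0 U b), haeq U _ (he0 U b) b (by rw [sub_self]; exact zero_mem _)]
    have h0 : v U 0 = 0 := by have := hva U 0 0; rw [add_zero] at this; exact left_eq_add.1 this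
    rw [show (⟨res₀ x B U (e x ε U b), res₀_mem_of_J S IA (he0 U b)⟩ : I₀.ideal U) = 0 from
      Subtype.ext (S.res_e x U b), h0, sub_zero]
  have hnat : ∀ (U U' : X.affineOpens) (h : U'.1 ≤ U.1) z, z ∈ J p IA U → ∀ c, r U z = Ideal.Quotient.mk _ c →
      r U' (rres x B h z) = Ideal.Quotient.mk _ (res h c) := by
    intro U U' h z hz c hc
    have hz' : rres x B h z ∈ J p IA U' := by
      rw [Ideal.mem_comap, rm_rres]
      exact (compat_idl x IA.1).1 U U' h (Ideal.mem_map_of_mem _ hz)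
    obtain ⟨d, hd⟩ := Ideal.Quotient.mk_surjective (v U ⟨res₀ x B U z, res₀_mem_of_J S IA hz⟩)
    rw [hr U _ hz, ← hd, ← map_sub, Ideal.Quotient.eq] at hc
    rw [hr U' _ hz', haeq U' _ hz' (res h (a U z hz)) (by
        rw [← rres_e x S h, ← map_sub]
        exact (compat_idl x I.1).1 U U' h (Ideal.mem_map_of_mem _ (ha U z hz))),
      hvn U U' h _ ⟨_, res₀_mem_of_J S IA hz'⟩ (res₀_rres x B h z).symm d hd.symm, ← map_sub, Ideal.Quotient.eq]
    have := I₀.ideal_le_comap_ideal (U := U') (V := U) h hc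
    rw [Ideal.mem_comap] at this
    simp only [map_sub] at this ⊢
    exact this
  obtain ⟨I', hI', hK⟩ := exists_lift_of_retraction' S IA r hadd hmul he hnat
  refine ⟨I', hI', fun U z hz b y hy hb => (hK U _).2 ?_⟩
  have hzJ : z ∈ J p IA U := by
    rw [Ideal.mem_comap, idl_map]; exact Ideal.mem_map_of_mem _ hz
  refine ⟨add_mem hzJ (he0 U b), ?_⟩
  rw [hadd U _ _ hzJ (he0 U b), he U b, hr U z hzJ, haeq U z hzJ 0 (by rw [map_zero, sub_zero]; exact hz),
    map_zero, show (⟨res₀ x B U z, res₀_mem_of_J S IA hzJ⟩ : I₀.ideal U) = y from Subtype.ext hy, hb]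
  ring

/-- Translating a lift; the translate is equal to the lift only for the zero map. -/
theorem exists_translate (I : (localHilb X x I₀).obj B) (ψ : ClSub.idealMod I₀ ⟶ ClSub.quotMod I₀) :
    ∃ I' : (localHilb X x I₀).obj B, (localHilb X x I₀).map p I' = (localHilb X x I₀).map p I ∧
      (I' = I → ψ = 0) := by
  obtain ⟨v, hv, hva, hvm, hvn⟩ := exists_values ψ
  obtain ⟨I', hI', hmem⟩ := exists_translate_val S I v hva hvm hvn
  refine ⟨I', hI', fun hII => ?_⟩
  have hzero : ∀ (U : X.affineOpens) (s : Γ(ClSub.idealMod I₀, U.1)), ψ.app U.1 s = 0 := by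
    intro U s
    have hy := IdealSh.IdealMod.sect_mem I₀ U s
    rw [← map_res₀_elt I U, Ideal.mem_map_iff_of_surjective _ (res₀_surjective x B U)] at hy
    obtain ⟨z, hz, hzy⟩ := hy
    obtain ⟨b, hb⟩ := Ideal.Quotient.mk_surjective
      (v U ⟨idealSect I₀ U.1 s, IdealSh.IdealMod.sect_mem I₀ U s⟩)
    have h1 := hmem U z hz b _ hzy hb
    rw [hII] at h1
    have h2 : e x ε U b ∈ idl x I.1 U := by simpa using sub_mem h1 hz
    rw [← hv U s, ← hb, (Ideal.Quotient.eq_zero_iff_mem).2 ((S.e_mem_iff I U b).1 h2), map_zero]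
    rfl
  refine Scheme.Modules.hom_ext _ _ fun V => ?_
  ext s
  refine QCoh.eq_zero_of_locally_eq_zero _ (fun W : {W : X.affineOpens // W.1 ≤ V} => W.2)
    (CohAff.le_iSup_affine_le V) _ fun W => ?_
  rw [← QCoh.app_res]
  exact hzero W.1 _

omit S in
/-- The augmentation of the dual numbers is a small extension, generated by `ε`. -/
theorem step_dual : Step (toBase (dual k k)) (DualNumber.eps : DualNumber k) := by
  refine ⟨fun c => (dual k k).res_surjective c, ?_, ?_, ?_⟩
  · refine le_antisymm (fun z hz => ?_) ((Ideal.span_singleton_le_iff_mem _).2 ?_)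
    · have hz' : TrivSqZeroExt.fst (z : DualNumber k) = 0 := hz
      refine Ideal.mem_span_singleton'.2 ⟨(TrivSqZeroExt.inl (TrivSqZeroExt.snd (z : DualNumber k)) : DualNumber k), ?_⟩
      refine TrivSqZeroExt.ext ?_ ?_
      · exact (mul_zero _).trans hz'.symm
      · have h1 : ∀ w : DualNumber k, TrivSqZeroExt.snd ((TrivSqZeroExt.inl (TrivSqZeroExt.snd w) : DualNumber k) *
            DualNumber.eps) = TrivSqZeroExt.snd w := fun w => by
          rw [TrivSqZeroExt.snd_mul, TrivSqZeroExt.snd_inl, DualNumber.snd_eps, DualNumber.fst_eps]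
          simp
        exact h1 z
    · rfl
  · intro h
    exact one_ne_zero (congrArg TrivSqZeroExt.snd h : (1 : k) = 0)
  · intro b hb
    have hb' : TrivSqZeroExt.fst (b : DualNumber k) = 0 := (mem_maximalIdeal_iff _ _).1 hb
    refine TrivSqZeroExt.ext ?_ ?_
    · exact mul_zero _
    · have h1 : ∀ w : DualNumber k, TrivSqZeroExt.fst w = 0 →
          TrivSqZeroExt.snd (w * DualNumber.eps) = 0 := fun w hw => by
        rw [TrivSqZeroExt.snd_mul, hw, DualNumber.fst_eps]
        simp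
      exact h1 b hb'

omit S in
/-- The augmentation of the dual numbers is a small extension. -/
theorem exists_step_dual : ∃ ε, Step (toBase (dual k k)) ε := ⟨_, step_dual⟩

omit S in
/-- If deformations are unique then there are no maps `I → O/I`. -/
theorem subsingleton_hom_of_subsingleton (h : ∀ A : Art k k, Subsingleton ((localHilb X x I₀).obj A)) :
    Subsingleton (ClSub.idealMod I₀ ⟶ ClSub.quotMod I₀) := by
  obtain ⟨I₁⟩ := (h0_localHilb x I₀).1
  obtain ⟨ε, S⟩ := exists_step_dual (k := k)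
  let I := (localHilb X x I₀).map (ofBase (dual k k)) I₁
  refine ⟨fun ψ ψ' => ?_⟩
  have key : ∀ ψ : ClSub.idealMod I₀ ⟶ ClSub.quotMod I₀, ψ = 0 := fun ψ => by
    obtain ⟨I', -, hI'⟩ := exists_translate S I ψ
    exact hI' ((h (dual k k)).elim _ _)
  rw [key ψ, key ψ']

end Groth.Agent.HilbLoc
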