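import Groth.Agent.HilbLoc.Regular
import Groth.Agent.HilbLoc.Twist
import Groth.Agent.HilbLoc.Tangent
import Groth.Agent.ArtFunLib.ObsBounds

/-!
# Obstruction morphisms along semismall surjections, linearly in the functional on the source
-/

set_option autoImplicit false

universe u

open CategoryTheory AlgebraicGeometry IsLocalRing Limits TopologicalSpace OmegaSh
open Groth.Agent.Omega.Stalks
open Groth.Agent.PullStalk.Sky Groth.Agent.PullStalk.Exact Groth.Agent.PullStalk.Basic

noncomputable section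

namespace Groth.Agent.HilbLoc

open ArtFun ArtFun.Art DefSchLib

variable {k : Type u} [Field k] {X : Scheme.{u}} (x : X ⟶ specPt k) {I₀ : X.IdealSheafData}

/-- Coordinates along a linear form. -/
def projF (B : Art k k) (f : (B : Type u) →ₗ[k] k) (U : X.affineOpens) : R x B U →+ Γ(X, U.1) :=
  (exists_proj x B f U).choose

lemma projF_apply (B : Art k k) (f : (B : Type u) →ₗ[k] k) (U : X.affineOpens) (b : B) (a : Γ(X, U.1)) :
    projF x B f U (φ x B U b * sA x B U a) = str x U.1 (f b) * a :=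
  (exists_proj x B f U).choose_spec b a

lemma projF_sA (B : Art k k) (f : (B : Type u) →ₗ[k] k) (U : X.affineOpens) (a : Γ(X, U.1)) (z : R x B U) :
    projF x B f U (sA x B U a * z) = a * projF x B f U z := by
  refine chart_induction (P := fun z => projF x B f U (sA x B U a * z) = a * projF x B f U z) z ?_ ?_
    fun b c => ?_
  · rw [mul_zero, map_zero, mul_zero]
  · intro z w hz hw; rw [mul_add, map_add, hz, hw, map_add, mul_add]
  · rw [mul_left_comm, ← map_mul, projF_apply, projF_apply]; ring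

lemma projF_rres (B : Art k k) (f : (B : Type u) →ₗ[k] k) {U U' : X.affineOpens} (h : U'.1 ≤ U.1)
    (z : R x B U) : projF x B f U' (rres x B h z) = res h (projF x B f U z) := by
  refine chart_induction (P := fun z => projF x B f U' (rres x B h z) = res h (projF x B f U z)) z ?_ ?_
    fun b c => ?_
  · rw [map_zero, map_zero, map_zero, map_zero]
  · intro z w hz hw; rw [map_add, map_add, hz, hw, map_add, map_add]
  · rw [map_mul, rres_φ, rres_sA, projF_apply, projF_apply, map_mul]
    congr 1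
    exact (map_str x h (f b)).symm

lemma projF_add (B : Art k k) (f f' : (B : Type u) →ₗ[k] k) (U : X.affineOpens) (z : R x B U) :
    projF x B (f + f') U z = projF x B f U z + projF x B f' U z := by
  refine chart_induction (P := fun z => projF x B (f + f') U z = projF x B f U z + projF x B f' U z) z ?_ ?_
    fun b c => ?_
  · simp only [map_zero, add_zero]
  · intro z w hz hw; rw [map_add, hz, hw, map_add, map_add]; abel
  · rw [projF_apply, projF_apply, projF_apply, LinearMap.add_apply, map_add, add_mul]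

lemma projF_smul (B : Art k k) (t : k) (f : (B : Type u) →ₗ[k] k) (U : X.affineOpens) (z : R x B U) :
    projF x B (t • f) U z = str x U.1 t * projF x B f U z := by
  refine chart_induction (P := fun z => projF x B (t • f) U z = str x U.1 t * projF x B f U z) z ?_ ?_
    fun b c => ?_
  · simp only [map_zero, mul_zero]
  · intro z w hz hw; rw [map_add, hz, hw, map_add, mul_add]
  · rw [projF_apply, projF_apply, LinearMap.smul_apply, smul_eq_mul, map_mul, mul_assoc]

lemma projF_comp {B B' : Art k k} (g : B ⟶ B') (f : (B' : Type u) →ₗ[k] k) (U : X.affineOpens) (z : R x B U) :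
    projF x B' f U (rm x g U z) = projF x B (f ∘ₗ g.toAlgHom.toLinearMap) U z := by
  refine chart_induction
    (P := fun z => projF x B' f U (rm x g U z) = projF x B (f ∘ₗ g.toAlgHom.toLinearMap) U z) z ?_ ?_
    fun b c => ?_
  · simp only [map_zero]
  · intro z w hz hw; rw [map_add, map_add, hz, hw, map_add]
  · rw [map_mul, rm_φ, rm_sA, projF_apply, projF_apply]
    rfl

variable {x}
variable {B A : Art k k} {p : B ⟶ A} {IA : (localHilb X x I₀).obj A}
  {q : idMod x IA.1 ⟶ ClSub.idealMod I₀}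

variable (p IA q) in
/-- The obstruction morphism attached to a functional. -/
def IsObs (f : (B : Type u) →ₗ[k] k) (η : kernel q ⟶ ClSub.quotMod I₀) : Prop :=
  ∀ (U : X.affineOpens) (s : Γ(kernel q, U.1)) z, z ∈ mJ p IA U →
    rm x p U z = chartSect x IA.1 U ((kernel.ι q).app U.1 s) →
      η.app U.1 s = bar I₀ U (Ideal.Quotient.mk _ (projF x B f U z))

variable (hq : ∀ (U : X.affineOpens) s,
  idealSect I₀ U.1 (q.app U.1 s) = res₀ x A U (chartSect x IA.1 U s))

include hq in
lemma exists_liftKer (hp : Function.Surjective p) (U : X.affineOpens) (s : Γ(kernel q, U.1)) :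
    ∃ z ∈ mJ p IA U, rm x p U z = chartSect x IA.1 U ((kernel.ι q).app U.1 s) := by
  set w := chartSect x IA.1 U ((kernel.ι q).app U.1 s) with hwdef
  have hw : w ∈ idl x IA.1 U := chartSect_mem x IA.1 U _
  have h0 : res₀ x A U w = 0 := by
    rw [hwdef, ← hq]
    have h1 := congr($(congrArg (fun ψ => Scheme.Modules.Hom.app ψ U.1) (kernel.condition q)) s)
    exact (congrArg (idealSect I₀ U.1) h1).trans (map_zero _)
  have hm : (maximalIdeal (A : Type u)) = (maximalIdeal (B : Type u)).map p.toAlgHom.toRingHom :=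
    (ArtFunLib.map_maximalIdeal_eq p.toAlgHom.toRingHom hp).symm
  have hw' : w ∈ ((maximalIdeal (B : Type u)).map p.toAlgHom.toRingHom).map (φ x A U) := by
    rw [← hm, ← ker_res₀]; exact h0
  have h2 := mem_mul_of_flat_quotient (φ x A U) _ (flat_elt IA U) _ hw hw'
  have hs := (rm_surjective_ker x p hp U).1
  rw [Ideal.map_map, show (φ x A U).comp p.toAlgHom.toRingHom = (rm x p U).comp (φ x B U) from
      RingHom.ext fun b => (rm_φ x p U b).symm, ← Ideal.map_map,
    show idl x IA.1 U = (J p IA U).map (rm x p U) from (Ideal.map_comap_of_surjective _ hs _).symm,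
    ← Ideal.map_mul, Ideal.mem_map_iff_of_surjective _ hs] at h2
  exact h2

include hq in
lemma IsObs.unique (hp : Function.Surjective p) {f : (B : Type u) →ₗ[k] k} {η η' : kernel q ⟶ ClSub.quotMod I₀}
    (h : IsObs p IA q f η) (h' : IsObs p IA q f η') : η = η' := by
  refine hom_ext_affine fun U s => ?_
  obtain ⟨z, hz, hz'⟩ := exists_liftKer hq hp U s
  rw [h U s z hz hz', h' U s z hz hz']

lemma IsObs.add {f f' : (B : Type u) →ₗ[k] k} {η η' : kernel q ⟶ ClSub.quotMod I₀}
    (h : IsObs p IA q f η) (h' : IsObs p IA q f' η') : IsObs p IA q (f + f') (η + η') := by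
  intro U s z hz hz'
  rw [projF_add, map_add, map_add, ← h U s z hz hz', ← h' U s z hz hz']
  rfl

lemma IsObs.of_comp {B' : Art k k} (g : B ⟶ B') {p' : B' ⟶ A} (hg : g ≫ p' = p)
    {f : (B' : Type u) →ₗ[k] k} {η : kernel q ⟶ ClSub.quotMod I₀} (h : IsObs p' IA q f η) :
    IsObs p IA q (f ∘ₗ g.toAlgHom.toLinearMap) η := by
  intro U s z hz hz'
  subst hg
  have hz1 : rm x g U z ∈ mJ p' IA U := by
    refine Submodule.mul_induction_on hz (fun μ hμ j hj => ?_) fun a b ha hb => ?_
    · rw [map_mul]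
      refine Ideal.mul_mem_mul ?_ ?_
      · have h1 := Ideal.mem_map_of_mem (rm x g U) hμ
        rw [Ideal.map_map, show (rm x g U).comp (φ x B U) = (φ x B' U).comp g.toAlgHom.toRingHom from
          RingHom.ext fun b => rm_φ x g U b, ← Ideal.map_map] at h1
        refine Ideal.map_mono (Ideal.map_le_iff_le_comap.2 fun b hb => ?_) h1
        rw [Ideal.mem_comap, mem_maximalIdeal_iff]
        exact (res_app g b).trans ((mem_maximalIdeal_iff _ _).1 hb)
      · rw [Ideal.mem_comap, rm_rm]
        exact hj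
    · rw [map_add]; exact add_mem ha hb
  rw [h U s (rm x g U z) hz1 (by rw [rm_rm]; exact hz'), projF_comp]

include hq in
/-- A functional from the target gives an extendable obstruction morphism. -/
lemma exists_isObs_of_factor (hp : Function.Surjective p) (g : (A : Type u) →ₗ[k] k) :
    ∃ δ : idMod x IA.1 ⟶ ClSub.quotMod I₀,
      IsObs p IA q (g ∘ₗ p.toAlgHom.toLinearMap) (kernel.ι q ≫ δ) := by
  obtain ⟨δ, hδ⟩ := exists_hom_of_affine (M := idMod x IA.1) (N := ClSub.quotMod I₀)
    (fun U => AddMonoidHom.mk' (fun s => bar I₀ U (Ideal.Quotient.mk _ (projF x A g U (chartSect x IA.1 U s))))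
      fun a b => by rw [map_add, map_add, map_add, map_add]; rfl)
    (fun U r s => by
      change bar I₀ U (Ideal.Quotient.mk _ (projF x A g U (chartSect x IA.1 U (r • s)))) =
        (I₀.subschemeι.app U.1).hom r * bar I₀ U (Ideal.Quotient.mk _ (projF x A g U (chartSect x IA.1 U s)))
      rw [show (I₀.subschemeι.app U.1).hom r = bar I₀ U (Ideal.Quotient.mk _ r) from rfl, ← map_mul, ← map_mul,
        chartSect_smul, projF_sA])
    (fun U U' h s => by
      change QCoh.res (ClSub.quotMod I₀) h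
          (bar I₀ U (Ideal.Quotient.mk (I₀.ideal U) (projF x A g U (chartSect x IA.1 U s)))) =
        bar I₀ U' (Ideal.Quotient.mk (I₀.ideal U') (projF x A g U' (chartSect x IA.1 U' (QCoh.res _ h s))))
      rw [rs_bar, chartSect_res, projF_rres])
  refine ⟨δ, fun U s z hz hz' => ?_⟩
  refine (hδ U ((kernel.ι q).app U.1 s)).trans ?_
  rw [AddMonoidHom.mk'_apply]
  rw [← hz', projF_comp]

/-- A lift extends the obstruction morphism. -/
lemma exists_isObs_of_lift (hp : IsSemismallExt p) (I : (localHilb X x I₀).obj B)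
    (hI : (localHilb X x I₀).map p I = IA) (f : (B : Type u) →ₗ[k] k) :
    ∃ δ : idMod x IA.1 ⟶ ClSub.quotMod I₀, IsObs p IA q f (kernel.ι q ≫ δ) := by
  have hsk := fun U => rm_surjective_ker x p hp.1 U
  have hidl : ∀ U, idl x IA.1 U = (idl x I.1 U).map (rm x p U) := fun U => by rw [← idl_map, hI]
  have hlift : ∀ (U : X.affineOpens) (w : R x A U), w ∈ idl x IA.1 U →
      ∃ z ∈ idl x I.1 U, rm x p U z = w := fun U w hw => by
    rw [hidl, Ideal.mem_map_iff_of_surjective _ (hsk U).1] at hw
    exact hw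
  have hwd : ∀ (U : X.affineOpens) z z', z ∈ idl x I.1 U → z' ∈ idl x I.1 U → rm x p U z = rm x p U z' →
      Ideal.Quotient.mk (I₀.ideal U) (projF x B f U z) = Ideal.Quotient.mk _ (projF x B f U z') := by
    intro U z z' hz hz' e
    rw [Ideal.Quotient.eq, ← map_sub]
    have hk : z - z' ∈ (RingHom.ker p.toAlgHom.toRingHom).map (φ x B U) := by
      rw [← (hsk U).2, RingHom.mem_ker, map_sub, e, sub_self]
    have h1 := mem_mul_of_flat_quotient (φ x B U) _ (flat_elt I U) _ (sub_mem hz hz') hk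
    refine Submodule.mul_induction_on h1 (fun w hw y hy => ?_) fun a b ha hb => ?_
    · revert y
      refine Submodule.span_induction ?_ ?_ ?_ ?_ hw
      · rintro _ ⟨j, hj, rfl⟩ y hy
        have hy0 : φ x B U j * (y - sA x B U (res₀ x B U y)) = 0 := by
          have hmem : y - sA x B U (res₀ x B U y) ∈ (maximalIdeal (B : Type u)).map (φ x B U) := by
            rw [← ker_res₀, RingHom.mem_ker, map_sub, res₀_sA, sub_self]
          refine Submodule.span_induction ?_ (mul_zero _) (fun a b _ _ ha hb => by rw [mul_add, ha, hb, add_zero])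
            (fun r a _ ha => by rw [smul_eq_mul, mul_left_comm, ha, mul_zero]) hmem
          rintro _ ⟨b, hb, rfl⟩
          have h2 := Ideal.mul_mem_mul hb hj
          replace h2 : b * j ∈ (⊥ : Ideal (B : Type u)) := hp.2 ▸ h2
          rw [Ideal.mem_bot] at h2
          rw [← map_mul, mul_comm, h2, map_zero]
        rw [mul_sub, sub_eq_zero] at hy0
        rw [hy0, projF_apply]
        refine Ideal.mul_mem_left _ _ ?_
        rw [← map_res₀_elt I U]
        exact Ideal.mem_map_of_mem _ hy
      · intro y _; rw [zero_mul, map_zero]; exact zero_mem _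
      · intro a b _ _ ha hb y hy; rw [add_mul, map_add]; exact add_mem (ha y hy) (hb y hy)
      · intro r a _ ha y hy
        rw [smul_eq_mul, mul_comm r a, mul_assoc]
        exact ha _ (Ideal.mul_mem_left _ r hy)
    · rw [map_add]; exact add_mem ha hb
  choose z hz hz' using fun (U : X.affineOpens) (s : Γ(idMod x IA.1, U.1)) =>
    hlift U _ (chartSect_mem x IA.1 U s)
  have huniq : ∀ U s w, w ∈ idl x I.1 U → rm x p U w = chartSect x IA.1 U s →
      Ideal.Quotient.mk (I₀.ideal U) (projF x B f U (z U s)) = Ideal.Quotient.mk _ (projF x B f U w) :=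
    fun U s w hw hw' => hwd U _ _ (hz U s) hw ((hz' U s).trans hw'.symm)
  obtain ⟨δ, hδ⟩ := exists_hom_of_affine (M := idMod x IA.1) (N := ClSub.quotMod I₀)
    (fun U => AddMonoidHom.mk' (fun s => bar I₀ U (Ideal.Quotient.mk _ (projF x B f U (z U s))))
      fun a b => by
        rw [huniq U (a + b) (z U a + z U b) (add_mem (hz U a) (hz U b)) (by rw [map_add, hz', hz', map_add]),
          map_add, map_add, map_add]
        rfl)
    (fun U r s => by
      change bar I₀ U (Ideal.Quotient.mk _ (projF x B f U (z U (r • s)))) =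
        (I₀.subschemeι.app U.1).hom r * bar I₀ U (Ideal.Quotient.mk _ (projF x B f U (z U s)))
      rw [show (I₀.subschemeι.app U.1).hom r = bar I₀ U (Ideal.Quotient.mk _ r) from rfl, ← map_mul, ← map_mul,
        huniq U (r • s) (sA x B U r * z U s) (Ideal.mul_mem_left _ _ (hz U s))
          (by rw [map_mul, rm_sA, hz', chartSect_smul]), projF_sA])
    (fun U U' h s => by
      change QCoh.res (ClSub.quotMod I₀) h (bar I₀ U (Ideal.Quotient.mk (I₀.ideal U) (projF x B f U (z U s)))) =
        bar I₀ U' (Ideal.Quotient.mk (I₀.ideal U') (projF x B f U' (z U' (QCoh.res _ h s))))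
      rw [rs_bar, huniq U' (QCoh.res _ h s) (rres x B h (z U s))
        ((compat_idl x I.1).1 U U' h (Ideal.mem_map_of_mem _ (hz U s)))
        (by rw [rm_rres, hz', chartSect_res]), projF_rres])
  refine ⟨δ, fun U s w hw hw' => (hδ U _).trans (congrArg (bar I₀ U) (huniq U _ w ?_ hw'))⟩
  refine Ideal.mul_le.2 (fun μ hμ j hj => ?_) hw
  obtain ⟨i, hi, hie⟩ := hlift U _ (Ideal.mem_comap.1 hj)
  have hd : j - i ∈ (RingHom.ker p.toAlgHom.toRingHom).map (φ x B U) := by
    rw [← (hsk U).2, RingHom.mem_ker, map_sub, hie, sub_self]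
  have h0 := Ideal.mul_mem_mul hμ hd
  rw [← Ideal.map_mul, show maximalIdeal (B : Type u) * RingHom.ker p.toAlgHom.toRingHom = ⊥ from hp.2,
    Ideal.map_bot, Ideal.mem_bot, mul_sub, sub_eq_zero] at h0
  rw [h0]
  exact Ideal.mul_mem_left _ _ hi


section Reduce

variable (hp : IsSemismallExt p)

omit I₀ IA q in
include hp in
lemma mul_ker_eq (b : B) {j : B} (hj : p j = 0) : b * j = algebraMap k B (B.res b) * j := by
  have h1 : b - algebraMap k B (B.res b) ∈ maximalIdeal (B : Type u) := by
    rw [mem_maximalIdeal_iff, map_sub, res_algebraMap, sub_self]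
  have h2 : (b - algebraMap k B (B.res b)) * j ∈ (⊥ : Ideal (B : Type u)) := hp.2 ▸ Ideal.mul_mem_mul h1 hj
  rw [Ideal.mem_bot, sub_mul, sub_eq_zero] at h2
  exact h2

include hp in
/-- A functional nonzero on the kernel comes from a small quotient. -/
lemma exists_step_quot (f : (B : Type u) →ₗ[k] k) {j₀ : B} (hj₀ : p j₀ = 0) (hf : f j₀ = 1) :
    ∃ (B' : Art k k) (g : B ⟶ B') (p' : B' ⟶ A) (ε : B') (f' : (B' : Type u) →ₗ[k] k),
      g ≫ p' = p ∧ Step p' ε ∧ f' ε = 1 ∧ f' ∘ₗ g.toAlgHom.toLinearMap = f ∧ Function.Surjective g := by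
  let K : Ideal (B : Type u) :=
    { carrier := {b | p b = 0 ∧ f b = 0}
      add_mem' := fun {a b} ha hb => ⟨(map_add p.toAlgHom a b).trans (by rw [ha.1, hb.1, add_zero]),
        (map_add f a b).trans (by rw [ha.2, hb.2, add_zero])⟩
      zero_mem' := ⟨map_zero p.toAlgHom, map_zero f⟩
      smul_mem' := fun c b hb => ⟨(map_mul p.toAlgHom c b).trans (by rw [hb.1, mul_zero]), by
        rw [smul_eq_mul, mul_ker_eq hp c hb.1, ← Algebra.smul_def, map_smul, hb.2, smul_zero]⟩ }
  have hker : ∀ {b : B}, p b = 0 → b ∈ maximalIdeal (B : Type u) := fun {b} hb =>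
    (mem_maximalIdeal_iff B b).2 ((res_app p b).symm.trans ((congrArg A.res hb).trans (map_zero _)))
  have hK : K ≤ maximalIdeal (B : Type u) := fun b hb => hker hb.1
  have hKp : K ≤ RingHom.ker p.toAlgHom := fun b hb => hb.1
  let L : (B : Type u) ⧸ K →ₗ[k] k := (Submodule.liftQ (K.restrictScalars k) f fun b hb => hb.2).comp
    (Submodule.Quotient.restrictScalarsEquiv k K).symm.toLinearMap
  refine ⟨quot B K hK, quotMk B K hK, quotFactor hK p hKp, Ideal.Quotient.mk K j₀, L,
    quotMk_quotFactor hK p hKp, ⟨fun a => ?_, le_antisymm (fun y hy => ?_) ?_, fun h0 => ?_, fun y hy => ?_⟩,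
    hf, LinearMap.ext fun b => rfl, quotMk_surjective B K hK⟩
  · obtain ⟨b, hb⟩ := hp.1 a
    exact ⟨Ideal.Quotient.mk K b, hb⟩
  · obtain ⟨b, rfl⟩ := Ideal.Quotient.mk_surjective y
    have hb : p b = 0 := hy
    refine Ideal.mem_span_singleton'.2 ⟨Ideal.Quotient.mk K (algebraMap k B (f b)), ?_⟩
    refine (map_mul (Ideal.Quotient.mk K) _ _).symm.trans (Ideal.Quotient.eq.2 ?_)
    refine ⟨(map_sub p.toAlgHom _ _).trans ?_, ?_⟩
    · rw [map_mul, hj₀, hb, mul_zero, sub_zero]
    · rw [map_sub, ← Algebra.smul_def, map_smul, hf, smul_eq_mul, mul_one, sub_self]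
  · exact (Ideal.span_singleton_le_iff_mem _).2 hj₀
  · have h1 := (Ideal.Quotient.eq_zero_iff_mem.1 h0).2
    rw [hf] at h1
    exact one_ne_zero h1
  · obtain ⟨b, rfl⟩ := Ideal.Quotient.mk_surjective y
    have hb : b ∈ maximalIdeal (B : Type u) := (mem_maximalIdeal_iff B b).2
      ((res_app (quotMk B K hK) b).symm.trans ((mem_maximalIdeal_iff (quot B K hK) _).1 hy))
    have h2 : b * j₀ ∈ (⊥ : Ideal (B : Type u)) := hp.2 ▸ Ideal.mul_mem_mul hb hj₀
    exact (map_mul (Ideal.Quotient.mk K) _ _).symm.trans ((congrArg _ (Ideal.mem_bot.1 h2)).trans (map_zero _))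

omit I₀ IA q in
include hp in
lemma exists_factor_or_nonzero (f : (B : Type u) →ₗ[k] k) :
    (∃ g : (A : Type u) →ₗ[k] k, g ∘ₗ p.toAlgHom.toLinearMap = f) ∨
      ∃ j₀ : B, p j₀ = 0 ∧ f j₀ ≠ 0 := by
  refine (em _).imp_right fun h => ?_
  by_contra hne
  push Not at hne
  obtain ⟨σ, hσ⟩ := p.toAlgHom.toLinearMap.exists_rightInverse_of_surjective (LinearMap.range_eq_top.2 hp.1)
  refine h ⟨f ∘ₗ σ, LinearMap.ext fun b => (sub_eq_zero.1 ?_).symm⟩
  change f b - f (σ (p b)) = 0
  rw [← map_sub]
  refine hne _ ((map_sub p.toAlgHom _ _).trans (sub_eq_zero.2 ?_))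
  exact (LinearMap.congr_fun hσ (p b)).symm

end Reduce

lemma projF_e {ε : B} {f : (B : Type u) →ₗ[k] k} (hf : f ε = 1) (U : X.affineOpens) (a : Γ(X, U.1)) :
    projF x B f U (e x ε U a) = a := by
  change projF x B f U (φ x B U ε * sA x B U a) = a
  rw [projF_apply, hf, map_one, one_mul]

lemma IsObs.smul_eq {f : (B : Type u) →ₗ[k] k} {t : k} {η η' : kernel q ⟶ ClSub.quotMod I₀}
    (hp : Function.Surjective p) (hq : ∀ (U : X.affineOpens) s,
      idealSect I₀ U.1 (q.app U.1 s) = res₀ x A U (chartSect x IA.1 U s))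
    (h : IsObs p IA q f η) (h' : IsObs p IA q (t • f) η') (U : X.affineOpens) (s : Γ(kernel q, U.1)) :
    η'.app U.1 s = str x U.1 t • η.app U.1 s := by
  obtain ⟨z, hz, hz'⟩ := exists_liftKer hq hp U s
  rw [h U s z hz hz', h' U s z hz hz', projF_smul, map_mul, map_mul]
  rfl

include hq in
/-- Along a small extension the obstruction morphism decides lifting. -/
lemma exists_lift_of_step {ε : B} (S : Step p ε) {f : (B : Type u) →ₗ[k] k} (hf : f ε = 1)
    (δ : idMod x IA.1 ⟶ ClSub.quotMod I₀) (h : IsObs p IA q f (kernel.ι q ≫ δ)) :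
    ∃ I : (localHilb X x I₀).obj B, (localHilb X x I₀).map p I = IA := by
  obtain ⟨η, hη, hl, -⟩ := exists_obstruction_proj S IA (projF x B f) (projF_e hf) (projF_sA x B f)
    (fun U U' hle z => projF_rres x B f hle z) q hq
  exact hl δ (IsObs.unique hq S.surj h hη)

include hq in
/-- Obstruction morphisms exist and extend on stalks for subschemes cut out by regular sequences. -/
lemma exists_isObs [(idMod x IA.1).IsQuasicoherent] (hp : IsSemismallExt p) {Z : Scheme.{u}} (i : Z ⟶ X)
    [IsClosedImmersion i] (hloc : ∀ z : Z, ∃ (U : X.affineOpens) (n : ℕ) (fs : Fin n → Γ(X, U.1)),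
      i z ∈ U.1 ∧ CAlgX.IsH1Regular fs ∧ Ideal.span (Set.range fs) = I₀.ideal U)
    [(kernel q).IsQuasicoherent] (f : (B : Type u) →ₗ[k] k) :
    ∃ η, IsObs p IA q f η ∧ ∀ z : Z, ∃ g : (idMod x IA.1).presheaf.stalk (i z) →ₗ[X.presheaf.stalk
      (i z)] (ClSub.quotMod I₀).presheaf.stalk (i z),
      ∀ t, g (stalkLin (kernel.ι q) (i z) t) =
        stalkLin η (i z) t := by
  rcases exists_factor_or_nonzero hp f with ⟨g, rfl⟩ | ⟨j, hj, hne⟩
  · obtain ⟨δ, hδ⟩ := exists_isObs_of_factor hq hp.1 g
    exact ⟨_, hδ, fun z => ⟨stalkLin δ (i z), fun t => (stalkLin_comp _ _ _ t).symm⟩⟩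
  · have hj₀ : p (algebraMap k B (f j)⁻¹ * j) = 0 := by
      rw [map_mul, hj, mul_zero]
    have hfj : f (algebraMap k B (f j)⁻¹ * j) = 1 := by
      rw [← Algebra.smul_def, map_smul, smul_eq_mul, inv_mul_cancel₀ hne]
    obtain ⟨B', g, p', ε, f', hg, S, hf', rfl, -⟩ := exists_step_quot hp f hj₀ hfj
    obtain ⟨η, hη, -, hlin⟩ := exists_obstruction_proj S IA (projF x B' f') (projF_e hf') (projF_sA x B' f')
      (fun U U' hle z => projF_rres x B' f' hle z) q hq
    refine ⟨η, IsObs.of_comp g hg hη, fun z => ?_⟩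
    obtain ⟨U, n, fs, hzU, hfs, hI⟩ := hloc z
    obtain ⟨r, hra, hrm, hre⟩ := exists_local_retraction x U hfs hI S IA
    obtain ⟨L, hL⟩ := hlin U r hra hrm hre
    obtain ⟨G, hG⟩ := HomShQC.sec_surjective (idMod x IA.1) (ClSub.quotMod I₀) U.2 L
    let y : U.1 := ⟨i z, hzU⟩
    refine ⟨G.1 y, fun t => LinearMap.congr_fun (f := (G.1 y).comp (stalkLin (kernel.ι q) y.1))
      (g := stalkLin η y.1) (HomShQC.stalkHom_ext _ _ U.2 y.2 fun m => ?_) t⟩
    change G.1 y (stalkLin (kernel.ι q) y.1 (germM (kernel q) U.1 y.1 y.2 m)) = _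
    rw [stalkLin_germ, ← HomShQC.germM_sec, hG, hL]
    exact (stalkLin_germ η U.1 y.1 y.2 m).symm


end Groth.Agent.HilbLoc
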