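import Groth.Agent.HilbLoc.Regular
import Groth.Agent.KReg44.Syzygy
import Groth.Agent.KReg44.Weakly
import Groth.Agent.Omega.H1Conormal
import Groth.Prelude.Def_Mor2

/-!
# Regular closed immersions and lifting
-/

set_option autoImplicit false

universe u

open CategoryTheory AlgebraicGeometry Limits

noncomputable section

namespace Groth.Agent.HilbLoc

open ArtFun ArtFun.Art

/-- A regular sequence is `H₁`-regular. -/
theorem isH1Regular_of_isRegular {R : Type u} [CommRing R] {rs : List R}
    (h : RingTheory.Sequence.IsRegular R rs) : CAlgX.IsH1Regular rs.get :=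
  KReg44.isH1Regular rs.get (by
    rw [List.ofFn_get]
    exact KReg44.isKoszulRegularSeq_of_isWeaklyRegular rs.length rs rfl h.toIsWeaklyRegular)

/-- A regular closed immersion is `H₁`-regular. -/
theorem isRegularImmersion_h1 {Z X : Scheme.{u}} (i : Z ⟶ X) (hi : Mor2.IsRegularClosedImmersion i) :
    RegImm.IsRegularImmersion .h1 i := by
  haveI := hi.1
  refine ⟨inferInstance, fun z => ?_⟩
  obtain ⟨U, hU, hz, rs, hrs, hker⟩ := hi.2 z
  exact ⟨⟨U, hU⟩, hz, IsZariskiLocalAtTarget.restrict (P := @IsClosedImmersion) hi.1 U, rs,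
    isH1Regular_of_isRegular hrs, (Scheme.Hom.ker_apply i ⟨U, hU⟩).symm.trans hker⟩

/-- Deformations of a regularly embedded subscheme lift along small extensions if `Ext¹(I/I², O) = 0`. -/
theorem surjective_map_of_regularImmersion {k : Type u} [Field k] {X : Scheme.{u}} {x : X ⟶ specPt k}
    {I₀ : X.IdealSheafData} (hreg : Mor2.IsRegularClosedImmersion I₀.subschemeι)
    [HasExt.{u} I₀.subscheme.Modules]
    (hext : Subsingleton (Abelian.Ext.{u} (Omega.conormal I₀.subschemeι) (Coh.structureModule I₀.subscheme) 1))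
    {B A : Art k k} (p : B ⟶ A) (hp : IsSmallExt p) :
    Function.Surjective ((localHilb X x I₀).map p) := by
  refine surjective_map_of_regular (fun z => ?_) ?_ p hp
  · obtain ⟨U, hU, hz, rs, hrs, hker⟩ := hreg.2 z
    refine ⟨⟨U, hU⟩, rs.length, rs.get, hz, isH1Regular_of_isRegular hrs, ?_⟩
    rw [I₀.ker_subschemeι] at hker
    rw [hker, Set.range_list_get]
  · change Subsingleton (Abelian.Ext.{u} ((Scheme.Modules.pullback I₀.subschemeι).obj
      (ClSub.idealMod I₀.subschemeι.ker)) (Coh.structureModule I₀.subscheme) 1) at hext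
    rwa [I₀.ker_subschemeι] at hext

end Groth.Agent.HilbLoc
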