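import Groth.Agent.HilbLoc.ObsTheory
import Groth.Agent.HilbLoc.RegularMor2
import Groth.Agent.ExtHom.Compare
import Groth.Agent.ExtHom.Coherent
import Groth.Agent.HomShQC.Basic
import Groth.Agent.Omega.H1Conormal
import Groth.Agent.S0002

/-!
# The obstruction theory in `H¹` of the normal sheaf
-/

set_option autoImplicit false

universe u

open CategoryTheory AlgebraicGeometry IsLocalRing Limits

noncomputable section

namespace Groth.Agent.HilbLoc

open ArtFun ArtFun.Art

variable {k : Type u} [Field k] {X Z : Scheme.{u}} {x : X ⟶ specPt k} (i : Z ⟶ X) [IsClosedImmersion i]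

/-- Being cut out by `H₁`-regular sequences. -/
abbrev LocH1 : Prop :=
  ∀ z : Z, ∃ (U : X.affineOpens) (n : ℕ) (fs : Fin n → Γ(X, U.1)),
    i z ∈ U.1 ∧ CAlgX.IsH1Regular fs ∧ Ideal.span (Set.range fs) = i.ker.ideal U

lemma locH1_of_isRegularClosedImmersion (h : Mor2.IsRegularClosedImmersion i) : LocH1 i := fun z => by
  obtain ⟨U, hU, hz, rs, hrs, hker⟩ := h.2 z
  exact ⟨⟨U, hU⟩, rs.length, rs.get, hz, isH1Regular_of_isRegular hrs, by rw [hker, Set.range_list_get]⟩

lemma isFinLocFree_conormal_of_locH1 (hloc : LocH1 i) : FlatMod.IsFinLocFree (Omega.conormal i) := by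
  refine Omega.H1Conormal.isFinLocFree_conormal ⟨inferInstance, fun z => ?_⟩
  obtain ⟨U, n, fs, hz, hfs, hI⟩ := hloc z
  refine ⟨U, hz, IsZariskiLocalAtTarget.restrict (P := @IsClosedImmersion) ‹_› U.1, List.ofFn fs, ?_,
    (Scheme.Hom.ker_apply i U).symm.trans ?_⟩
  · have key : ∀ {n m : ℕ} (e : m = n) (fs : Fin n → Γ(X, U.1)) (gs : Fin m → Γ(X, U.1)),
        (∀ j, gs j = fs (Fin.cast e j)) → CAlgX.IsH1Regular fs → CAlgX.IsH1Regular gs := by
      intro n m e fs gs hj h
      subst e
      rwa [show gs = fs from funext hj]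
    exact key (List.length_ofFn) fs _ (fun j => List.get_ofFn fs j) hfs
  · rw [← hI, Ideal.ofList]
    congr 1
    ext a
    simp [List.mem_ofFn]

/-- The obstruction theory in `H¹` of the normal sheaf. -/
theorem hasObsTheory_H1 [Z.Over (Spec (CommRingCat.of k))] (hZ : Z ↘ Spec (CommRingCat.of k) = i ≫ x)
    [HasExt.{u} Z.Modules] (hloc : LocH1 i) [DCoh.HasSheafHom (Omega.conormal i)] :
    HasObsTheory (localHilb X x i.ker)
      (Coh.HH Z ((DCoh.sheafHom (Omega.conormal i)).obj (Coh.structureModule Z)) 1) := by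
  obtain ⟨T⟩ := hasObsTheory_ext i hZ hloc
  obtain ⟨e₀⟩ := ExtHom.nonempty_ext_linearEquiv k (isFinLocFree_conormal_of_locH1 i hloc) (Coh.structureModule Z) 1
  let e : ExtSp i ≃ₗ[k] Coh.HH Z ((DCoh.sheafHom (Omega.conormal i)).obj (Coh.structureModule Z)) 1 := e₀
  exact ⟨{ obs := fun p hp u => LinearMap.rTensor _ e.toLinearMap (T.obs p hp u)
           obs_eq_zero_iff := fun p hp u => by
             rw [← T.obs_eq_zero_iff p hp u]
             refine ⟨fun h => ?_, fun h => by rw [h, map_zero]⟩
             have h2 := congrArg (LinearMap.rTensor _ e.symm.toLinearMap) h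
             rw [map_zero, ← LinearMap.comp_apply, ← LinearMap.rTensor_comp, LinearEquiv.comp_coe,
               LinearEquiv.self_trans_symm, LinearEquiv.refl_toLinearMap, LinearMap.rTensor_id] at h2
             exact h2
           obs_quot := fun p hp K hK hKJ hq u => by
             rw [T.obs_quot p hp K hK hKJ hq u, ← LinearMap.comp_apply, LinearMap.rTensor_comp_lTensor,
               ← LinearMap.lTensor_comp_rTensor, LinearMap.comp_apply] }⟩

/-- The cohomology of the normal sheaf is finite-dimensional. -/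
theorem finite_H1 [Z.Over (Spec (CommRingCat.of k))] [IsProper (Z ↘ Spec (CommRingCat.of k))]
    (hloc : LocH1 i) [DCoh.HasSheafHom (Omega.conormal i)] (j : ℕ) :
    Module.Finite k (Coh.HH Z ((DCoh.sheafHom (Omega.conormal i)).obj (Coh.structureModule Z)) j) := by
  haveI : IsLocallyNoetherian Z := LocallyOfFiniteType.isLocallyNoetherian (Z ↘ Spec (CommRingCat.of k))
  exact Groth.Agent.S0002.result k Z _
    (ExtHom.isCoh_sheafHom (isFinLocFree_conormal_of_locH1 i hloc) HomShQC.isCoh_structureModule) j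

end Groth.Agent.HilbLoc
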