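import Groth.Agent.HilbLoc.ObsClass
import Groth.Agent.QCoh.Exact
import Mathlib.Algebra.Homology.DerivedCategory.Ext.Linear
import Mathlib.LinearAlgebra.Dual.Basis

/-!
# The obstruction theory of the local Hilbert functor in `Ext¹(I/I², O)`
-/

set_option autoImplicit false

universe u

open CategoryTheory AlgebraicGeometry IsLocalRing Limits TopologicalSpace OmegaSh
open Groth.Agent.Omega.Stalks
open Groth.Agent.PullStalk.Sky Groth.Agent.PullStalk.Exact Groth.Agent.PullStalk.Basic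
open scoped TensorProduct

noncomputable section

namespace Groth.Agent.HilbLoc

open ArtFun ArtFun.Art DefSchLib

set_option maxHeartbeats 1000000

variable {k : Type u} [Field k] {X Z : Scheme.{u}} {x : X ⟶ specPt k} (i : Z ⟶ X) [IsClosedImmersion i]
  [Z.Over (Spec (CommRingCat.of k))]

section Class

variable {B A : Art k k} (p : B ⟶ A) {IA : (localHilb X x i.ker).obj A}
  (q : idMod x IA.1 ⟶ ClSub.idealMod i.ker)

/-- The transpose of a morphism into `O/I`. -/
def transp (η : kernel q ⟶ ClSub.quotMod i.ker) :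
    (Scheme.Modules.pullback i).obj (kernel q) ⟶ Coh.structureModule Z :=
  ((Scheme.Modules.pullbackPushforwardAdjunction i).homEquiv _ _).symm (η ≫ (quotModIso i).hom)

/-- The factorisation of the pulled back obstruction morphism through the image. -/
def IsImageObs (f : (B : Type u) →ₗ[k] k)
    (ψ : Abelian.image ((Scheme.Modules.pullback i).map (kernel.ι q)) ⟶ Coh.structureModule Z) : Prop :=
  ∃ η, IsObs p IA q f η ∧ Abelian.factorThruImage ((Scheme.Modules.pullback i).map (kernel.ι q)) ≫ ψ = transp i q η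

variable {p} {q}
variable (hq : ∀ (U : X.affineOpens) s,
  idealSect i.ker U.1 (q.app U.1 s) = res₀ x A U (chartSect x IA.1 U s))

omit [Z.Over (Spec (CommRingCat.of k))] in
lemma transp_add (η η' : kernel q ⟶ ClSub.quotMod i.ker) :
    transp i q (η + η') = transp i q η + transp i q η' := by
  rw [transp, Preadditive.add_comp]
  exact map_add ((Scheme.Modules.pullbackPushforwardAdjunction i).homAddEquiv _ _).symm _ _

omit [Z.Over (Spec (CommRingCat.of k))] in
include hq in
lemma existsUnique_imageObs (hp : IsSemismallExt p) [(idMod x IA.1).IsQuasicoherent]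
    [(kernel q).IsQuasicoherent]
    (hloc : ∀ z : Z, ∃ (U : X.affineOpens) (n : ℕ) (fs : Fin n → Γ(X, U.1)),
      i z ∈ U.1 ∧ CAlgX.IsH1Regular fs ∧ Ideal.span (Set.range fs) = i.ker.ideal U)
    (f : (B : Type u) →ₗ[k] k) : ∃! ψ, IsImageObs i p q f ψ := by
  obtain ⟨η, hη, hst⟩ := exists_isObs hq hp i hloc f
  let a := (Scheme.Modules.pullback i).map (kernel.ι q)
  have h0 : kernel.ι a ≫ transp i q η = 0 := kernel_comp_eq_zero_of_stalk i (kernel.ι q) _ fun z => by
    obtain ⟨g, hg⟩ := hst z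
    exact ⟨(stalkLin (quotModIso i).hom (i z)).comp g, fun t => by rw [LinearMap.comp_apply, hg, stalkLin_comp]⟩
  let e := Abelian.factorThruImage a
  have hk : kernel.ι e ≫ transp i q η = 0 := by
    have h1 : kernel.ι e ≫ a = 0 := (congrArg (kernel.ι e ≫ ·) (Abelian.image.fac a).symm).trans
      (by rw [← Category.assoc, kernel.condition, zero_comp])
    rw [← kernel.lift_ι a (kernel.ι e) h1, Category.assoc, h0, comp_zero]
  refine ⟨Abelian.epiDesc e _ hk, ⟨η, hη, Abelian.comp_epiDesc e _ hk⟩, fun ψ ⟨η', hη', hψ⟩ => ?_⟩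
  rw [← cancel_epi e, hψ, Abelian.comp_epiDesc e _ hk, IsObs.unique hq hp.1 hη' hη]

omit [Z.Over (Spec (CommRingCat.of k))] in
lemma IsImageObs.add {f f' : (B : Type u) →ₗ[k] k} {ψ ψ'} (h : IsImageObs i p q f ψ)
    (h' : IsImageObs i p q f' ψ') : IsImageObs i p q (f + f') (ψ + ψ') := by
  obtain ⟨η, hη, he⟩ := h
  obtain ⟨η', hη', he'⟩ := h'
  exact ⟨η + η', hη.add hη', by rw [Preadditive.comp_add, he, he', transp_add]⟩

omit [Z.Over (Spec (CommRingCat.of k))] in
lemma IsImageObs.of_comp {B' : Art k k} (g : B ⟶ B') {p' : B' ⟶ A} (hg : g ≫ p' = p)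
    {f : (B' : Type u) →ₗ[k] k} {ψ} (h : IsImageObs i p' q f ψ) :
    IsImageObs i p q (f ∘ₗ g.toAlgHom.toLinearMap) ψ :=
  let ⟨η, hη, he⟩ := h
  ⟨η, hη.of_comp g hg, he⟩

include hq in
lemma IsImageObs.smul_eq (hZ : Z ↘ Spec (CommRingCat.of k) = i ≫ x) (hp : Function.Surjective p)
    {f : (B : Type u) →ₗ[k] k} {t : k} {ψ ψ'} (h : IsImageObs i p q f ψ)
    (h' : IsImageObs i p q (t • f) ψ') : ψ' = t • ψ := by
  obtain ⟨η, hη, he⟩ := h
  obtain ⟨η', hη', he'⟩ := h'
  rw [← cancel_epi (Abelian.factorThruImage ((Scheme.Modules.pullback i).map (kernel.ι q))),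
    Linear.comp_smul, he, he']
  have h1 : η' ≫ (quotModIso i).hom = (η ≫ (quotModIso i).hom) ≫ (Scheme.Modules.pushforward i).map
      (Formal.smulModΓ (Coh.structureModule Z) (Coh.toGlobal (i ≫ x) t)) := by
    refine hom_ext_affine fun U s => ?_
    change (quotModIso i).hom.app U.1 (η'.app U.1 s) = _
    rw [IsObs.smul_eq hp hq hη hη' U s, Scheme.Modules.Hom.app_smul]
    refine Eq.trans ?_ (KLin.smulModΓ_app_apply (Coh.structureModule Z) (Coh.toGlobal (i ≫ x) t) (i ⁻¹ᵁ U.1)
      ((quotModIso i).hom.app U.1 (η.app U.1 s))).symm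
    exact congrArg (· * (show Γ(Z, i ⁻¹ᵁ U.1) from (quotModIso i).hom.app U.1 (η.app U.1 s))) (app_str i U.1 t)
  rw [transp, h1, Adjunction.homEquiv_naturality_right_symm, KLin.comp_smulModΓ, KLin.smul_def,
    show Coh.toGlobal (i ≫ x) = Coh.toGlobal (Z ↘ Spec (CommRingCat.of k)) by rw [hZ]]
  rfl

end Class

section Family

variable (hloc : ∀ z : Z, ∃ (U : X.affineOpens) (n : ℕ) (fs : Fin n → Γ(X, U.1)),
  i z ∈ U.1 ∧ CAlgX.IsH1Regular fs ∧ Ideal.span (Set.range fs) = i.ker.ideal U)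

variable {A : Art k k} (IA : (localHilb X x i.ker).obj A)

/-- The closed fibre map. -/
def fq : idMod x IA.1 ⟶ ClSub.idealMod i.ker := (exists_fibreHom IA).choose

omit [Z.Over (Spec (CommRingCat.of k))] in
lemma fq_spec : ∀ (U : X.affineOpens) s,
    idealSect i.ker U.1 ((fq i IA).app U.1 s) = res₀ x A U (chartSect x IA.1 U s) :=
  (exists_fibreHom IA).choose_spec.2

instance : Epi (fq i IA) := (exists_fibreHom IA).choose_spec.1

omit [Z.Over (Spec (CommRingCat.of k))] in
lemma qcoh_idMod : (idMod x IA.1).IsQuasicoherent := by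
  haveI : (ClSub.idealMod IA.1).IsQuasicoherent := AmpleLib.isQCoh_idealMod _
  exact QCoh.isQuasicoherent_pushforward (pullback.fst x (specOver A)) (ClSub.idealMod IA.1)

omit [Z.Over (Spec (CommRingCat.of k))] in
lemma qcoh_kernel : (kernel (fq i IA)).IsQuasicoherent := by
  haveI := qcoh_idMod i IA
  haveI : (ClSub.idealMod i.ker).IsQuasicoherent := AmpleLib.isQCoh_idealMod _
  exact QCoh.isQuasicoherent_kernel _

omit [Z.Over (Spec (CommRingCat.of k))] in
lemma exists_imageSeq : ∃ hw : Abelian.image.ι ((Scheme.Modules.pullback i).map (kernel.ι (fq i IA))) ≫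
    (Scheme.Modules.pullback i).map (fq i IA) = 0, (ShortComplex.mk _ _ hw).ShortExact :=
  imageSeq_shortExact i _ _ (kernel.condition _)
    (Abelian.epiIsCokernelOfKernel (KernelFork.ofι _ (kernel.condition _)) (kernelIsKernel _))

variable [HasExt.{u} Z.Modules]

/-- The coefficient space. -/
abbrev ExtSp : Type u :=
  Abelian.Ext.{u} ((Scheme.Modules.pullback i).obj (ClSub.idealMod i.ker)) (Coh.structureModule Z) 1

variable {B : Art k k} (p : B ⟶ A) (hp : IsSemismallExt p)

/-- The image obstruction morphism of a functional. -/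
def imObs (f : (B : Type u) →ₗ[k] k) :
    Abelian.image ((Scheme.Modules.pullback i).map (kernel.ι (fq i IA))) ⟶ Coh.structureModule Z :=
  haveI := qcoh_idMod i IA
  haveI := qcoh_kernel i IA
  (existsUnique_imageObs i (p := p) (fq_spec i IA) hp hloc f).exists.choose

omit [Z.Over (Spec (CommRingCat.of k))] [HasExt.{u} Z.Modules] in
lemma imObs_spec (f : (B : Type u) →ₗ[k] k) : IsImageObs i p (fq i IA) f (imObs i hloc IA p hp f) :=
  haveI := qcoh_idMod i IA
  haveI := qcoh_kernel i IA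
  (existsUnique_imageObs i (p := p) (fq_spec i IA) hp hloc f).exists.choose_spec

omit [Z.Over (Spec (CommRingCat.of k))] [HasExt.{u} Z.Modules] in
lemma imObs_eq {f : (B : Type u) →ₗ[k] k} {ψ} (h : IsImageObs i p (fq i IA) f ψ) : imObs i hloc IA p hp f = ψ :=
  haveI := qcoh_idMod i IA
  haveI := qcoh_kernel i IA
  (existsUnique_imageObs i (p := p) (fq_spec i IA) hp hloc f).unique (imObs_spec i hloc IA p hp f) h

/-- The obstruction class of a functional, linearly. -/
def cls (hZ : Z ↘ Spec (CommRingCat.of k) = i ≫ x) : ((B : Type u) →ₗ[k] k) →ₗ[k] ExtSp i where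
  toFun f := (exists_imageSeq i IA).choose_spec.extClass.comp (Abelian.Ext.mk₀ (imObs i hloc IA p hp f))
    (add_zero 1)
  map_add' f f' := by
    rw [imObs_eq i hloc IA p hp ((imObs_spec i hloc IA p hp f).add i (imObs_spec i hloc IA p hp f')),
      Abelian.Ext.mk₀_add, Abelian.Ext.comp_add]
  map_smul' t f := by
    rw [IsImageObs.smul_eq i (fq_spec i IA) hZ hp.1 (imObs_spec i hloc IA p hp f) (imObs_spec i hloc IA p hp (t • f)),
      Abelian.Ext.mk₀_smul, Abelian.Ext.comp_smul, RingHom.id_apply]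

variable (hZ : Z ↘ Spec (CommRingCat.of k) = i ≫ x)

lemma cls_eq_zero_of_isObs {f : (B : Type u) →ₗ[k] k} (δ : idMod x IA.1 ⟶ ClSub.quotMod i.ker)
    (h : IsObs p IA (fq i IA) f (kernel.ι (fq i IA) ≫ δ)) : cls i hloc IA p hp hZ f = 0 := by
  let adj := Scheme.Modules.pullbackPushforwardAdjunction i
  have h1 : IsImageObs i p (fq i IA) f (Abelian.image.ι _ ≫ (adj.homEquiv _ _).symm (δ ≫ (quotModIso i).hom)) :=
    ⟨_, h, by
      rw [transp, Category.assoc]
      refine Eq.trans ?_ (adj.homEquiv_naturality_left_symm _ _).symm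
      rw [← Category.assoc, Abelian.image.fac]⟩
  change (exists_imageSeq i IA).choose_spec.extClass.comp (Abelian.Ext.mk₀ (imObs i hloc IA p hp f)) (add_zero 1) = 0
  rw [imObs_eq i hloc IA p hp h1, ← Abelian.Ext.mk₀_comp_mk₀]
  exact ShortComplex.ShortExact.extClass_comp_assoc _ _

lemma exists_isObs_of_cls_eq_zero {f : (B : Type u) →ₗ[k] k} (h : cls i hloc IA p hp hZ f = 0) :
    ∃ δ : idMod x IA.1 ⟶ ClSub.quotMod i.ker, IsObs p IA (fq i IA) f (kernel.ι (fq i IA) ≫ δ) := by
  let adj := Scheme.Modules.pullbackPushforwardAdjunction i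
  obtain ⟨x₂, hx₂⟩ := Abelian.Ext.contravariant_sequence_exact₁ (exists_imageSeq i IA).choose_spec _
    (Abelian.Ext.mk₀ (imObs i hloc IA p hp f)) (n₁ := 1) rfl h
  obtain ⟨δ', rfl⟩ := (Abelian.Ext.mk₀_bijective _ _).2 x₂
  rw [Abelian.Ext.mk₀_comp_mk₀] at hx₂
  have hδ' := (Abelian.Ext.mk₀_bijective _ _).1 hx₂
  obtain ⟨η, hη, he⟩ := imObs_spec i hloc IA p hp f
  refine ⟨adj.homEquiv _ _ δ' ≫ (quotModIso i).inv, ?_⟩
  convert hη using 1
  rw [← hδ', ← Category.assoc, Abelian.image.fac] at he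
  have h2 := congrArg (adj.homEquiv _ _) he
  rw [Adjunction.homEquiv_naturality_left, transp, Equiv.apply_symm_apply] at h2
  rw [← Category.assoc, h2, Category.assoc, Iso.hom_inv_id, Category.comp_id]

lemma cls_comp {B' : Art k k} (g : B ⟶ B') {p' : B' ⟶ A} (hg : g ≫ p' = p) (hp' : IsSemismallExt p')
    (f : (B' : Type u) →ₗ[k] k) :
    cls i hloc IA p hp hZ (f ∘ₗ g.toAlgHom.toLinearMap) = cls i hloc IA p' hp' hZ f := by
  change (exists_imageSeq i IA).choose_spec.extClass.comp (Abelian.Ext.mk₀ _) (add_zero 1) =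
    (exists_imageSeq i IA).choose_spec.extClass.comp (Abelian.Ext.mk₀ _) (add_zero 1)
  rw [imObs_eq i hloc IA p hp ((imObs_spec i hloc IA p' hp' f).of_comp i g hg)]

lemma cls_eq_of_ker {f f' : (B : Type u) →ₗ[k] k} (h : ∀ b, p b = 0 → f b = f' b) :
    cls i hloc IA p hp hZ f = cls i hloc IA p hp hZ f' := by
  rw [← sub_eq_zero, ← map_sub]
  obtain ⟨g, hg⟩ | ⟨j, hj, hne⟩ := exists_factor_or_nonzero hp (f - f')
  · obtain ⟨δ, hδ⟩ := exists_isObs_of_factor (fq_spec i IA) hp.1 g
    exact cls_eq_zero_of_isObs i hloc IA p hp hZ δ (hg ▸ hδ)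
  · exact absurd (sub_eq_zero.2 (h j hj)) hne

include hZ in
/-- Vanishing of all classes gives a lift. -/
theorem exists_lift_of_cls : ∀ (d : ℕ) {B : Art k k} (p : B ⟶ A) (hp : IsSemismallExt p),
    Module.finrank k (LinearMap.ker p.toAlgHom.toLinearMap) ≤ d → (∀ f, cls i hloc IA p hp hZ f = 0) →
      ∃ I : (localHilb X x i.ker).obj B, (localHilb X x i.ker).map p I = IA := by
  intro d
  induction d with
  | zero =>
    intro B p hp hd _
    haveI := ArtFunLib.module_finite B
    have hb : Function.Bijective p := ⟨LinearMap.ker_eq_bot.1 (Submodule.finrank_eq_zero.1 (Nat.le_zero.1 hd)), hp.1⟩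
    exact (ArtFunLib.map_bijective _ p hb).2 IA
  | succ d ih =>
    intro B p hp hd h
    haveI := ArtFunLib.module_finite B
    by_cases hker : LinearMap.ker p.toAlgHom.toLinearMap = ⊥
    · exact (ArtFunLib.map_bijective _ p ⟨LinearMap.ker_eq_bot.1 hker, hp.1⟩).2 IA
    obtain ⟨j₀, hj₀, hne⟩ := Submodule.exists_mem_ne_zero_of_ne_bot hker
    obtain ⟨π, hπ⟩ := LinearMap.exists_extend (p := Submodule.span k {j₀})
      (LinearEquiv.toSpanNonzeroSingleton k (B : Type u) j₀ hne).symm.toLinearMap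
    have hfj : π j₀ = 1 := by
      refine (LinearMap.congr_fun hπ ⟨j₀, Submodule.mem_span_singleton_self j₀⟩).trans ?_
      rw [show (⟨j₀, Submodule.mem_span_singleton_self j₀⟩ : Submodule.span k {j₀}) =
        (LinearEquiv.toSpanNonzeroSingleton k (B : Type u) j₀ hne) 1 from Subtype.ext (one_smul k j₀).symm]
      exact LinearEquiv.symm_apply_apply _ _
    obtain ⟨B₁, g₁, p₁, ε, f₁, hg₁, S, hf₁, hfac, hg₁s⟩ := exists_step_quot hp π hj₀ hfj
    have hp₁ : IsSemismallExt p₁ := ⟨S.surj, le_bot_iff.1 (Ideal.mul_le.2 fun b hb z hz => by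
      obtain ⟨r, rfl⟩ := Ideal.mem_span_singleton'.1 (show z ∈ Ideal.span {ε} from S.ker ▸ hz)
      rw [Ideal.mem_bot, mul_left_comm, S.kill b hb, mul_zero])⟩
    obtain ⟨δ, hδ⟩ := exists_isObs_of_cls_eq_zero i hloc IA p₁ hp₁ hZ
      ((cls_comp i hloc IA p hp hZ g₁ hg₁ hp₁ f₁).symm.trans (by rw [hfac]; exact h π))
    obtain ⟨I₁, hI₁⟩ := exists_lift_of_step (fq_spec i IA) S hf₁ δ hδ
    -- the complementary quotient
    let L : Ideal (B : Type u) := Ideal.span {j₀}
    have hLp : L ≤ RingHom.ker p.toAlgHom := (Ideal.span_singleton_le_iff_mem _).2 hj₀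
    have hL : L ≤ maximalIdeal (B : Type u) := (Ideal.span_singleton_le_iff_mem _).2
      ((mem_maximalIdeal_iff B j₀).2 ((res_app p j₀).symm.trans ((congrArg A.res hj₀).trans (map_zero _))))
    let g₂ := quotMk B L hL
    let p₂ := quotFactor hL p hLp
    have hp₂ : IsSemismallExt p₂ := ArtFunLib.isSemismallExt_quotFactor hL p hLp hp
    have hmemL : ∀ {b : B}, g₂ b = 0 → ∃ c : k, algebraMap k B c * j₀ = b := fun {b} hb => by
      obtain ⟨r, hr⟩ := Ideal.mem_span_singleton'.1 (Ideal.Quotient.eq_zero_iff_mem.1 hb)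
      exact ⟨B.res r, by rw [← mul_ker_eq hp r hj₀, hr]⟩
    have hg₁0 : ∀ {b : B}, p b = 0 → π b = 0 → g₁ b = 0 := fun {b} hb hπb => by
      have h1 : g₁ b ∈ RingHom.ker p₁.toAlgHom.toRingHom :=
        ((congrArg (fun r : B ⟶ A => r b) hg₁).trans hb)
      rw [S.ker, Ideal.mem_span_singleton'] at h1
      obtain ⟨r, hr⟩ := h1
      have hr' : algebraMap k B₁ (B₁.res r) * ε = g₁ b :=
        (mul_ker_eq hp₁ r (RingHom.mem_ker.1 (show ε ∈ RingHom.ker p₁.toAlgHom.toRingHom by
          rw [S.ker]; exact Ideal.mem_span_singleton_self ε))).symm.trans hr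
      have h2 : f₁ (g₁ b) = π b := LinearMap.congr_fun hfac b
      rw [hπb, ← hr', ← Algebra.smul_def, map_smul, hf₁, smul_eq_mul, mul_one] at h2
      rw [← hr', h2, map_zero, zero_mul]
    have hfp : IsFibreProd g₁ g₂ p₁ p₂ := by
      refine ⟨hg₁.trans (quotMk_quotFactor hL p hLp).symm, fun b₁ b₂ e₁ e₂ => ?_, fun a₁ a₂ e => ?_⟩
      · obtain ⟨c, hc⟩ := hmemL (b := b₁ - b₂) ((map_sub g₂.toAlgHom _ _).trans (sub_eq_zero.2 e₂))
        have h1 : π (b₁ - b₂) = 0 := by
          rw [← LinearMap.congr_fun hfac]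
          change f₁ (g₁.toAlgHom (b₁ - b₂)) = 0
          rw [map_sub, sub_eq_zero.2 e₁, map_zero]
        rw [← hc, ← Algebra.smul_def, map_smul, hfj, smul_eq_mul, mul_one] at h1
        rw [← sub_eq_zero, ← hc, h1, map_zero, zero_mul]
      · obtain ⟨b₁, rfl⟩ := hg₁s a₁
        obtain ⟨b₂, rfl⟩ := quotMk_surjective B L hL a₂
        have hd : p (b₁ - b₂) = 0 := (map_sub p.toAlgHom _ _).trans (sub_eq_zero.2
          (((congrArg (fun r : B ⟶ A => r b₁) hg₁).symm.trans e).trans rfl))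
        refine ⟨b₂ + algebraMap k B (π (b₁ - b₂)) * j₀, ?_, ?_⟩
        · refine sub_eq_zero.1 ((map_sub g₁.toAlgHom _ _).symm.trans (hg₁0 ?_ ?_))
          · rw [show b₂ + algebraMap k B (π (b₁ - b₂)) * j₀ - b₁ =
              algebraMap k B (π (b₁ - b₂)) * j₀ - (b₁ - b₂) by ring, map_sub, map_mul, hd, show p j₀ = 0 from hj₀, mul_zero, sub_zero]
          · rw [map_sub, map_add, ← Algebra.smul_def, map_smul, hfj, smul_eq_mul, mul_one, map_sub]
            ring
        · change Ideal.Quotient.mk L _ = Ideal.Quotient.mk L b₂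
          rw [Ideal.Quotient.eq, add_sub_cancel_left]
          exact Ideal.mul_mem_left _ _ (Ideal.mem_span_singleton_self _)
    have hd₂ : Module.finrank k (LinearMap.ker p₂.toAlgHom.toLinearMap) ≤ d := by
      let r : LinearMap.ker p.toAlgHom.toLinearMap →ₗ[k] LinearMap.ker p₂.toAlgHom.toLinearMap :=
        g₂.toAlgHom.toLinearMap.restrict fun b hb => hb
      have hr : Function.Surjective r := fun y => by
        obtain ⟨b, hb⟩ := quotMk_surjective B L hL y.1
        exact ⟨⟨b, (congrArg p₂ hb).trans y.2⟩, Subtype.ext hb⟩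
      have h1 := r.finrank_range_add_finrank_ker
      rw [LinearMap.range_eq_top.2 hr, finrank_top] at h1
      have h2 : LinearMap.ker r ≠ ⊥ := by
        intro h0
        have h3 : (⟨j₀, hj₀⟩ : LinearMap.ker p.toAlgHom.toLinearMap) ∈ LinearMap.ker r :=
          Subtype.ext (Ideal.Quotient.eq_zero_iff_mem.2 (Ideal.mem_span_singleton_self _))
        rw [h0] at h3
        exact hne (congrArg Subtype.val ((Submodule.mem_bot k).1 h3))
      have h3 : Module.finrank k (LinearMap.ker r) ≠ 0 := fun h0 => h2 (Submodule.finrank_eq_zero.1 h0)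
      omega
    obtain ⟨I₂, hI₂⟩ := ih p₂ hp₂ hd₂ fun f => by
      rw [← cls_comp i hloc IA p hp hZ g₂ (quotMk_quotFactor hL p hLp) hp₂ f]
      exact h _
    obtain ⟨I, hI, -⟩ := (ArtFunLib.cmp_surj_iff _ hfp).1 (cmp_bijective_localHilb hfp hp₂.1).2 I₁ I₂
      (hI₁.trans hI₂.symm)
    exact ⟨I, by rw [← hg₁, ← ArtFunLib.map_map, hI, hI₁]⟩

end Family

/-- The local Hilbert functor of a subscheme cut out by regular sequences has an obstruction theory in
`Ext¹(I/I², O)`. -/
theorem hasObsTheory_ext [HasExt.{u} Z.Modules] (hZ : Z ↘ Spec (CommRingCat.of k) = i ≫ x)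
    (hloc : ∀ z : Z, ∃ (U : X.affineOpens) (n : ℕ) (fs : Fin n → Γ(X, U.1)),
      i z ∈ U.1 ∧ CAlgX.IsH1Regular fs ∧ Ideal.span (Set.range fs) = i.ker.ideal U) :
    HasObsTheory (localHilb X x i.ker) (ExtSp i) := by
  classical
  have hfinB : ∀ {C' C : Art k k} (p : C' ⟶ C), Module.Finite k ↥(RingHom.ker p.toAlgHom) := fun {C' C} p => by
    haveI := ArtFunLib.module_finite C'
    exact Module.Finite.of_injective
      ((RingHom.ker p.toAlgHom).subtype.restrictScalars k) Subtype.val_injective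
  choose π hπ using fun {C' C : Art k k} (p : C' ⟶ C) =>
    LinearMap.exists_leftInverse_of_injective ((RingHom.ker p.toAlgHom).subtype.restrictScalars k)
      (LinearMap.ker_eq_bot.2 Subtype.val_injective)
  have hπ' : ∀ {C' C : Art k k} (p : C' ⟶ C) (j : ↥(RingHom.ker p.toAlgHom)), π p (j : C') = j :=
    fun p j => LinearMap.congr_fun (hπ p) j
  let Ψ : ∀ {C' C : Art k k} (p : C' ⟶ C), IsSemismallExt p → (localHilb X x i.ker).obj C →
      (Module.Dual k ↥(RingHom.ker p.toAlgHom) →ₗ[k] ExtSp i) := fun p hp u =>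
    (cls i hloc u p hp hZ).comp (π p).dualMap
  have hΨ : ∀ {C' C : Art k k} (p : C' ⟶ C) (hp : IsSemismallExt p) (u : (localHilb X x i.ker).obj C)
      (f : (C' : Type u) →ₗ[k] k),
      cls i hloc u p hp hZ f = Ψ p hp u (f ∘ₗ (RingHom.ker p.toAlgHom).subtype.restrictScalars k) :=
    fun {C' C} p hp u f => cls_eq_of_ker i hloc u p hp hZ fun b hb =>
      congrArg f (congrArg Subtype.val (hπ' p ⟨b, hb⟩)).symm
  let b := fun {C' C : Art k k} (p : C' ⟶ C) =>
    haveI := hfinB p
    Module.finBasis k ↥(RingHom.ker p.toAlgHom)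
  refine ⟨⟨fun p hp u => ∑ l, Ψ p hp u ((b p).coord l) ⊗ₜ[k] b p l, fun {C' C} p hp u => ?_,
    fun {C' C} p hp K hK hKJ hs u => ?_⟩⟩
  · constructor
    · intro h
      haveI := ArtFunLib.module_finite C'
      refine exists_lift_of_cls i hloc u hZ _ p hp le_rfl fun f => ?_
      rw [hΨ]
      have hcoord : ∀ m, Ψ p hp u ((b p).coord m) = 0 := fun m => by
        have h1 := congrArg (fun t => TensorProduct.rid k _ (LinearMap.lTensor _ ((b p).coord m) t)) h
        simpa [map_sum, Module.Basis.coord_apply, Finsupp.single_apply] using h1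
      rw [← (b p).sum_dual_apply_smul_coord (f ∘ₗ (RingHom.ker p.toAlgHom).subtype.restrictScalars k), map_sum]
      exact Finset.sum_eq_zero fun m _ => by rw [map_smul, hcoord, smul_zero]
    · rintro ⟨u', hu'⟩
      refine Finset.sum_eq_zero fun m _ => ?_
      obtain ⟨δ, hδ⟩ := exists_isObs_of_lift (q := fq i u) hp u' hu' ((π p).dualMap ((b p).coord m))
      rw [show Ψ p hp u ((b p).coord m) = 0 from cls_eq_zero_of_isObs i hloc u p hp hZ δ hδ,
        TensorProduct.zero_tmul]
  · let q := quotFactor hK p hKJ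
    let r := (kerToQuot hK p hKJ).restrictScalars k
    have hcomp : ∀ ℓ, Ψ q hs u ℓ = Ψ p hp u (ℓ ∘ₗ r) := fun ℓ => by
      change cls i hloc u q hs hZ (ℓ ∘ₗ π q) = _
      rw [← cls_comp i hloc u p hp hZ (quotMk C' K hK) (quotMk_quotFactor hK p hKJ) hs (ℓ ∘ₗ π q), hΨ p hp u]
      congr 1
      refine LinearMap.ext fun j => congrArg ℓ ?_
      exact hπ' q (r j)
    rw [map_sum]
    simp only [LinearMap.lTensor_tmul]
    calc ∑ m, Ψ q hs u ((b q).coord m) ⊗ₜ[k] b q m
        = ∑ m, Ψ p hp u (∑ l, (b q).coord m (r (b p l)) • (b p).coord l) ⊗ₜ[k] b q m :=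
          Finset.sum_congr rfl fun m _ => by
            rw [hcomp]
            congr 2
            exact ((b p).sum_dual_apply_smul_coord ((b q).coord m ∘ₗ r)).symm
      _ = ∑ l, Ψ p hp u ((b p).coord l) ⊗ₜ[k] r (b p l) := by
          simp only [map_sum, map_smul, TensorProduct.sum_tmul, TensorProduct.smul_tmul]
          rw [Finset.sum_comm]
          refine Finset.sum_congr rfl fun l _ => ?_
          rw [← TensorProduct.tmul_sum]
          congr 1
          exact (b q).sum_repr (r (b p l))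

end Groth.Agent.HilbLoc
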