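import Groth.Agent.HilbLoc.Step

/-!
# A projection of a chart onto the kernel of a small extension
-/

set_option autoImplicit false

universe u

open CategoryTheory AlgebraicGeometry IsLocalRing Limits TopologicalSpace

noncomputable section

namespace Groth.Agent.HilbLoc

open ArtFun ArtFun.Art DefSchLib

variable {k : Type u} [Field k] {X : Scheme.{u}} (x : X ⟶ specPt k)

lemma res_algebraMap (B : Art k k) (c : k) : B.res (algebraMap k B c) = c :=
  B.res.commutes c

lemma sA_str (B : Art k k) (U : X.affineOpens) (c : k) :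
    sA x B U (str x U.1 c) = φ x B U (algebraMap k B c) := by
  change (((Scheme.ΓSpecIso (CommRingCat.of k)).inv ≫ x.appLE ⊤ U.1 le_top) ≫
      (pullback.fst x (specOver B)).app U.1).hom c =
    ((CommRingCat.ofHom (ofBase B).toAlgHom.toRingHom ≫ (Scheme.ΓSpecIso (CommRingCat.of B)).inv) ≫
      (XApr x B).appLE ⊤ (pre x B U).1 le_top).hom c
  congr 2
  rw [Category.assoc, Scheme.Hom.app_eq_appLE, Scheme.Hom.appLE_comp_appLE,
    Scheme.ΓSpecIso_inv_naturality, Category.assoc]
  congr 1
  simp only [pullback.condition]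
  rw [show ((Spec.map (CommRingCat.ofHom (ofBase B).toAlgHom.toRingHom)).appTop) =
      (Spec.map (CommRingCat.ofHom (ofBase B).toAlgHom.toRingHom)).appLE ⊤ ⊤ le_rfl from
        Scheme.Hom.app_eq_appLE _, Scheme.Hom.appLE_comp_appLE]
  rfl

/-- Coordinates along a linear form on the Artinian ring. -/
theorem exists_proj (B : Art k k) (f : (B : Type u) →ₗ[k] k) (U : X.affineOpens) :
    ∃ Λ : R x B U →+ Γ(X, U.1), ∀ (b : B) (a : Γ(X, U.1)),
      Λ (φ x B U b * sA x B U a) = str x U.1 (f b) * a := by
  obtain ⟨β, v, hv⟩ := exists_basis x U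
  let C : (β →₀ B) ≃+ R x B U :=
    AddEquiv.ofBijective (AddMonoidHom.mk' (comb (φ x B U) fun i => sA x B U (v i)) fun c d =>
      Finsupp.sum_add_index' (fun i => by rw [map_zero, zero_mul]) fun i a b => by rw [map_add, add_mul])
      (bijective_comb_sA x B U v hv)
  have hC : ∀ c, C c = comb (φ x B U) (fun i => sA x B U (v i)) c := fun _ => rfl
  have hadd : ∀ c d : β →₀ k, comb (str x U.1) v (c + d) = comb (str x U.1) v c + comb (str x U.1) v d :=
    fun c d => Finsupp.sum_add_index' (fun i => by rw [map_zero, zero_mul]) fun i a b => by rw [map_add, add_mul]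
  let D : (β →₀ B) →+ Γ(X, U.1) := AddMonoidHom.mk'
    (fun c => comb (str x U.1) v (c.mapRange f (map_zero f))) fun c d => by
      rw [Finsupp.mapRange_add (fun a b => map_add f a b), hadd]
  refine ⟨D.comp C.symm.toAddMonoidHom, fun b a => ?_⟩
  obtain ⟨d, rfl⟩ := hv.2 a
  let c : β →₀ B := d.mapRange (fun t => b * algebraMap k B t) (by rw [map_zero, mul_zero])
  have hc : C c = φ x B U b * sA x B U (comb (str x U.1) v d) := by
    rw [hC, comb, comb, Finsupp.sum_mapRange_index (fun i => by rw [map_zero, zero_mul]), map_finsuppSum,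
      Finsupp.mul_sum]
    exact Finsupp.sum_congr fun i _ => by rw [map_mul, map_mul, sA_str, mul_assoc]
  rw [← hc]
  change D (C.symm (C c)) = _
  rw [C.symm_apply_apply]
  change comb (str x U.1) v _ = _
  rw [comb, comb, Finsupp.sum_mapRange_index (fun i => by rw [map_zero, zero_mul]),
    Finsupp.sum_mapRange_index (fun i => by rw [map_zero, map_zero, zero_mul]), Finsupp.mul_sum]
  exact Finsupp.sum_congr fun i _ => by
    rw [mul_comm b, ← Algebra.smul_def, map_smul, smul_eq_mul, mul_comm (d i), map_mul, mul_assoc]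

/-- Compatible projections along a small extension. -/
theorem exists_projs {B A : Art k k} {p : B ⟶ A} {ε : B} (S : Step p ε) :
    ∃ Λ : ∀ U, R x B U →+ Γ(X, U.1), (∀ U a, Λ U (e x ε U a) = a) ∧
      (∀ U a z, Λ U (sA x B U a * z) = a * Λ U z) ∧
      ∀ (U U' : X.affineOpens) (h : U'.1 ≤ U.1) z, Λ U' (rres x B h z) = res h (Λ U z) := by
  obtain ⟨g, hg⟩ := LinearMap.exists_extend (p := Submodule.span k {ε})
    (LinearEquiv.toSpanNonzeroSingleton k (B : Type u) ε S.ne_zero).symm.toLinearMap
  have hgε : g ε = 1 := by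
    have h1 := LinearMap.congr_fun hg ⟨ε, Submodule.mem_span_singleton_self ε⟩
    refine h1.trans ?_
    have h2 : (LinearEquiv.toSpanNonzeroSingleton k (B : Type u) ε S.ne_zero) 1 =
        ⟨ε, Submodule.mem_span_singleton_self ε⟩ := Subtype.ext (one_smul k ε)
    rw [← h2]
    exact LinearEquiv.symm_apply_apply _ _
  choose Λ hΛ using exists_proj x B g
  refine ⟨Λ, fun U a => ?_, fun U a z => ?_, fun U U' h z => ?_⟩
  · change Λ U (φ x B U ε * sA x B U a) = a
    rw [hΛ, hgε, map_one, one_mul]
  · refine chart_induction (P := fun z => Λ U (sA x B U a * z) = a * Λ U z) z ?_ ?_ fun b c => ?_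
    · rw [mul_zero, map_zero, mul_zero]
    · intro z w hz hw; rw [mul_add, map_add, hz, hw, map_add, mul_add]
    · rw [mul_left_comm, ← map_mul, hΛ, hΛ]; ring
  · refine chart_induction (P := fun z => Λ U' (rres x B h z) = res h (Λ U z)) z ?_ ?_ fun b c => ?_
    · rw [map_zero, map_zero, map_zero, map_zero]
    · intro z w hz hw; rw [map_add, map_add, hz, hw, map_add, map_add]
    · rw [map_mul, rres_φ, rres_sA, hΛ, hΛ, map_mul]
      congr 1
      exact (map_str x h (g b)).symm

end Groth.Agent.HilbLoc
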