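import Groth.Agent.HilbLoc.Func

/-!
# The local Hilbert functor along a small extension
-/

set_option autoImplicit false

universe u

open CategoryTheory AlgebraicGeometry IsLocalRing Limits TopologicalSpace

noncomputable section

namespace Groth.Agent.HilbLoc

open ArtFun ArtFun.Art DefSchLib

variable {k : Type u} [Field k] {X : Scheme.{u}} (x : X ⟶ specPt k) {I₀ : X.IdealSheafData}

/-- A small extension with a chosen generator of the kernel. -/
structure Step {B A : Art k k} (p : B ⟶ A) (ε : B) : Prop where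
  surj : Function.Surjective p
  ker : RingHom.ker p.toAlgHom.toRingHom = Ideal.span {ε}
  ne_zero : ε ≠ 0
  kill : ∀ b ∈ maximalIdeal (B : Type u), b * ε = 0

lemma exists_step_of_isSmallExt {B A : Art k k} {p : B ⟶ A} (hp : IsSmallExt p) :
    ∃ ε, Step p ε := by
  obtain ⟨t, ht, ht0, hm⟩ := ArtFunLib.exists_generator hp
  exact ⟨t, hp.1, ht, ht0, hm⟩

/-- Multiplication by the generator, from functions on `U` into a chart. -/
def e {B : Art k k} (ε : B) (U : X.affineOpens) : Γ(X, U.1) →+ R x B U :=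
  AddMonoidHom.mk' (fun a => φ x B U ε * sA x B U a) fun a b => by rw [map_add, mul_add]

variable {B A : Art k k} {p : B ⟶ A} {ε : B} (S : Step p ε)

include S

lemma Step.mem_max : ε ∈ maximalIdeal (B : Type u) := mem_max_of_ker p.toAlgHom.toRingHom S.ker

lemma Step.ker_rm (U : X.affineOpens) : RingHom.ker (rm x p U) = Ideal.span {φ x B U ε} := by
  rw [(rm_surjective_ker x p S.surj U).2, S.ker, Ideal.map_span, Set.image_singleton]

lemma Step.mul_eq_zero {U : X.affineOpens} {z : R x B U}
    (hz : z ∈ (maximalIdeal (B : Type u)).map (φ x B U)) : φ x B U ε * z = 0 := by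
  refine Submodule.span_induction ?_ (mul_zero _) (fun a b _ _ ha hb => by rw [mul_add, ha, hb, add_zero])
    (fun r a _ ha => by rw [smul_eq_mul, mul_left_comm, ha, mul_zero]) hz
  rintro _ ⟨b, hb, rfl⟩
  rw [← map_mul, mul_comm, S.kill b hb, map_zero]

/-- Multiplication by the generator only depends on the closed fibre. -/
lemma Step.mul_eq_e (U : X.affineOpens) (y : R x B U) : φ x B U ε * y = e x ε U (res₀ x B U y) := by
  refine sub_eq_zero.1 ?_
  change φ x B U ε * y - φ x B U ε * sA x B U (res₀ x B U y) = 0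
  rw [← mul_sub]
  refine S.mul_eq_zero x ?_
  rw [← ker_res₀, RingHom.mem_ker, map_sub, res₀_sA, sub_self]

lemma Step.mul_e (U : X.affineOpens) (z : R x B U) (a : Γ(X, U.1)) :
    z * e x ε U a = e x ε U (res₀ x B U z * a) := by
  change z * (φ x B U ε * sA x B U a) = _
  rw [mul_left_comm, S.mul_eq_e x, map_mul, res₀_sA]

lemma Step.rm_e (U : X.affineOpens) (a : Γ(X, U.1)) : rm x p U (e x ε U a) = 0 := by
  rw [← RingHom.mem_ker, S.ker_rm x]
  exact Ideal.mul_mem_right _ _ (Ideal.mem_span_singleton_self _)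

lemma Step.exists_e {U : X.affineOpens} {z : R x B U} (hz : rm x p U z = 0) :
    ∃ a, e x ε U a = z := by
  rw [← RingHom.mem_ker, S.ker_rm x, Ideal.mem_span_singleton'] at hz
  obtain ⟨y, rfl⟩ := hz
  exact ⟨res₀ x B U y, by rw [← S.mul_eq_e x, mul_comm]⟩

lemma Step.res_e (U : X.affineOpens) (a : Γ(X, U.1)) : res₀ x B U (e x ε U a) = 0 := by
  rw [← res₀_rm x p, S.rm_e x, map_zero]

lemma Step.e_injective (U : X.affineOpens) : Function.Injective (e x ε U) := by
  refine (injective_iff_map_eq_zero _).2 fun a ha => ?_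
  have h := cancel (φ x B U) (flat_φ x B U) (K' := ⊥) (c := ε)
    (fun h => S.ne_zero (Ideal.mem_bot.1 h)) (y := sA x B U a) (by
      rw [Ideal.map_bot, Ideal.mem_bot]; exact ha)
  rw [← ker_res₀, RingHom.mem_ker, res₀_sA] at h
  exact h

lemma rres_e {U U' : X.affineOpens} (h : U'.1 ≤ U.1) (a : Γ(X, U.1)) :
    rres x B h (e x ε U a) = e x ε U' (res h a) := by
  change rres x B h (φ x B U ε * sA x B U a) = _
  rw [map_mul, rres_φ, rres_sA]
  rfl

variable {x} in
/-- The part of a lift killed on `A`. -/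
lemma Step.e_mem_iff (I : (localHilb X x I₀).obj B) (U : X.affineOpens) (a : Γ(X, U.1)) :
    e x ε U a ∈ idl x I.1 U ↔ a ∈ I₀.ideal U := by
  constructor
  · intro ha
    have h := cancel _ (flat_elt I U) (K' := ⊥) (c := ε) (fun h => S.ne_zero (Ideal.mem_bot.1 h))
      (y := Ideal.Quotient.mk _ (sA x B U a)) (by
        rw [Ideal.map_bot, Ideal.mem_bot]
        exact Ideal.Quotient.eq_zero_iff_mem.2 ha)
    rw [← ker_q₀, RingHom.mem_ker] at h
    change Ideal.Quotient.mk _ (res₀ x B U (sA x B U a)) = 0 at h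
    rwa [res₀_sA, Ideal.Quotient.eq_zero_iff_mem] at h
  · intro ha
    rw [← map_res₀_elt I U, Ideal.mem_map_iff_of_surjective _ (res₀_surjective x B U)] at ha
    obtain ⟨z, hz, rfl⟩ := ha
    rw [← S.mul_eq_e x]
    exact Ideal.mul_mem_left _ _ hz

variable {x} in
/-- Construction of a lift from its ideals on charts. -/
theorem Step.exists_lift (IA : (localHilb X x I₀).obj A) (K : ∀ U, Ideal (R x B U)) (hK : Compat x B K)
    (hKA : ∀ U, (K U).map (rm x p U) = idl x IA.1 U)
    (hKe : ∀ U (a : Γ(X, U.1)), e x ε U a ∈ K U → a ∈ I₀.ideal U) :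
    ∃ I : (localHilb X x I₀).obj B, (localHilb X x I₀).map p I = IA ∧ ∀ U, idl x I.1 U = K U := by
  have h0 : ∀ U, (K U).map (res₀ x B U) = I₀.ideal U := fun U => by
    rw [show res₀ x B U = (res₀ x A U).comp (rm x p U) from RingHom.ext fun z => (res₀_rm x p U z).symm,
      ← Ideal.map_map, hKA, map_res₀_elt]
  have hfl : ∀ U, ((Ideal.Quotient.mk (K U)).comp (φ x B U)).Flat := by
    intro U
    let π : R x B U ⧸ K U →+* R x A U ⧸ idl x IA.1 U :=
      Ideal.quotientMap _ (rm x p U) (Ideal.map_le_iff_le_comap.1 (hKA U).le)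
    have hπk : RingHom.ker π = Ideal.span {Ideal.Quotient.mk (K U) (φ x B U ε)} := by
      refine le_antisymm (fun y hy => ?_) ((Ideal.span_singleton_le_iff_mem _).2 ?_)
      · obtain ⟨z, rfl⟩ := Ideal.Quotient.mk_surjective y
        have hz : rm x p U z ∈ (K U).map (rm x p U) := by
          rw [hKA]; exact Ideal.Quotient.eq_zero_iff_mem.1 hy
        obtain ⟨w, hw, hwz⟩ := (Ideal.mem_map_iff_of_surjective _ (rm_surjective_ker x p S.surj U).1).1 hz
        have hd : z - w ∈ RingHom.ker (rm x p U) := by rw [RingHom.mem_ker, map_sub, hwz, sub_self]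
        rw [S.ker_rm x] at hd
        obtain ⟨t, ht⟩ := Ideal.mem_span_singleton'.1 hd
        refine Ideal.mem_span_singleton'.2 ⟨Ideal.Quotient.mk _ t, ?_⟩
        rw [← map_mul, ht, map_sub, Ideal.Quotient.eq_zero_iff_mem.2 hw, sub_zero]
      · rw [RingHom.mem_ker]
        change Ideal.Quotient.mk _ (rm x p U (φ x B U ε)) = 0
        rw [show rm x p U (φ x B U ε) = 0 from (RingHom.mem_ker.1 (by
          rw [S.ker_rm x]; exact Ideal.mem_span_singleton_self _)), map_zero]
    refine flat_of_thickening p.toAlgHom.toRingHom _ ((Ideal.Quotient.mk (idl x IA.1 U)).comp (φ x A U)) π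
      S.surj S.ker S.kill (Ideal.quotientMap_surjective (rm_surjective_ker x p S.surj U).1)
      (fun b => congrArg (Ideal.Quotient.mk _) (rm_φ x p U b)) hπk (flat_elt IA U) fun y hy => ?_
    obtain ⟨z, rfl⟩ := Ideal.Quotient.mk_surjective y
    have hz : φ x B U ε * z ∈ K U := Ideal.Quotient.eq_zero_iff_mem.1 hy
    rw [S.mul_eq_e x] at hz
    have hz' : res₀ x B U z ∈ (K U).map (res₀ x B U) := by rw [h0]; exact hKe U _ hz
    rw [← Ideal.map_map, Ideal.mem_quotient_iff_mem_sup, sup_comm]
    exact mem_max_map _ hz'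
  obtain ⟨I, hI⟩ := exists_elt B K hK hfl h0
  exact ⟨I, elt_ext fun U => by rw [idl_map, hI, hKA], hI⟩

variable {x} in
/-- An element killed twice over lies in every lift. -/
lemma Step.mul_le {I I' : (localHilb X x I₀).obj B}
    (h : (localHilb X x I₀).map p I = (localHilb X x I₀).map p I') (U : X.affineOpens) :
    (maximalIdeal (B : Type u)).map (φ x B U) * idl x I.1 U ≤ idl x I'.1 U := by
  rw [Ideal.mul_le]
  intro μ hμ z hz
  have h1 : rm x p U z ∈ (idl x I'.1 U).map (rm x p U) := by
    rw [← idl_map, ← h, idl_map]; exact Ideal.mem_map_of_mem _ hz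
  obtain ⟨z', hz', he⟩ := (Ideal.mem_map_iff_of_surjective _ (rm_surjective_ker x p S.surj U).1).1 h1
  obtain ⟨a, ha⟩ := S.exists_e x (z := z - z') (by rw [map_sub, he, sub_self])
  have h2 : μ * (z - z') = 0 := by
    rw [← ha]
    change μ * (φ x B U ε * sA x B U a) = 0
    rw [← mul_assoc, mul_comm μ, S.mul_eq_zero x hμ, zero_mul]
  rw [show μ * z = μ * z' by linear_combination h2]
  exact Ideal.mul_mem_left _ _ hz'

end Groth.Agent.HilbLoc
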