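import Groth.Agent.HilbLoc.Twist
import Groth.Prelude.Def_ArtFun3

/-!
# The fibres of the local Hilbert functor along extensions killed by the maximal ideal
-/

set_option autoImplicit false

universe u

open CategoryTheory AlgebraicGeometry IsLocalRing Limits TopologicalSpace OmegaSh
open Groth.Agent.Omega.Stalks

noncomputable section

namespace Groth.Agent.HilbLoc

open ArtFun ArtFun.Art DefSchLib

variable {k : Type u} [Field k] {X : Scheme.{u}} {x : X ⟶ specPt k} {I₀ : X.IdealSheafData}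
variable {B A : Art k k} {p : B ⟶ A} {ε : B} (S : Step p ε)
variable {I I' : (localHilb X x I₀).obj B}

include S

/-- The difference of two lifts is given by a unique morphism `I → O/I`. -/
theorem exists_diffHom (h : (localHilb X x I₀).map p I = (localHilb X x I₀).map p I') :
    ∃ ψ : ClSub.idealMod I₀ ⟶ ClSub.quotMod I₀, ∀ (U : X.affineOpens) (s : Γ(ClSub.idealMod I₀, U.1)),
      ∃ c, DiffRel ε I I' U (idealSect I₀ U.1 s) c ∧ ψ.app U.1 s = bar I₀ U c := by
  choose δ hδ using fun (U : X.affineOpens) (y : I₀.ideal U) => exists_diff S h U y.2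
  obtain ⟨ψ, hψ⟩ := exists_hom_ideal_quot I₀ δ
    (fun U y₁ y₂ => by
      obtain ⟨z₁, hz₁, z₁', hz₁', a₁, hy₁, e₁, c₁⟩ := hδ U y₁
      obtain ⟨z₂, hz₂, z₂', hz₂', a₂, hy₂, e₂, c₂⟩ := hδ U y₂
      refine diff_unique S h (hδ U _) ⟨z₁ + z₂, add_mem hz₁ hz₂, z₁' + z₂', add_mem hz₁' hz₂', a₁ + a₂, ?_, ?_, ?_⟩
      · rw [map_add, hy₁, hy₂, Submodule.coe_add]
      · rw [map_add, ← e₁, ← e₂]; ring
      · rw [c₁, c₂, map_add])
    (fun U r y => by
      obtain ⟨z, hz, z', hz', a, hy, e₁, c₁⟩ := hδ U y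
      refine diff_unique S h (hδ U _) ⟨sA x B U r * z, Ideal.mul_mem_left _ _ hz, sA x B U r * z',
        Ideal.mul_mem_left _ _ hz', r * a, ?_, ?_, ?_⟩
      · rw [map_mul, res₀_sA, hy]; rfl
      · rw [← mul_sub, e₁, S.mul_e x, res₀_sA]
      · rw [c₁, map_mul])
    (fun U U' hle y y' hyy c hc => by
      obtain ⟨z, hz, z', hz', a, hy, e₁, c₁⟩ := hδ U y
      have hin : ∀ J : (localHilb X x I₀).obj B, ∀ w ∈ idl x J.1 U, rres x B hle w ∈ idl x J.1 U' :=
        fun J w hw => (compat_idl x J.1).1 U U' hle (Ideal.mem_map_of_mem _ hw)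
      refine diff_unique S h (hδ U' y') ⟨_, hin I z hz, _, hin I' z' hz', res hle a, ?_, ?_, ?_⟩
      · rw [res₀_rres, hy]; exact hyy
      · rw [← map_sub, e₁, rres_e x S hle]
      · rw [Ideal.Quotient.eq]
        have hca : c - a ∈ I₀.ideal U := Ideal.Quotient.eq.1 (hc.symm.trans c₁)
        have := I₀.ideal_le_comap_ideal (U := U') (V := U) hle hca
        rw [Ideal.mem_comap, map_sub] at this
        exact this)
  exact ⟨ψ, fun U s => ⟨_, hδ U ⟨_, IdealSh.IdealMod.sect_mem I₀ U s⟩, hψ U s⟩⟩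

/-- A lift is determined by its difference from a fixed one. -/
theorem eq_of_diff {I₁ I₂ : (localHilb X x I₀).obj B}
    (h₁ : (localHilb X x I₀).map p I = (localHilb X x I₀).map p I₁)
    (h₂ : (localHilb X x I₀).map p I = (localHilb X x I₀).map p I₂)
    (h : ∀ (U : X.affineOpens) (y : Γ(X, U.1)) c c', y ∈ I₀.ideal U → DiffRel ε I I₁ U y c →
      DiffRel ε I I₂ U y c' → c = c') : I₁ = I₂ := by
  suffices H : ∀ (I₁ I₂ : (localHilb X x I₀).obj B), (localHilb X x I₀).map p I = (localHilb X x I₀).map p I₁ →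
      (localHilb X x I₀).map p I = (localHilb X x I₀).map p I₂ →
      (∀ (U : X.affineOpens) (y : Γ(X, U.1)) c c', y ∈ I₀.ideal U → DiffRel ε I I₁ U y c →
        DiffRel ε I I₂ U y c' → c = c') → ∀ U, idl x I₁.1 U ≤ idl x I₂.1 U from
    elt_ext fun U => le_antisymm (H I₁ I₂ h₁ h₂ h U)
      (H I₂ I₁ h₂ h₁ (fun U y c c' hy hc hc' => (h U y c' c hy hc' hc).symm) U)
  intro I₁ I₂ h₁ h₂ h U z hz
  have hz0 : rm x p U z ∈ (idl x I.1 U).map (rm x p U) := by
    rw [← idl_map, h₁, idl_map]; exact Ideal.mem_map_of_mem _ hz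
  obtain ⟨t, ht, he⟩ := (Ideal.mem_map_iff_of_surjective _ (rm_surjective_ker x p S.surj U).1).1 hz0
  obtain ⟨a, ha⟩ := S.exists_e x (z := z - t) (by rw [map_sub, he, sub_self])
  have hy : res₀ x B U t ∈ I₀.ideal U := by
    rw [← map_res₀_elt I U]; exact Ideal.mem_map_of_mem _ ht
  obtain ⟨c, hc⟩ := exists_diff S h₂ U hy
  have h1 := h U _ _ c hy ⟨t, ht, z, hz, a, rfl, ha.symm, rfl⟩ hc
  obtain ⟨t₂, ht₂, z₂, hz₂, a₂, hy₂, e₂, rfl⟩ := hc
  have hd : t - t₂ ∈ idl x I₂.1 U := by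
    refine S.mul_le h₂ U (mem_mul_of_flat_quotient (φ x B U) _ (flat_elt _ U) _ (sub_mem ht ht₂) ?_)
    rw [← ker_res₀, RingHom.mem_ker, map_sub, hy₂, sub_self]
  have h3 : e x ε U (a - a₂) ∈ idl x I₂.1 U := (S.e_mem_iff I₂ U _).2 (Ideal.Quotient.eq.1 h1)
  rw [map_sub, ha, ← e₂] at h3
  have := add_mem (add_mem h3 hz₂) hd
  rwa [show z - t - (z₂ - t₂) + z₂ + (t - t₂) = z by ring] at this

/-- Every morphism `I → O/I` is the difference of a lift from a fixed one. -/
theorem exists_of_hom (I : (localHilb X x I₀).obj B) (ψ : ClSub.idealMod I₀ ⟶ ClSub.quotMod I₀) :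
    ∃ I' : (localHilb X x I₀).obj B, (localHilb X x I₀).map p I' = (localHilb X x I₀).map p I ∧
      ∀ (U : X.affineOpens) (s : Γ(ClSub.idealMod I₀, U.1)),
        ∃ c, DiffRel ε I I' U (idealSect I₀ U.1 s) c ∧ ψ.app U.1 s = bar I₀ U c := by
  obtain ⟨v, hv, hva, hvm, hvn⟩ := exists_values ψ
  obtain ⟨I', hI', hmem⟩ := exists_translate_val S I v hva hvm hvn
  refine ⟨I', hI', fun U s => ⟨_, ?_, (hv U s).symm⟩⟩
  have hy := IdealSh.IdealMod.sect_mem I₀ U s
  rw [← map_res₀_elt I U, Ideal.mem_map_iff_of_surjective _ (res₀_surjective x B U)] at hy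
  obtain ⟨z, hz, hzy⟩ := hy
  obtain ⟨b, hb⟩ := Ideal.Quotient.mk_surjective
    (v U ⟨idealSect I₀ U.1 s, IdealSh.IdealMod.sect_mem I₀ U s⟩)
  exact ⟨z, hz, z + e x ε U b, hmem U z hz b _ hzy hb, b, hzy, by ring, hb.symm⟩

omit S in
/-- Lifts along a small extension form a torsor under `Hom(I, O/I)`. -/
theorem nonempty_fibre_equiv {B A : Art k k} {p : B ⟶ A} (hp : IsSmallExt p) (I : (localHilb X x I₀).obj B) :
    Nonempty ({I' : (localHilb X x I₀).obj B // (localHilb X x I₀).map p I' = (localHilb X x I₀).map p I} ≃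
      (ClSub.idealMod I₀ ⟶ ClSub.quotMod I₀)) := by
  obtain ⟨ε, S⟩ := exists_step_of_isSmallExt hp
  choose Φ hΦ using fun J : {I' : (localHilb X x I₀).obj B //
    (localHilb X x I₀).map p I' = (localHilb X x I₀).map p I} => exists_diffHom S J.2.symm
  refine ⟨Equiv.ofBijective Φ ⟨fun J₁ J₂ h => Subtype.ext (eq_of_diff S J₁.2.symm J₂.2.symm ?_), fun ψ => ?_⟩⟩
  · intro U y c c' hy hc hc'
    obtain ⟨s, rfl⟩ := exists_sect' I₀ U hy
    obtain ⟨d, hd, hd'⟩ := hΦ J₁ U s
    obtain ⟨d', hd₂, hd₂'⟩ := hΦ J₂ U s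
    rw [diff_unique S J₁.2.symm hc hd, diff_unique S J₂.2.symm hc' hd₂]
    exact bar_injective I₀ U (hd'.symm.trans ((congrArg (fun q : ClSub.idealMod I₀ ⟶ ClSub.quotMod I₀ => q.app U.1 s) h).trans hd₂'))
  · obtain ⟨I', hI', hψ⟩ := exists_of_hom S I ψ
    refine ⟨⟨I', hI'⟩, Scheme.Modules.hom_ext _ _ fun V => ?_⟩
    ext s
    refine QCoh.eq_of_locally_eq _ (fun W : {W : X.affineOpens // W.1 ≤ V} => W.2)
      (CohAff.le_iSup_affine_le V) _ _ fun W => ?_
    rw [← QCoh.app_res, ← QCoh.app_res]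
    obtain ⟨d, hd, hd'⟩ := hΦ ⟨I', hI'⟩ W.1 (QCoh.res _ W.2 s)
    obtain ⟨d', hd₂, hd₂'⟩ := hψ W.1 (QCoh.res _ W.2 s)
    exact hd'.trans ((congrArg (bar I₀ W.1) (diff_unique S hI'.symm hd hd₂)).trans hd₂'.symm)

omit S in
/-- The fibres along an extension killed by the maximal ideal. -/
theorem nonempty_fibre_equiv_semismall (n : ℕ) : ∀ {B A : Art k k} (p : B ⟶ A), IsSemismallExt p →
    Module.finrank k (RingHom.ker p.toAlgHom) = n → ∀ I : (localHilb X x I₀).obj B,
    Nonempty ({I' : (localHilb X x I₀).obj B // (localHilb X x I₀).map p I' = (localHilb X x I₀).map p I} ≃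
      (Fin n → (ClSub.idealMod I₀ ⟶ ClSub.quotMod I₀))) := by
  induction n with
  | zero =>
    intro B A p hp hn I
    haveI : Module.Finite k (B : Type u) := ArtFunLib.module_finite B
    haveI : Module.Finite k (RingHom.ker p.toAlgHom) :=
      inferInstanceAs (Module.Finite k ((RingHom.ker p.toAlgHom).restrictScalars k))
    have hbot : RingHom.ker p.toAlgHom = ⊥ := by
      rw [eq_bot_iff]
      intro b hb
      haveI := Module.finrank_zero_iff.1 hn
      exact congrArg Subtype.val (Subsingleton.elim (⟨b, hb⟩ : RingHom.ker p.toAlgHom) 0)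
    have hbij : Function.Bijective p := ⟨(RingHom.injective_iff_ker_eq_bot p.toAlgHom.toRingHom).2 hbot, hp.1⟩
    haveI : IsIso p := ArtFunLib.isIso_of_bijective p hbij
    refine ⟨⟨fun _ i => i.elim0, fun _ => ⟨I, rfl⟩, fun J => Subtype.ext ?_,
      fun f => funext fun i => i.elim0⟩⟩
    have := congrArg ((localHilb X x I₀).map (inv p)) J.2
    simpa [← FunctorToTypes.map_comp_apply] using this.symm
  | succ n ih =>
    intro B A p hp hn I
    haveI : Module.Finite k (B : Type u) := ArtFunLib.module_finite B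
    let J : Submodule k (B : Type u) := (RingHom.ker p.toAlgHom).restrictScalars k
    have hJn : Module.finrank k J = n + 1 := hn
    haveI : Nontrivial J := Module.nontrivial_of_finrank_eq_succ hJn
    obtain ⟨⟨ε, hεJ⟩, hε⟩ := exists_ne (0 : J)
    have hε0 : ε ≠ 0 := fun h => hε (Subtype.ext h)
    obtain ⟨K', hK'⟩ := Submodule.exists_isCompl (Submodule.span k {(⟨ε, hεJ⟩ : J)})
    let J' : Submodule k (B : Type u) := K'.map J.subtype
    have hkill : ∀ b ∈ maximalIdeal (B : Type u), ∀ j ∈ J, b * j = 0 := fun b hb j hj => by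
      have : b * j ∈ maximalIdeal (B : Type u) * RingHom.ker p.toAlgHom := Ideal.mul_mem_mul hb hj
      rwa [hp.2, Ideal.mem_bot] at this
    have hmul : ∀ (b : B) (j : B), j ∈ J → b * j = B.res b • j := fun b j hj => by
      have hb : b - algebraMap k B (B.res b) ∈ maximalIdeal (B : Type u) := by
        rw [← ker_resHom, RingHom.mem_ker]
        change B.res _ = 0
        rw [map_sub, res_algebraMap, sub_self]
      rw [Algebra.smul_def, ← sub_eq_zero, ← sub_mul, hkill _ hb j hj]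
    have hJ' : J' ≤ J := Submodule.map_subtype_le _ _
    let L : Ideal (B : Type u) := Ideal.span {ε}
    let L' : Ideal (B : Type u) :=
      { carrier := J', add_mem' := fun ha hb => add_mem ha hb, zero_mem' := zero_mem _,
        smul_mem' := fun b j hj => by
          rw [smul_eq_mul, hmul b j (hJ' hj)]; exact Submodule.smul_mem _ _ hj }
    have hLJ : L ≤ RingHom.ker p.toAlgHom := (Ideal.span_singleton_le_iff_mem _).2 hεJ
    have hL'J : L' ≤ RingHom.ker p.toAlgHom := fun z hz => hJ' hz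
    have hmax : RingHom.ker p.toAlgHom ≤ maximalIdeal (B : Type u) := ArtFunLib.ker_le_maximalIdeal p
    let p₁ := quotMk B L (hLJ.trans hmax)
    let p₂ := quotMk B L' (hL'J.trans hmax)
    let f₁ := quotFactor (hLJ.trans hmax) p hLJ
    let f₂ := quotFactor (hL'J.trans hmax) p hL'J
    have hf₁ : p₁ ≫ f₁ = p := hom_ext (AlgHom.ext fun z => rfl)
    have hf₂ : p₂ ≫ f₂ = p := hom_ext (AlgHom.ext fun z => rfl)
    have hL : ∀ z, z ∈ L ↔ ∃ c : k, z = c • ε := fun z => by
      refine ⟨fun hz => ?_, ?_⟩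
      · obtain ⟨b, rfl⟩ := Ideal.mem_span_singleton'.1 hz
        exact ⟨B.res b, hmul b ε hεJ⟩
      · rintro ⟨c, rfl⟩
        rw [Algebra.smul_def]
        exact Ideal.mul_mem_left _ _ (Ideal.mem_span_singleton_self ε)
    have hinf : ∀ z, z ∈ L → z ∈ L' → z = 0 := by
      intro z hz hz'
      obtain ⟨c, rfl⟩ := (hL z).1 hz
      obtain ⟨w, hw, hwe⟩ := hz'
      have hwc : w = c • (⟨ε, hεJ⟩ : J) := Subtype.ext hwe
      have : w ∈ Submodule.span k {(⟨ε, hεJ⟩ : J)} ⊓ K' :=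
        ⟨hwc ▸ Submodule.smul_mem _ _ (Submodule.mem_span_singleton_self _), hw⟩
      rw [hK'.inf_eq_bot, Submodule.mem_bot] at this
      rw [this] at hwe
      exact hwe.symm.trans (map_zero J.subtype)
    have hsup : ∀ z ∈ RingHom.ker p.toAlgHom, ∃ u ∈ L, ∃ v ∈ L', u + v = z := by
      intro z hz
      have : (⟨z, hz⟩ : J) ∈ Submodule.span k {(⟨ε, hεJ⟩ : J)} ⊔ K' := by
        rw [hK'.sup_eq_top]; trivial
      obtain ⟨u, hu, v, hv, huv⟩ := Submodule.mem_sup.1 this
      obtain ⟨c, rfl⟩ := Submodule.mem_span_singleton.1 hu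
      exact ⟨c • ε, (hL _).2 ⟨c, rfl⟩, v.1, ⟨v, hv, rfl⟩, congrArg Subtype.val huv⟩
    have hfib : IsFibreProd p₁ p₂ f₁ f₂ := by
      refine ⟨hf₁.trans hf₂.symm, fun b b' h1 h2 => ?_, fun a₁ a₂ ha => ?_⟩
      · exact sub_eq_zero.1 (hinf _ (Ideal.Quotient.eq.1 h1) (Ideal.Quotient.eq.1 h2))
      · obtain ⟨b₁, rfl⟩ := Ideal.Quotient.mk_surjective a₁
        obtain ⟨b₂, rfl⟩ := Ideal.Quotient.mk_surjective a₂
        obtain ⟨u, hu, v, hv, huv⟩ := hsup (b₁ - b₂) (by
          rw [RingHom.mem_ker, map_sub]; exact sub_eq_zero.2 ha)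
        refine ⟨b₂ + v, Ideal.Quotient.eq.2 ?_, Ideal.Quotient.eq.2 ?_⟩
        · rw [show b₂ + v - b₁ = -u by linear_combination huv]; exact L.neg_mem hu
        · rw [add_sub_cancel_left]; exact hv
    have hf₁s : Function.Surjective f₁ := fun a => by
      obtain ⟨b, rfl⟩ := hp.1 a
      exact ⟨Ideal.Quotient.mk L b, rfl⟩
    have hf₂s : Function.Surjective f₂ := fun a => by
      obtain ⟨b, rfl⟩ := hp.1 a
      exact ⟨Ideal.Quotient.mk L' b, rfl⟩
    have hsemi₁ : IsSemismallExt f₁ := by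
      refine ⟨hf₁s, le_bot_iff.1 (Ideal.mul_le.2 ?_)⟩
      intro a ha w hw
      obtain ⟨b, rfl⟩ := Ideal.Quotient.mk_surjective a
      obtain ⟨z, rfl⟩ := Ideal.Quotient.mk_surjective w
      have hb : b ∈ maximalIdeal (B : Type u) := (mem_maximalIdeal_iff _ _).2
        (show B.res b = 0 from (mem_maximalIdeal_iff (quot B L (hLJ.trans hmax)) _).1 ha)
      exact Ideal.mem_bot.2 ((map_mul _ b z).symm.trans ((congrArg _ (hkill b hb z hw)).trans (map_zero _)))
    have hsmall₂ : IsSmallExt f₂ := by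
      refine ArtFunLib.isSmallExt_of_ker_eq_span hf₂s (t := Ideal.Quotient.mk L' ε) ?_ ?_ ?_
      · refine le_antisymm (fun w hw => ?_) ((Ideal.span_singleton_le_iff_mem _).2 hεJ)
        obtain ⟨z, rfl⟩ := Ideal.Quotient.mk_surjective w
        obtain ⟨u, hu, v, hv, rfl⟩ := hsup z hw
        obtain ⟨c, rfl⟩ := Ideal.mem_span_singleton'.1 hu
        refine Ideal.mem_span_singleton'.2 ⟨Ideal.Quotient.mk L' c, ?_⟩
        exact (map_mul _ _ _).symm.trans (Ideal.Quotient.eq.2 (by rw [sub_add_cancel_left]; exact L'.neg_mem hv))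
      · exact fun h => hε0 (hinf ε (Ideal.mem_span_singleton_self ε) (Ideal.Quotient.eq_zero_iff_mem.1 h))
      · intro a ha
        obtain ⟨b, rfl⟩ := Ideal.Quotient.mk_surjective a
        have hb : b ∈ maximalIdeal (B : Type u) := (mem_maximalIdeal_iff _ _).2
          (show B.res b = 0 from (mem_maximalIdeal_iff (quot B L' (hL'J.trans hmax)) _).1 ha)
        exact (map_mul _ _ _).symm.trans ((congrArg _ (hkill b hb ε hεJ)).trans (map_zero _))
    let e : K' ≃ₗ[k] (RingHom.ker f₁.toAlgHom) := LinearEquiv.ofBijective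
      { toFun := fun w => ⟨Ideal.Quotient.mk L w.1.1, w.1.2⟩
        map_add' := fun _ _ => rfl
        map_smul' := fun _ _ => rfl }
      ⟨fun w w' h => by
        have h1 := Ideal.Quotient.eq.1 (congrArg Subtype.val h)
        have h2 : ((w : J) : B) - ((w' : J) : B) ∈ L' := ⟨(w - w' : K'), (w - w').2, rfl⟩
        exact Subtype.ext (Subtype.ext (sub_eq_zero.1 (hinf _ h1 h2))),
      fun w => by
        obtain ⟨z, hz⟩ := Ideal.Quotient.mk_surjective w.1
        obtain ⟨u, hu, v, ⟨v', hv', rfl⟩, huv⟩ := hsup z (by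
          have := w.2; rw [← hz] at this; exact this)
        refine ⟨⟨v', hv'⟩, Subtype.ext (hz ▸ Ideal.Quotient.eq.2 ?_)⟩
        change (J.subtype v') - z ∈ L
        rw [show J.subtype v' - z = -u by linear_combination huv]
        exact L.neg_mem hu⟩
    have hn₁ : Module.finrank k (RingHom.ker f₁.toAlgHom) = n := by
      rw [← e.finrank_eq]
      have h1 := Submodule.finrank_add_eq_of_isCompl hK'
      rw [finrank_span_singleton (fun h => hε0 (congrArg Subtype.val h)), hJn] at h1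
      omega
    obtain ⟨E₁⟩ := ih f₁ hsemi₁ hn₁ ((localHilb X x I₀).map p₁ I)
    obtain ⟨E₂⟩ := nonempty_fibre_equiv hsmall₂ ((localHilb X x I₀).map p₂ I)
    have hb := cmp_bijective_localHilb (X := X) (x := x) (I₀ := I₀) hfib hf₂s
    have hm₁ : ∀ K, (localHilb X x I₀).map f₁ ((localHilb X x I₀).map p₁ K) = (localHilb X x I₀).map p K :=
      fun K => by rw [← FunctorToTypes.map_comp_apply, hf₁]
    have hm₂ : ∀ K, (localHilb X x I₀).map f₂ ((localHilb X x I₀).map p₂ K) = (localHilb X x I₀).map p K :=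
      fun K => by rw [← FunctorToTypes.map_comp_apply, hf₂]
    let Ψ : {I' : (localHilb X x I₀).obj B // (localHilb X x I₀).map p I' = (localHilb X x I₀).map p I} →
        {K // (localHilb X x I₀).map f₁ K = (localHilb X x I₀).map f₁ ((localHilb X x I₀).map p₁ I)} ×
        {K // (localHilb X x I₀).map f₂ K = (localHilb X x I₀).map f₂ ((localHilb X x I₀).map p₂ I)} :=
      fun I' => (⟨_, (hm₁ I'.1).trans (I'.2.trans (hm₁ I).symm)⟩, ⟨_, (hm₂ I'.1).trans (I'.2.trans (hm₂ I).symm)⟩)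
    have hΨ : Function.Bijective Ψ := by
      refine ⟨fun a b h => Subtype.ext ((ArtFunLib.cmp_inj_iff _ hfib).1 hb.1 _ _
        (congrArg (fun q => q.1.1) h) (congrArg (fun q => q.2.1) h)), fun q => ?_⟩
      obtain ⟨K, hK₁, hK₂⟩ := (ArtFunLib.cmp_surj_iff _ hfib).1 hb.2 q.1.1 q.2.1
        (q.1.2.trans ((hm₁ I).trans ((hm₂ I).symm.trans q.2.2.symm)))
      exact ⟨⟨K, (hm₁ K).symm.trans ((congrArg _ hK₁).trans (q.1.2.trans (hm₁ I)))⟩,
        Prod.ext (Subtype.ext hK₁) (Subtype.ext hK₂)⟩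
    exact ⟨(Equiv.ofBijective Ψ hΨ).trans ((E₁.prodCongr E₂).trans
      ((Equiv.prodComm _ _).trans (Fin.consEquiv fun _ : Fin (n + 1) => ClSub.idealMod I₀ ⟶ ClSub.quotMod I₀)))⟩

end Groth.Agent.HilbLoc
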